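import Cfsg.Agent.H946.ExcNum_m3
import Cfsg.Agent.H500.E7.Row_mg_m3
import Cfsg.Agent.H341.ThreeList_m3
import Cfsg.Agent.R2.Spec.EE.CertSm_m3
import Cfsg.Agent.H603.SporElim
import Cfsg.Prelude.Def_Classification2
import Cfsg.Agent.H378.RegE7
import Cfsg.Agent.S1063
import Cfsg.Agent.R2.Spec.X1.TD.Spec_m3
import Cfsg.Agent.H375.InvFix_m3
import Cfsg.Agent.S4001
import Cfsg.Agent.S3359
import Cfsg.Agent.S3633
import Cfsg.Agent.S0042
import Cfsg.Agent.S0035
import Cfsg.Agent.S0033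
import Cfsg.Agent.R2.Spec.X3.PairIF_m3
import Cfsg.Agent.FastGrp
import Cfsg.Agent.Prune
set_option linter.all false

section
prune_inst 0x7fbffefcbfb93fffffff7e7ffff9dffe19d5dfffffdffb43ffe8ebff9fff031e3bc5fbaf1de0f8ff0ed6e0b430b87853f97eceffef6bdc7ffffd5ff45ffbee1ff7ffbf8911d390240f746ffffbf07fca7f3fffffffffffffffffffffffffffbeffffffffffff

-- part: R2/Spec/X1/E7/Def
section
prune_inst 0x4001034046c00000000000000420002202000000000008001710006000b0e14028040080040000d021064b0801800002813100000420000000a003000000600000002460042f50d08a00000001003580c00000000000000000000000000041000000000000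
set_option linter.all false
open scoped Cfsg.Agent.FastGrp

/-!
# `E₇(q)`, `q` odd: what is known of the simple section (helper13, S3435; after helper962, S3482)

* `s = true` : `q % 4 = 1`, the classes 14, 18 are not adjacent to 2; `s = false` : `q % 4 = 3`, the classes 7, 9;
* `IsT s i` : the class `i` is one of these two; `IsB s i` : one of the other two of `7, 9, 14, 18`;
* `RowS s p k S` : what is known of the simple section.
-/

set_option autoImplicit false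

namespace Cfsg.Agent.R2.Spec.X1.E7

open Cfsg.Agent.H436 Cfsg.Agent.H962.E7

universe u

/-- the classes not adjacent to 2 -/
def IsT (s : Bool) (i : ℕ) : Prop := if s then i = 14 ∨ i = 18 else i = 7 ∨ i = 9

/-- the other two classes -/
def IsB (s : Bool) (i : ℕ) : Prop := if s then i = 7 ∨ i = 9 else i = 14 ∨ i = 18

def t1 (s : Bool) : ℕ := if s then 14 else 7
def t2 (s : Bool) : ℕ := if s then 18 else 9
def b1 (s : Bool) : ℕ := if s then 7 else 14
def b2 (s : Bool) : ℕ := if s then 9 else 18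

theorem isT_t1 (s : Bool) : IsT s (t1 s) := by cases s <;> simp [IsT, t1]
theorem isT_t2 (s : Bool) : IsT s (t2 s) := by cases s <;> simp [IsT, t2]
theorem isB_b1 (s : Bool) : IsB s (b1 s) := by cases s <;> simp [IsB, b1]
theorem isB_b2 (s : Bool) : IsB s (b2 s) := by cases s <;> simp [IsB, b2]

theorem IsT.c4 {s : Bool} {i : ℕ} (h : IsT s i) : i ∈ C4 := by
  rw [H627.E7.mem_C4]
  cases s <;> simp [IsT] at h <;> (clear * - h; omega)

theorem IsB.c4 {s : Bool} {i : ℕ} (h : IsB s i) : i ∈ C4 := by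
  rw [H627.E7.mem_C4]
  cases s <;> simp [IsB] at h <;> (clear * - h; omega)

theorem IsT.c8 {s : Bool} {i : ℕ} (h : IsT s i) : i ∈ C8 := H627.E7.C4_sub h.c4
theorem IsB.c8 {s : Bool} {i : ℕ} (h : IsB s i) : i ∈ C8 := H627.E7.C4_sub h.c4

theorem IsT.ne {s : Bool} {i j : ℕ} (h : IsT s i) (h' : IsB s j) : i ≠ j := by
  cases s <;> simp [IsB] at h' <;> simp [IsT] at h <;> omega

theorem t_ne (s : Bool) : t1 s ≠ t2 s := by cases s <;> simp [t1, t2]
theorem b_ne (s : Bool) : b1 s ≠ b2 s := by cases s <;> simp [b1, b2]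

/-- the residue of `q` modulo 4 -/
def md (s : Bool) : ℕ := if s then 1 else 3

/-- what is known of the simple section -/
structure RowS (s : Bool) (p k : ℕ) (S : Type u) [Group S] : Prop where
  hp : p.Prime
  hk : 1 ≤ k
  h2 : p ≠ 2
  hs : p ^ k % 4 = md s
  simple : IsSimpleGroup S
  nonab : ¬ IsMulCommutative S
  pi : ∀ r : ℕ, r.Prime → r ∣ Nat.card S → r = p ∨ ∃ i ∈ ({8, 10, 12, 14, 18} : Finset ℕ), r ∣ (p ^ k) ^ i - 1
  tor : Tor S (p ^ k)
  nad : Nad S (p ^ k)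
  one : ∀ i ∈ C8, ∀ j ∈ C8, i ≠ j → Fl S (p ^ k) i ∨ Fl S (p ^ k) j
  top : ∀ i, IsT s i → Fl S (p ^ k) i

/-! ### arithmetic -/

section num

variable {s : Bool} {q : ℕ}

theorem gcd_two (h : q % 4 = md s) : Nat.gcd 2 (q - 1) = 2 := by
  cases s <;> simp [md] at h <;> exact Nat.gcd_eq_left (by (clear * - h; omega))

theorem odd_of (h : q % 4 = md s) : q % 2 = 1 := by
  cases s <;> simp [md] at h <;> (clear * - h; omega)

/-- the tori of the classes 7, 9, 14, 18 -/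
theorem TT_odd {i : ℕ} (h : q % 4 = md s) (hi : IsT s i) : ¬ 2 ∣ TT q i := by
  cases s
  · simp only [IsT, Bool.false_eq_true, if_false] at hi
    simp only [md, Bool.false_eq_true, if_false] at h
    have e : Nat.gcd 2 (q - 1) = 2 := Nat.gcd_eq_left (by omega)
    have hq1 : 1 ≤ q := by omega
    have h1 : (q : ZMod 4) = 3 := by
      have : (q : ZMod 4) = ((q % 4 : ℕ) : ZMod 4) := by rw [ZMod.natCast_mod]
      rw [this, h]; rfl
    have key : ∀ n : ℕ, ((n : ℕ) : ZMod 4) = 2 → ¬ 2 ∣ n / 2 := by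
      intro n hn h
      have h2 : n % 4 = 2 := by
        have h3 : ((n : ℕ) : ZMod 4) = ((2 : ℕ) : ZMod 4) := by rw [hn]; rfl
        have := (ZMod.natCast_eq_natCast_iff' _ _ _).1 h3
        omega
      omega
    rcases hi with rfl | rfl
    · rw [TT, if_pos rfl, e]
      apply key
      rw [Nat.cast_sub (Nat.one_le_pow _ _ hq1)]
      push_cast
      rw [h1]
      decide +kernel
    · rw [TT, if_neg (by norm_num), if_pos rfl, e]
      apply key
      rw [Nat.cast_mul, Nat.cast_sub hq1]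
      push_cast
      rw [h1]
      decide +kernel
  · simp only [IsT, if_true] at hi
    simp only [md, if_true] at h
    exact H627.E7.odd_TT hi h

/-- an odd prime does not divide both kinds of tori -/
theorem sep {i j r : ℕ} (hq : 2 ≤ q) (hr : r.Prime) (hr2 : r ≠ 2) (hi : IsT s i) (hj : IsB s j) (h : r ∣ TT q i)
    (h' : r ∣ TT q j) : False := by
  cases s
  · simp only [IsT, Bool.false_eq_true, if_false] at hi
    simp only [IsB, Bool.false_eq_true, if_false] at hj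
    exact H267.E7R.sep hq hr hr2 hj hi h' (H267.E7R.dvd_sub hq hi h)
  · simp only [IsT, if_true] at hi
    simp only [IsB, if_true] at hj
    exact H267.E7R.sep hq hr hr2 hi hj h (H267.E7R.dvd_sub hq hj h')

/-- the common divisors of two such tori are trivial -/
theorem cop {i j D : ℕ} (hq : 2 ≤ q) (h4 : q % 4 = md s) (hi : IsT s i) (hj : IsB s j) (h : D ∣ TT q i)
    (h' : D ∣ TT q j) : D = 1 := by
  by_contra hD
  have hr := Nat.minFac_prime hD
  have hd := Nat.minFac_dvd D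
  refine sep hq hr (fun h2 => ?_) hi hj (hd.trans h) (hd.trans h')
  rw [h2] at hd
  exact TT_odd h4 hi (hd.trans h)

/-- lower bound -/
theorem NN_ge {i : ℕ} (hi : i ∈ C4) (hq : 3 ≤ q) : q ^ 6 * 3 ≤ 28 * NN q i := by
  have h1 := H334.E7.Size.pn_le (q := q) (by omega) hi
  have e6 : q ^ 3 ≤ q ^ 6 := Nat.pow_le_pow_right (by omega) (by norm_num)
  have e7 : q ^ 7 = q * q ^ 6 := by ring
  rw [H627.E7.mem_C4] at hi
  rcases hi with rfl | rfl | rfl | rfl
  · change q ^ 7 - 1 ≤ NN q 7 * ((q - 1) * 7) at h1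
    obtain ⟨t, rfl⟩ : ∃ t, q = t + 1 := ⟨q - 1, by omega⟩
    rw [Nat.add_sub_cancel] at h1
    have h2 : t * (t + 1) ^ 6 ≤ (t + 1) ^ 7 - 1 := by
      have : 1 ≤ (t + 1) ^ 6 := Nat.one_le_pow _ _ (by omega)
      have : (t + 1) ^ 7 = t * (t + 1) ^ 6 + (t + 1) ^ 6 := by ring
      omega
    have h3 : t * (t + 1) ^ 6 ≤ t * (7 * NN (t + 1) 7) := by
      refine h2.trans (h1.trans (le_of_eq (by ring)))
    have h4 := Nat.le_of_mul_le_mul_left h3 (by omega)
    omega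
  · change (q - 1) * (q ^ 6 + q ^ 3 + 1) ≤ NN q 9 * ((q - 1) * 3) at h1
    have h3 : (q - 1) * (q ^ 6 + q ^ 3 + 1) ≤ (q - 1) * (3 * NN q 9) := h1.trans (le_of_eq (by ring))
    have h4 := Nat.le_of_mul_le_mul_left h3 (by omega)
    omega
  · change q ^ 7 + 1 ≤ NN q 14 * ((q + 1) * 7) at h1
    have h2 : (q + 1) * (3 * q ^ 6) ≤ 4 * (q * q ^ 6) := by nlinarith only [hq, Nat.zero_le (q ^ 6)]
    have h3 : (q + 1) * (3 * q ^ 6) ≤ (q + 1) * (28 * NN q 14) := by
      calc (q + 1) * (3 * q ^ 6) ≤ 4 * (q ^ 7 + 1) := by omega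
        _ ≤ 4 * (NN q 14 * ((q + 1) * 7)) := Nat.mul_le_mul_left _ h1
        _ = _ := by ring
    have h4 := Nat.le_of_mul_le_mul_left h3 (by omega)
    omega
  · change (q + 1) * (q ^ 6 - q ^ 3 + 1) ≤ NN q 18 * ((q + 1) * 3) at h1
    have h3 : (q + 1) * (q ^ 6 - q ^ 3 + 1) ≤ (q + 1) * (3 * NN q 18) := h1.trans (le_of_eq (by ring))
    have h4 := Nat.le_of_mul_le_mul_left h3 (by omega)
    have h5 : 27 ≤ q ^ 3 := by
      calc 27 = 3 ^ 3 := by norm_num
        _ ≤ q ^ 3 := Nat.pow_le_pow_left hq 3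
    have h6 : 27 * q ^ 3 ≤ q ^ 6 := by
      calc 27 * q ^ 3 ≤ q ^ 3 * q ^ 3 := Nat.mul_le_mul_right _ h5
        _ = q ^ 6 := by ring
    omega

/-- upper bound -/
theorem TT_le {i : ℕ} (hi : i ∈ C4) (hq : 3 ≤ q) (h2 : Nat.gcd 2 (q - 1) = 2) : 3 * TT q i ≤ 2 * q ^ 7 := by
  have h1 := H334.E7.Lay.tt_mul (u := q) (by omega) hi
  rw [h2] at h1
  have e6 : q ^ 3 ≤ q ^ 6 := Nat.pow_le_pow_right (by omega) (by norm_num)
  have e7 : q ^ 7 = q * q ^ 6 := by ring
  have e1 : 1 ≤ q ^ 6 := Nat.one_le_pow _ _ (by omega)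
  have e2 : 1 ≤ q ^ 3 := Nat.one_le_pow _ _ (by omega)
  rw [H627.E7.mem_C4] at hi
  rcases hi with rfl | rfl | rfl | rfl
  · change _ = q ^ 7 - 1 at h1
    omega
  · change _ = (q - 1) * (q ^ 6 + q ^ 3 + 1) at h1
    have h5 : 27 ≤ q ^ 3 := by
      calc 27 = 3 ^ 3 := by norm_num
        _ ≤ q ^ 3 := Nat.pow_le_pow_left hq 3
    have h6 : 27 * q ^ 3 ≤ q ^ 6 := by
      calc 27 * q ^ 3 ≤ q ^ 3 * q ^ 3 := Nat.mul_le_mul_right _ h5
        _ = q ^ 6 := by ring
    have h3 : (q - 1) * (q ^ 6 + q ^ 3 + 1) ≤ q * (q ^ 6 + q ^ 3 + 1) := Nat.mul_le_mul_right _ (by omega)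
    have h4 : 3 * (q * (q ^ 6 + q ^ 3 + 1)) ≤ 4 * (q * q ^ 6) := by
      calc 3 * (q * (q ^ 6 + q ^ 3 + 1)) = q * (3 * (q ^ 6 + q ^ 3 + 1)) := by ring
        _ ≤ q * (4 * q ^ 6) := Nat.mul_le_mul_left _ (by omega)
        _ = _ := by ring
    omega
  · change _ = q ^ 7 + 1 at h1
    have : 1 ≤ q ^ 7 := Nat.one_le_pow _ _ (by omega)
    have : 3 ≤ q ^ 7 := hq.trans (Nat.le_self_pow (by norm_num) q)
    omega
  · change _ = (q + 1) * (q ^ 6 - q ^ 3 + 1) at h1
    have h3 : (q + 1) * (q ^ 6 - q ^ 3 + 1) ≤ (q + 1) * q ^ 6 := Nat.mul_le_mul_left _ (by omega)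
    have h4 : 3 * ((q + 1) * q ^ 6) ≤ 4 * (q * q ^ 6) := by nlinarith only [hq, e1]
    omega

end num

/-! ### groups -/

section row

variable {s : Bool} {p k : ℕ} {S : Type u} [Group S]

theorem three_le (R : RowS s p k S) : 3 ≤ p ^ k := by
  have h1 := R.hp.two_le
  have h2 := R.h2
  have h3 := R.hk
  calc 3 ≤ p := by omega
    _ ≤ p ^ k := Nat.le_self_pow (by omega) p

theorem two_le (R : RowS s p k S) : 2 ≤ p ^ k := by
  have := three_le R
  omega

theorem not_two (R : RowS s p k S) {i r : ℕ} (hi : IsT s i) (hr : Prim (p ^ k) i r) {x : S}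
    (hx : r ∣ orderOf x) : ¬ 2 ∣ orderOf x := fun h2 =>
  TT_odd R.hs hi (h2.trans (R.tor i hi.c4 x r hr hx))

theorem nadj_two (R : RowS s p k S) {i r : ℕ} (hi : IsT s i) (hr : Prim (p ^ k) i r) :
    ¬ ∃ x : S, orderOf x = 2 * r := by
  rintro ⟨x, hx⟩
  exact not_two R hi hr (x := x) (by rw [hx]; exact dvd_mul_left _ _) (by rw [hx]; exact dvd_mul_right _ _)

theorem nadj_two' (R : RowS s p k S) {i r : ℕ} (hi : IsT s i) (hr : Prim (p ^ k) i r) :
    ¬ ∃ x : S, orderOf x = r * 2 := by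
  rw [mul_comm]
  exact nadj_two R hi hr

theorem clash (R : RowS s p k S) {a b r w t : ℕ} (ha : IsT s a) (hb : IsB s b) (hr : Prim (p ^ k) a r)
    (hw : Prim (p ^ k) b w) (ht : t.Prime) (ht2 : t ≠ 2) (h1 : ∃ x : S, orderOf x = r * t)
    (h2 : ∃ x : S, orderOf x = w * t) : False := by
  obtain ⟨x, hx⟩ := h1
  obtain ⟨y, hy⟩ := h2
  have h3 := R.tor a ha.c4 x r hr (hx ▸ Dvd.intro t rfl)
  have h4 := R.tor b hb.c4 y w hw (hy ▸ Dvd.intro t rfl)
  exact sep (two_le R) ht ht2 ha hb ((Dvd.intro_left r rfl).trans (hx ▸ h3)) ((Dvd.intro_left w rfl).trans (hy ▸ h4))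

theorem ex8 (R : RowS s p k S) {i : ℕ} (hi : i ∈ C8) : ∃ r, Prim (p ^ k) i r :=
  H627.E7.exists_prim8 hi (two_le R)

theorem ex_a (R : RowS s p k S) {a : ℕ} (ha : IsT s a) : ∃ r, Prim (p ^ k) a r ∧ r ∣ Nat.card S := by
  obtain ⟨r, hr⟩ := ex8 R ha.c8
  exact ⟨r, hr, (R.top a ha).dvd r hr⟩

theorem side (R : RowS s p k S) : ∃ b, IsB s b ∧ Fl S (p ^ k) b := by
  rcases R.one (b1 s) (isB_b1 s).c8 (b2 s) (isB_b2 s).c8 (b_ne s) with h | h
  · exact ⟨_, isB_b1 s, h⟩
  · exact ⟨_, isB_b2 s, h⟩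

theorem ex_b (R : RowS s p k S) : ∃ b, IsB s b ∧ ∃ w, Prim (p ^ k) b w ∧ w ∣ Nat.card S := by
  obtain ⟨b, hb, hF⟩ := side R
  obtain ⟨r, hr⟩ := ex8 R hb.c8
  exact ⟨b, hb, r, hr, hF.dvd r hr⟩

/-- one prime for each of the classes of `C ⊆ C8` -/
theorem coq_of (R : RowS s p k S) (C : Finset ℕ) (hC : C ⊆ C8) (hF : ∀ i ∈ C, Fl S (p ^ k) i) :
    ∃ f : ℕ → ℕ, (∀ i ∈ C, Prim (p ^ k) i (f i)) ∧ H627.E7.IsCoq S (C.image f) ∧ (∀ r ∈ C.image f, 3 < r) ∧
      (C.image f).card = C.card := by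
  classical
  have hex : ∀ i ∈ C, ∃ r, Prim (p ^ k) i r := fun i hi => H627.E7.exists_prim8 (hC hi) (two_le R)
  choose! f hf using hex
  refine ⟨f, hf, ⟨?_, ?_, ?_⟩, ?_, ?_⟩
  · intro r hr
    obtain ⟨i, hi, rfl⟩ := Finset.mem_image.1 hr
    exact (hf i hi).prime
  · intro r hr
    obtain ⟨i, hi, rfl⟩ := Finset.mem_image.1 hr
    exact (hF i hi).dvd _ (hf i hi)
  · intro r hr s hs hrs
    obtain ⟨i, hi, rfl⟩ := Finset.mem_image.1 hr
    obtain ⟨j, hj, rfl⟩ := Finset.mem_image.1 hs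
    exact R.nad i (hC hi) j (hC hj) (fun h => hrs (by rw [h])) _ _ (hf i hi) (hf j hj)
  · intro r hr
    obtain ⟨i, hi, rfl⟩ := Finset.mem_image.1 hr
    exact H627.E7.three_lt (hC hi) (two_le R) (hf i hi)
  · apply Finset.card_image_of_injOn
    intro i hi j hj hij
    have h1 := hf i hi
    have h2 := hf j hj
    rw [← hij] at h2
    exact h1.unique h2

/-- **A coclique of seven primes `> 3`.** -/
theorem coq (R : RowS s p k S) : ∃ ρ : Finset ℕ, H627.E7.IsCoq S ρ ∧ (∀ r ∈ ρ, 3 < r) ∧ ρ.card = 7 := by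
  classical
  obtain ⟨C, hC, hcard, hF⟩ : ∃ C : Finset ℕ, C ⊆ C8 ∧ C.card = 7 ∧ ∀ i ∈ C, Fl S (p ^ k) i := by
    by_cases h : ∀ i ∈ C8, Fl S (p ^ k) i
    · exact ⟨C8.erase 5, Finset.erase_subset _ _, by decide, fun i hi => h i (Finset.mem_of_mem_erase hi)⟩
    · push Not at h
      obtain ⟨i, hi, hni⟩ := h
      refine ⟨C8.erase i, Finset.erase_subset _ _, ?_, fun j hj => ?_⟩
      · rw [Finset.card_erase_of_mem hi]
        decide
      · obtain ⟨h1, h2⟩ := Finset.mem_erase.1 hj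
        exact (R.one j h2 i hi h1).resolve_right hni
  obtain ⟨f, -, h1, h2, h3⟩ := coq_of R C hC hF
  exact ⟨_, h1, h2, h3.trans hcard⟩

end row

end Cfsg.Agent.R2.Spec.X1.E7

private theorem dce_203f9e922e1e : _root_.True := by
  try have : _root_.True := by simp only [_root_.Cfsg.Agent.R2.Spec.X1.E7.t1.eq_1]
  try have : _root_.True := by simp only [_root_.Cfsg.Agent.R2.Spec.X1.E7.b2.eq_1]
  try have : _root_.True := by simp only [_root_.Cfsg.Agent.R2.Spec.X1.E7.b1.eq_1]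
  try have : _root_.True := by simp only [_root_.Cfsg.Agent.R2.Spec.X1.E7.IsT.eq_1]
  try have : _root_.True := by simp only [_root_.Cfsg.Agent.R2.Spec.X1.E7.IsB.eq_1]
  try have : _root_.True := by simp only [_root_.Cfsg.Agent.R2.Spec.X1.E7.md.eq_1]
  try have : _root_.True := by simp only [_root_.Cfsg.Agent.R2.Spec.X1.E7.t2.eq_1]
  exact _root_.True.intro
end

-- part: R2/Spec/X1/E7/Orth
section
prune_inst 0x4001034046c00000000000000020002202000000000008001604002000b0800028040000000000002106490801000002002000000400000000a0030000006000000004600c2fd0d08800000001001400000000000000000000000000000000000000000000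
set_option linter.all false
open scoped Cfsg.Agent.FastGrp

-- part: R2/Spec/X1/E7/OrthNum
section
/-!
# `E₇(q)`, `q` odd, rows `PΩ±`: arithmetic (helper13, S3435; after helper706)
-/

set_option autoImplicit false

namespace Cfsg.Agent.R2.Spec.X1.E7

open Cfsg.Agent.H436 Cfsg.Agent.H962.E7 Cfsg.Agent.H334.E7.Lay

/-- `Φ₁₄`, `Φ₁₈` -/
theorem core_add {q X Y e : ℤ} (hq : 9 ≤ q) (hX : 1 ≤ X) (he : |e| ≤ 42)
    (h : X * (q ^ 6 - q ^ 5 + q ^ 4 - q ^ 3 + q ^ 2 - q + 1) - Y * (q ^ 6 - q ^ 3 + 1) = e) : q ^ 2 ≤ X := by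
  obtain ⟨he1, he2⟩ := abs_le.1 he
  set! c := X - Y with hc
  set! D := q ^ 5 - q ^ 4 - q ^ 2 + q with hD
  have hq2 : 81 ≤ q ^ 2 := by nlinarith only [hq]
  have hq3 : 729 ≤ q ^ 3 := by nlinarith only [hq, hq2]
  have hq4 : 6561 ≤ q ^ 4 := by nlinarith only [hq2]
  have hq41 : 729 * q ≤ q ^ 4 := by nlinarith only [hq, hq2]
  have hD1 : 1000 ≤ D := by
    have h1 : D = q * (q - 1) * (q ^ 3 - 1) := by rw [hD]; ring
    rw [h1]
    have h2 : 72 ≤ q * (q - 1) := by nlinarith only [hq2]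
    nlinarith only [hq, hq2, hq4]
  have hP : 0 < q ^ 6 - q ^ 3 + 1 := by
    have : q ^ 6 - q ^ 3 + 1 = q ^ 3 * (q ^ 3 - 1) + 1 := by ring
    rw [this]
    have : 0 < q ^ 3 * (q ^ 3 - 1) := by
      apply mul_pos <;> linarith only [hq3]
    linarith
  have h1 : c * (q ^ 6 - q ^ 3 + 1) = X * D + e := by
    rw [hc, hD, ← h]; ring
  have hc1 : 1 ≤ c := by
    by_contra hcon
    have h2 : c ≤ 0 := by omega
    have h3 : c * (q ^ 6 - q ^ 3 + 1) ≤ 0 := mul_nonpos_of_nonpos_of_nonneg h2 hP.le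
    have h4 : D ≤ X * D := by nlinarith only [hX, hD1]
    linarith
  have h2 : (X - c * (q + 1)) * D = c * (q ^ 4 - q + 1) - e := by
    have : (X - c * (q + 1)) * D = X * D - c * ((q + 1) * D) := by ring
    rw [this, show X * D = c * (q ^ 6 - q ^ 3 + 1) - e by linarith only [h], hD]
    ring
  have hR : 42 < q ^ 4 - q + 1 := by linarith only [hq4, hq41]
  have h3 : 1 ≤ X - c * (q + 1) := by
    by_contra hcon
    have h4 : X - c * (q + 1) ≤ 0 := by omega
    have h5 : (X - c * (q + 1)) * D ≤ 0 := mul_nonpos_of_nonpos_of_nonneg h4 (by linarith)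
    have h6 : q ^ 4 - q + 1 ≤ c * (q ^ 4 - q + 1) := by nlinarith only [hX, h, he2, hq2, hq4, hD1, hc1, hcon, h5]
    linarith
  have h4 : q - 1 ≤ c := by
    by_contra hcon
    have h5 : c ≤ q - 2 := by omega
    have h6 : c * (q ^ 4 - q + 1) ≤ (q - 2) * (q ^ 4 - q + 1) := mul_le_mul_of_nonneg_right h5 (by linarith only [hq4, hq41])
    have h7 : D ≤ (X - c * (q + 1)) * D := by nlinarith only [hD1, h3]
    have h8 : D - (q - 2) * (q ^ 4 - q + 1) = q ^ 4 - 2 * q + 2 := by rw [hD]; ring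
    linarith only [h, he1, hq4, hq41, h6, h7]
  have h5 : (q - 1) * (q + 1) ≤ c * (q + 1) := mul_le_mul_of_nonneg_right h4 (by linarith)
  linarith only [h3, h5]

/-- `Φ₇`, `Φ₉` -/
theorem core_sub {q X Y e : ℤ} (hq : 3 ≤ q) (hX : 1 ≤ X) (he : |e| ≤ 42)
    (h : X * (q ^ 6 + q ^ 5 + q ^ 4 + q ^ 3 + q ^ 2 + q + 1) - Y * (q ^ 6 + q ^ 3 + 1) = e) : q ^ 2 ≤ X := by
  obtain ⟨he1, he2⟩ := abs_le.1 he
  set! c := Y - X with hc
  set! D := q ^ 5 + q ^ 4 + q ^ 2 + q with hD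
  have hq2 : 9 ≤ q ^ 2 := by nlinarith only [hq]
  have hq3 : 27 ≤ q ^ 3 := by nlinarith only [hq, hq2]
  have hq4 : 81 ≤ q ^ 4 := by nlinarith only [hq2]
  have hD1 : 81 * (q + 1) ≤ D := by
    have h1 : D = q ^ 4 * (q + 1) + q ^ 2 + q := by rw [hD]; ring
    rw [h1]
    have : 81 * (q + 1) ≤ q ^ 4 * (q + 1) := mul_le_mul_of_nonneg_right hq4 (by linarith)
    linarith
  have hP : 0 < q ^ 6 + q ^ 3 + 1 := by positivity
  have h1 : c * (q ^ 6 + q ^ 3 + 1) = X * D - e := by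
    rw [hc, hD, ← h]; ring
  have hc1 : 1 ≤ c := by
    by_contra hcon
    have h2 : c ≤ 0 := by omega
    have h3 : c * (q ^ 6 + q ^ 3 + 1) ≤ 0 := mul_nonpos_of_nonpos_of_nonneg h2 hP.le
    have h4 : D ≤ X * D := by nlinarith only [hq, hX, hD1]
    linarith
  have h2 : (X - c * (q - 1)) * D = c * (q ^ 4 + q + 1) + e := by
    have : (X - c * (q - 1)) * D = X * D - c * ((q - 1) * D) := by ring
    rw [this, show X * D = c * (q ^ 6 + q ^ 3 + 1) + e by linarith only [h], hD]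
    ring
  have hR : 42 < q ^ 4 + q + 1 := by linarith only [hq, hq4]
  have h3 : 1 ≤ X - c * (q - 1) := by
    by_contra hcon
    have h4 : X - c * (q - 1) ≤ 0 := by omega
    have h5 : (X - c * (q - 1)) * D ≤ 0 := mul_nonpos_of_nonpos_of_nonneg h4 (by linarith)
    have h6 : q ^ 4 + q + 1 ≤ c * (q ^ 4 + q + 1) := by nlinarith only [hX, h, he1, hq4, hc1, hcon, h5]
    linarith
  have h4 : q + 1 ≤ c := by
    by_contra hcon
    have h5 : c ≤ q := by omega
    have h6 : c * (q ^ 4 + q + 1) ≤ q * (q ^ 4 + q + 1) := mul_le_mul_of_nonneg_right h5 (by linarith)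
    have h7 : D ≤ (X - c * (q - 1)) * D := by nlinarith only [hq, hD1, h3]
    have h8 : D - q * (q ^ 4 + q + 1) = q ^ 4 := by rw [hD]; ring
    linarith only [h, he2, hq4, h6, h7]
  have h5 : (q + 1) * (q - 1) ≤ c * (q - 1) := mul_le_mul_of_nonneg_right h4 (by linarith)
  linarith only [h3, h5]

theorem gcd_pc' {c : ℕ} (hc : c.Prime) (x : ℕ) : Nat.gcd c x = 1 ∨ (Nat.gcd c x = c ∧ c ∣ x) := by
  rcases (Nat.dvd_prime hc).1 (Nat.gcd_dvd_left c x) with h | h
  · exact Or.inl h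
  · exact Or.inr ⟨h, h ▸ Nat.gcd_dvd_right c x⟩

theorem gbound_add {q : ℕ} (h : 9 ≤ q) (h4 : q % 4 = 1) :
    3 * (Nat.gcd 7 (q + 1) * Nat.gcd 3 (q + 1)) * (q + 1) < 2 * q ^ 2 := by
  rcases gcd_pc' (c := 7) (by norm_num) (q + 1) with h7 | ⟨h7, h7'⟩ <;>
    rcases gcd_pc' (c := 3) (by norm_num) (q + 1) with h3 | ⟨h3, h3'⟩ <;> rw [h7, h3]
  · nlinarith only [h]
  · nlinarith only [h]
  · have : 13 ≤ q := by (solve | lia | omega)
    nlinarith only [this]
  · have : 41 ≤ q := by (clear * - h4 h7' h3'; solve | lia | omega)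
    nlinarith only [this]

theorem gbound_sub {q : ℕ} (h : 3 ≤ q) (h4 : q % 4 = 3) :
    3 * (Nat.gcd 7 (q - 1) * Nat.gcd 3 (q - 1)) * (q - 1) < 2 * q ^ 2 := by
  obtain ⟨t, rfl⟩ : ∃ t, q = t + 1 := ⟨q - 1, by omega⟩
  rw [Nat.add_sub_cancel]
  rcases gcd_pc' (c := 7) (by norm_num) t with h7 | ⟨h7, h7'⟩ <;>
    rcases gcd_pc' (c := 3) (by norm_num) t with h3 | ⟨h3, h3'⟩ <;> rw [h7, h3]
  · nlinarith only []
  · have : 6 ≤ t := by omega
    nlinarith only [this]
  · have : 14 ≤ t := by (clear * - h4 h7'; solve | lia | omega)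
    nlinarith only [this]
  · have : 42 ≤ t := by (solve | lia | omega)
    nlinarith only [this]

/-- the size argument, both signs -/
theorem num_final {s : Bool} {q : ℕ} (hq : 3 ≤ q) (h4 : q % 4 = md s) {X Y w α β : ℕ}
    (h1 : NN q (t1 s) ∣ X) (h2 : X * w ∣ TT q (t1 s)) (h3 : NN q (t2 s) ∣ Y) (hX : 0 < X)
    (hα : 1 ≤ α) (hαw : α ≤ 3 * w) (h : |(α : ℤ) * X - β * Y| ≤ 2) : False := by
  have hi := (isT_t1 s).c4
  have hj := (isT_t2 s).c4
  obtain ⟨x, rfl⟩ := h1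
  obtain ⟨y, rfl⟩ := h3
  have e1 := nn_mul (q := q) (by omega) hi
  have e3 := tt_mul (u := q) (by omega) hi
  rw [gcd_two h4] at e3
  have f1 := nn_gcd (q := q) (by omega) hi
  have f2 := nn_gcd (q := q) (by omega) hj
  have hNpos : 0 < NN q (t1 s) := Nat.pos_of_mul_pos_right hX
  have hxpos : 0 < x := Nat.pos_of_mul_pos_left hX
  -- `2 x w ≤ L g`
  have hT : 2 * (x * w) ∣ LL q (t1 s) * Nat.gcd (ee (t1 s)) (LL q (t1 s)) := by
    have h5 : NN q (t1 s) * (2 * (x * w)) ∣ NN q (t1 s) * (LL q (t1 s) * Nat.gcd (ee (t1 s)) (LL q (t1 s))) := by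
      rw [e1, ← e3]
      have h6 : 2 * (NN q (t1 s) * x * w) ∣ 2 * TT q (t1 s) := Nat.mul_dvd_mul_left 2 h2
      have e1 : NN q (t1 s) * (2 * (x * w)) = 2 * (NN q (t1 s) * x * w) := by ring
      rw [e1]
      exact h6
    exact Nat.dvd_of_mul_dvd_mul_left hNpos h5
  by_cases h5 : q = 5
  · -- `q = 5`
    subst h5
    have hs : s = true := by
      cases s
      · simp [md] at h4
      · rfl
    subst hs
    have g1 : LL 5 (t1 true) * Nat.gcd (ee (t1 true)) (LL 5 (t1 true)) = 6 := by decide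
    have n1 : NN 5 (t1 true) = 13021 := by norm_num [NN, t1]
    have n2 : NN 5 (t2 true) = 5167 := by norm_num [NN, t2]
    rw [g1] at hT
    have hle := Nat.le_of_dvd (by norm_num) hT
    rw [n1, n2] at h
    have hn : α * x ≤ 9 := by
      calc α * x ≤ 3 * w * x := Nat.mul_le_mul_right _ hαw
        _ = 3 * (x * w) := by ring
        _ ≤ 9 := by omega
    have hn0 : 0 < α * x := by positivity
    have h6 : |13021 * ((α * x : ℕ) : ℤ) - 5167 * ((β * y : ℕ) : ℤ)| ≤ 2 := by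
      rw [show 13021 * ((α * x : ℕ) : ℤ) - 5167 * ((β * y : ℕ) : ℤ) =
        (α : ℤ) * ((13021 * x : ℕ) : ℤ) - β * ((5167 * y : ℕ) : ℤ) by push_cast; ring]
      exact h
    generalize α * x = n at hn hn0 h6
    generalize β * y = m at h6
    rw [abs_le] at h6
    obtain ⟨h7, h8⟩ := h6
    interval_cases n <;> (clear * - h7 h8; omega)
  · have hle := Nat.le_of_dvd (by
      have : 0 < LL q (t1 s) := by unfold LL; split_ifs <;> omega
      have : 0 < Nat.gcd (ee (t1 s)) (LL q (t1 s)) := Nat.gcd_pos_of_pos_left _ (ee_pos _)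
      positivity) hT
    have hg7 : Nat.gcd (ee (t1 s)) (LL q (t1 s)) ≤ 7 := by
      cases s
      · exact Nat.gcd_le_left _ (by decide)
      · exact Nat.gcd_le_left _ (by decide)
    have hg3 : Nat.gcd (ee (t2 s)) (LL q (t2 s)) ≤ 3 := by
      cases s
      · exact Nat.gcd_le_left _ (by decide)
      · exact Nat.gcd_le_left _ (by decide)
    obtain ⟨g7, hg7e⟩ : ∃ g7, g7 = Nat.gcd (ee (t1 s)) (LL q (t1 s)) := ⟨_, rfl⟩
    obtain ⟨g3, hg3e⟩ : ∃ g3, g3 = Nat.gcd (ee (t2 s)) (LL q (t2 s)) := ⟨_, rfl⟩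
    have hg7p : 0 < g7 := hg7e ▸ Nat.gcd_pos_of_pos_left _ (ee_pos _)
    have hg3p : 0 < g3 := hg3e ▸ Nat.gcd_pos_of_pos_left _ (ee_pos _)
    rw [← hg7e] at hle hg7 f1
    rw [← hg3e] at hg3 f2
    have hG : g7 * g3 ≤ 21 := by
      calc g7 * g3 ≤ 7 * 3 := Nat.mul_le_mul hg7 hg3
        _ = 21 := rfl
    have hmain : ((α * g3 * x : ℕ) : ℤ) * BZ q (t1 s) - ((β * g7 * y : ℕ) : ℤ) * BZ q (t2 s) =
        (g7 * g3 : ℕ) * ((α : ℤ) * (NN q (t1 s) * x : ℕ) - β * (NN q (t2 s) * y : ℕ)) := by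
      rw [← f1, ← f2]
      push_cast
      ring
    have hX1 : (1 : ℤ) ≤ ((α * g3 * x : ℕ) : ℤ) := by
      have : 0 < α * g3 * x := by positivity
      exact_mod_cast this
    have hE : |(g7 * g3 : ℕ) * ((α : ℤ) * (NN q (t1 s) * x : ℕ) - β * (NN q (t2 s) * y : ℕ))| ≤ 42 := by
      rw [abs_mul]
      have h5 : |((g7 * g3 : ℕ) : ℤ)| ≤ 21 := by
        rw [abs_of_nonneg (by (clear * - hg7p hg3p; positivity))]
        exact_mod_cast hG
      calc _ ≤ (21 : ℤ) * 2 := mul_le_mul h5 h (abs_nonneg _) (by norm_num)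
        _ = 42 := by norm_num
    have hle' : q ^ 2 ≤ α * g3 * x := by
      cases s
      · have := core_sub (q := (q : ℤ)) (by exact_mod_cast hq) hX1 hE hmain
        exact_mod_cast this
      · have h9 : 9 ≤ q := by
          simp only [md, if_true] at h4
          omega
        have := core_add (q := (q : ℤ)) (by exact_mod_cast h9) hX1 hE hmain
        exact_mod_cast this
    have hb : 3 * (g7 * g3) * LL q (t1 s) < 2 * q ^ 2 := by
      rw [hg7e, hg3e]
      cases s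
      · simp only [md, Bool.false_eq_true, if_false] at h4
        exact gbound_sub hq h4
      · simp only [md, if_true] at h4
        exact gbound_add (by omega) h4
    have h7 : 2 * (α * g3 * x) ≤ 3 * (g7 * g3) * LL q (t1 s) := by
      calc 2 * (α * g3 * x) ≤ 2 * (3 * w * g3 * x) := by gcongr
        _ = 3 * g3 * (2 * (x * w)) := by ring
        _ ≤ 3 * g3 * (LL q (t1 s) * g7) := by gcongr
        _ = 3 * (g7 * g3) * LL q (t1 s) := by ring
    omega

end Cfsg.Agent.R2.Spec.X1.E7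
end

-- part: R2/Spec/X1/E7/Orth
section
/-!
# `E₇(q)`, `q` odd: the rows `PΩ±` (helper13, S3435; after helper706, S3482)
-/

set_option autoImplicit false
set_option linter.unusedVariables false
set_option linter.unusedSectionVars false

namespace Cfsg.Agent.R2.Spec.X1.E7

open Cfsg Cfsg.Agent.H436 Cfsg.Agent.H962.E7 Cfsg.Agent.H72.AdjOrth Cfsg.Agent.H377
open Cfsg.Agent.H706.ESeven (exists_odd_prime c4_odd Ctx Top dvd_of_even dvd_of_odd one_of_dvd sub_mul_add card_ge_one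
  ctx_plus ctx_minus AllC sv2 minus_adj_s ordM)

universe u

section row

variable {σ : Bool} {p k : ℕ} {S : Type u} [Group S] {F : Type} [Field F] [Finite F] {m : ℕ} {δ : ℤ}

/-- the classes of nonadjacent primes -/
theorem ee_ne (R : RowS σ p k S) (C : Ctx S F m δ) {a b x y : ℕ} (ha : a ∈ C4) (hb : b ∈ C4) (hab : a ≠ b)
    (hx : Prim (p ^ k) a x) (hy : Prim (p ^ k) b y) (hd : x ∣ Nat.card S) (hxv : ¬ x ∣ Nat.card F)
    (hyv : ¬ y ∣ Nat.card F) : ee (Nat.card F) x ≠ ee (Nat.card F) y := by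
  intro h
  have h2 : ∀ c ∈ C4, 2 ≤ c := by decide
  have hx2 := hx.odd (h2 a ha)
  have hy2 := hy.odd (h2 b hb)
  refine R.nad a (H627.E7.C4_sub ha) b (H627.E7.C4_sub hb) hab x y hx hy
    (C.clq hx.prime hy.prime (by omega) (by omega) ?_ hxv hyv hd h)
  rintro rfl
  exact hab (hx.unique hy)

theorem not_adj (R : RowS σ p k S) {a b x y : ℕ} (ha : a ∈ C4) (hb : b ∈ C4) (hab : a ≠ b)
    (hx : Prim (p ^ k) a x) (hy : Prim (p ^ k) b y) : ¬ ∃ g : S, orderOf g = x * y :=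
  R.nad a (H627.E7.C4_sub ha) b (H627.E7.C4_sub hb) hab x y hx hy

/-- the top classes of the primes of the classes 14, 18 -/
theorem top_a (R : RowS σ p k S) (C : Ctx S F m δ) {a x : ℕ} (ha : IsT σ a) (hx : Prim (p ^ k) a x)
    (hd : x ∣ Nat.card S) : ¬ x ∣ Nat.card F ∧ _root_.Cfsg.Agent.H706.ESeven.Top m δ (ee (Nat.card F) x) :=
  C.top hx.prime (c4_odd ha.c4 hx).2 hd (nadj_two R ha hx)

/-- **The clash**: `s` odd prime dividing `v² - 1`, adjacent to a prime of class 14 or 18 and not to 2 … -/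
theorem clash_s (R : RowS σ p k S) (C : Ctx S F m δ) {a b x w s : ℕ} (ha : IsT σ a) (hb : IsB σ b)
    (hx : Prim (p ^ k) a x) (hw : Prim (p ^ k) b w) (hwt : wO (Nat.card F) w + 2 ≤ m)
    (hs : s.Prime) (hs2 : s ≠ 2) (hsv : s ∣ Nat.card F + 1 ∨ s ∣ Nat.card F - 1) (h1 : ∃ g : S, orderOf g = x * s) :
    False := by
  have hsv2 : s ∣ Nat.card F ^ 2 - 1 := by
    have e1 : Nat.card F ^ (2 * 1) - 1 = (Nat.card F ^ 1 + 1) * (Nat.card F ^ 1 - 1) := sub_mul_add
    rw [mul_one, pow_one] at e1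
    rw [e1]
    rcases hsv with h | h
    · exact h.mul_right _
    · exact h.mul_left _
  obtain ⟨-, h2, -⟩ := one_of_dvd (F := F) hs hs2 hsv2
  have hab : a ≠ b := ha.ne hb
  have hne : w ≠ s := by
    rintro rfl
    exact not_adj R ha.c4 hb.c4 hab hx hw h1
  exact clash R ha hb hx hw hs hs2 h1 (C.adj hw.prime hs hne (by rw [h2]; omega))

end row


section plus

variable {σ : Bool} {p k : ℕ} {S : Type u} [Group S] {F : Type} [Field F] [Finite F] {m : ℕ}

theorem plus_core (R : RowS σ p k S) (C : Ctx S F m 1) {a a' b x y w : ℕ} (ha : IsT σ a)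
    (ha' : IsT σ a') (hb : IsB σ b) (hx : Prim (p ^ k) a x) (hy : Prim (p ^ k) a' y)
    (hw : Prim (p ^ k) b w) (hxv : ¬ x ∣ Nat.card F) (hyv : ¬ y ∣ Nat.card F)
    (hxc : ee (Nat.card F) x = 2 * (m - 1))
    (hyc : ee (Nat.card F) y = m - 1 ∨ ee (Nat.card F) y = m)
    (hwt : wO (Nat.card F) w + 2 ≤ m) : False := by
  have hm := C.hm
  obtain ⟨hxo, hx2⟩ := c4_odd ha.c4 hx
  obtain ⟨hyo, hy2⟩ := c4_odd ha'.c4 hy
  have hX := dvd_of_even hx.prime hxv hxc
  by_cases hv3 : Nat.card F = 3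
  · refine nadj_two R ha hx (C.two_blk (ε := -1) (ε' := -1) (by norm_num) hxo (elt_tor_minus (by (clear * - hm; omega)) hX)
      (elt_ell ?_))
    rw [hv3]
  · obtain ⟨s, hs, hs2, hsv⟩ := exists_odd_prime (v := Nat.card F) (Finite.one_lt_card) hv3
    have hso := hs.odd_of_ne_two hs2
    have hsv2 : s ∣ Nat.card F ^ 2 - 1 := by
      have e1 : Nat.card F ^ (2 * 1) - 1 = (Nat.card F ^ 1 + 1) * (Nat.card F ^ 1 - 1) := sub_mul_add
      rw [mul_one, pow_one] at e1
      rw [e1]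
      rcases hsv with h | h
      · exact h.mul_right _
      · exact h.mul_left _
    obtain ⟨-, -, hes⟩ := one_of_dvd (F := F) hs hs2 hsv2
    rcases hsv with h | h
    · have hne : x ≠ s := by
        rintro rfl
        (clear * - hxc hm hes; omega)
      exact clash_s R C ha hb hx hw hwt hs hs2 (Or.inl h)
        (C.blk (ε := -1) (ε' := -1) (by norm_num) hxo hso ((Nat.coprime_primes hx.prime hs).2 hne)
          (elt_tor_minus (by (clear * - hm; omega)) hX) (elt_ell h))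
    · have hne : y ≠ s := by
        rintro rfl
        (clear * - hyc hm hes; omega)
      have hco := (Nat.coprime_primes hy.prime hs).2 hne
      refine clash_s R C ha' hb hy hw hwt hs hs2 (Or.inr h) ?_
      rcases hyc with hyc | hyc
      · exact C.blk (ε := 1) (ε' := 1) (by norm_num) hyo hso hco
          (elt_tor_plus (by (clear * - hm; omega)) (dvd_of_odd hyc)) (elt_hyp h)
      · refine C.of_odd (hyo.mul hso) (elt_tor_plus (by omega) (hco.mul_dvd_of_dvd_of_dvd (dvd_of_odd hyc) ?_))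
        have h2 := Nat.sub_dvd_pow_sub_pow (Nat.card F) 1 m
        rw [one_pow] at h2
        exact h.trans h2

theorem plus_false (R : RowS σ p k S) (C : Ctx S F m 1) : False := by
  have hm := C.hm
  have i1 := isT_t1 σ
  have i2 := isT_t2 σ
  obtain ⟨r, hr, hrd⟩ := ex_a R i1
  obtain ⟨t, ht, htd⟩ := ex_a R i2
  obtain ⟨b, hb, w, hw, hwd⟩ := ex_b R
  obtain ⟨hrv, hrt⟩ := top_a R C i1 hr hrd
  obtain ⟨htv, htt⟩ := top_a R C i2 ht htd
  have h1 := ee_ne R C i1.c4 i2.c4 (t_ne σ) hr ht hrd hrv htv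
  have f : ∀ {e : ℕ}, _root_.Cfsg.Agent.H706.ESeven.Top m 1 e → e = 2 * (m - 1) ∨ ((m - 1) % 2 = 1 ∧ e = m - 1) ∨ (m % 2 = 1 ∧ e = m) := by
    intro e h
    rcases h with h | ⟨h2, h⟩ | ⟨-, h2, h⟩ | ⟨h, -⟩
    · exact Or.inl h
    · exact Or.inr (Or.inl ⟨Nat.odd_iff.1 h2, h⟩)
    · exact Or.inr (Or.inr ⟨Nat.odd_iff.1 h2, h⟩)
    · norm_num at h
  have hwt : wO (Nat.card F) w + 2 ≤ m := by
    rcases C.wt hw.prime (c4_odd hb.c4 hw).2 hwd with h | ⟨hwv, hwt⟩
    · exact h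
    · exfalso
      have h2 := ee_ne R C i1.c4 hb.c4 (i1.ne hb) hr hw hrd hrv hwv
      have h3 := ee_ne R C i2.c4 hb.c4 (i2.ne hb) ht hw htd htv hwv
      have h4 := f hrt
      have h5 := f htt
      have h6 := f hwt
      (clear * - h1 h2 h3 h4 h5 h6; solve | lia | omega)
  have h4 := f hrt
  have h5 := f htt
  rcases h4 with h4 | h4
  · exact plus_core R C i1 i2 hb hr ht hw hrv htv h4 (by omega) hwt
  · rcases h5 with h5 | h5
    · exact plus_core R C i2 i1 hb ht hr hw htv hrv h5 (by omega) hwt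
    · omega

/-- **Row `PΩ⁺`** -/
theorem row_oplus {σ : Bool} {p k m u : ℕ} {S : Type u} [Group S] [Finite S] (R : RowS σ p k S) (hg : IsNamed (.oplus m u) S) :
    False := by
  obtain ⟨F, _, _, hF, ⟨e⟩⟩ := hg.real
  exact plus_false R (ctx_plus (F := F) hg.cond.1 e)



end plus

section minus

variable {σ : Bool} {p k : ℕ} {S : Type u} [Group S] {F : Type} [Field F] [Finite F] {m : ℕ}

/-- `v` odd, `m` even: the classes `2 (m - 1)`, `m - 1` are adjacent to 2 -/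
theorem minus_no (R : RowS σ p k S) (C : Ctx S F m (-1)) (hmo : (m - 1) % 2 = 1) (hvo : Nat.card F % 2 = 1)
    {a x : ℕ} (ha : IsT σ a) (hx : Prim (p ^ k) a x) (hxv : ¬ x ∣ Nat.card F)
    (hxc : ee (Nat.card F) x = 2 * (m - 1) ∨ ee (Nat.card F) x = m - 1) : False := by
  have hm := C.hm
  obtain ⟨hxo, hx2⟩ := c4_odd ha.c4 hx
  refine nadj_two R ha hx ?_
  have hco : Nat.Coprime 4 x := by
    have : Nat.Coprime (2 ^ 2) x := Nat.Coprime.pow_left 2 (Nat.coprime_two_left.2 hxo)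
    simpa using this
  have hA : Nat.card F + 1 ∣ Nat.card F ^ (m - 1) + 1 := by
    have := Odd.nat_add_dvd_pow_add_pow (Nat.card F) 1 (Nat.odd_iff.2 hmo)
    rwa [one_pow] at this
  have hB : Nat.card F - 1 ∣ Nat.card F ^ (m - 1) - 1 := by
    have := Nat.sub_dvd_pow_sub_pow (Nat.card F) 1 (m - 1)
    rwa [one_pow] at this
  have h4 : 4 ∣ Nat.card F + 1 ∨ 4 ∣ Nat.card F - 1 := by omega
  rcases hxc with hxc | hxc
  · have hX := dvd_of_even hx.prime hxv hxc
    rcases h4 with h4 | h4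
    · exact C.two_tor (Or.inr rfl) (elt_tor_minus (by omega) (hco.mul_dvd_of_dvd_of_dvd (h4.trans hA) hX))
    · exact C.two_blk (ε := -1) (ε' := 1) (by norm_num) hxo (elt_tor_minus (by omega) hX) (elt_hyp h4)
  · have hX := dvd_of_odd (F := F) hxc
    rcases h4 with h4 | h4
    · exact C.two_blk (ε := 1) (ε' := -1) (by norm_num) hxo (elt_tor_plus (by omega) hX) (elt_ell h4)
    · exact C.two_tor (Or.inl rfl) (elt_tor_plus (by omega) (hco.mul_dvd_of_dvd_of_dvd (h4.trans hB) hX))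

/-- `m` odd, `v ≠ 3` -/
theorem minus_core1 (R : RowS σ p k S) (C : Ctx S F m (-1)) (hmo : m % 2 = 1) (hv3 : Nat.card F ≠ 3)
    {a a' b x y w : ℕ} (ha : IsT σ a)
    (ha' : IsT σ a') (hb : IsB σ b) (hx : Prim (p ^ k) a x) (hy : Prim (p ^ k) a' y)
    (hw : Prim (p ^ k) b w) (hxv : ¬ x ∣ Nat.card F) (hyv : ¬ y ∣ Nat.card F)
    (hxc : ee (Nat.card F) x = 2 * m) (hyc : ee (Nat.card F) y = 2 * (m - 1))
    (hwt : wO (Nat.card F) w + 2 ≤ m) : False := by
  have hm := C.hm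
  obtain ⟨hxo, hx2⟩ := c4_odd ha.c4 hx
  obtain ⟨hyo, hy2⟩ := c4_odd ha'.c4 hy
  have hX := dvd_of_even hx.prime hxv hxc
  have hY := dvd_of_even hy.prime hyv hyc
  obtain ⟨s, hs, hs2, hsv⟩ := exists_odd_prime (v := Nat.card F) (Finite.one_lt_card) hv3
  have hso := hs.odd_of_ne_two hs2
  obtain ⟨-, -, hes⟩ := one_of_dvd (F := F) hs hs2 (sv2 hsv)
  rcases hsv with h | h
  · have hne : x ≠ s := by
      rintro rfl
      omega
    have hco := (Nat.coprime_primes hx.prime hs).2 hne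
    refine clash_s R C ha hb hx hw hwt hs hs2 (Or.inl h) (C.of_odd (hxo.mul hso) (elt_tor_minus (by omega)
      (hco.mul_dvd_of_dvd_of_dvd hX ?_)))
    have h2 := Odd.nat_add_dvd_pow_add_pow (Nat.card F) 1 (Nat.odd_iff.2 hmo)
    rw [one_pow] at h2
    exact h.trans h2
  · have hne : y ≠ s := by
      rintro rfl
      (clear * - hyc hm hes; omega)
    have hco := (Nat.coprime_primes hy.prime hs).2 hne
    exact clash_s R C ha' hb hy hw hwt hs hs2 (Or.inr h)
      (C.blk (ε := -1) (ε' := 1) (by norm_num) hyo hso hco (elt_tor_minus (by (clear * - hm; omega)) hY) (elt_hyp h))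

theorem NN_dvd (R : RowS σ p k S) {a : ℕ} (ha : IsT σ a) (hord : Nat.card S ∣ ordM (Nat.card F) m) :
    NN (p ^ k) a ∣ ordM (Nat.card F) m := by
  obtain ⟨g, hg⟩ := (R.top a ha).elt ha.c4
  rw [← hg]
  exact (orderOf_dvd_natCard g).trans hord

/-- all the primes of `NN q a` in the class `c` -/
theorem allC (R : RowS σ p k S) (C : Ctx S F m (-1)) {a c : ℕ} (ha : IsT σ a)
    (h : ∀ x, Prim (p ^ k) a x → x ∣ Nat.card S → ¬ x ∣ Nat.card F → _root_.Cfsg.Agent.H706.ESeven.Top m (-1) (ee (Nat.card F) x) →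
      ee (Nat.card F) x = c) : AllC (Nat.card F) (NN (p ^ k) a) c := by
  intro r hr hrd
  have h1 : Prim (p ^ k) a r := H627.E7.prim_of_dvd_NN ha.c4 (two_le R) hr hrd
  have h2 := (R.top a ha).dvd r h1
  obtain ⟨h3, h4⟩ := top_a R C ha h1 h2
  exact ⟨(c4_odd ha.c4 h1).2, h3, h r h1 h2 h3 h4⟩

/-- **The size argument**: an element of order `X w`, `NN q t1 ∣ X`, `NN q t2 ∣ Y` -/
theorem size_false (R : RowS σ p k S) {X Y w α β : ℕ} (h1 : NN (p ^ k) (t1 σ) ∣ X)
    (h2 : ∃ g : S, orderOf g = X * w) (h3 : NN (p ^ k) (t2 σ) ∣ Y) (hX : 0 < X)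
    (hα : 1 ≤ α) (hαw : α ≤ 3 * w) (h : |(α : ℤ) * X - β * Y| ≤ 2) : False := by
  obtain ⟨g, hg⟩ := h2
  have hi := isT_t1 σ
  have hge := NN_ge hi.c4 (three_le R)
  have h5 : 3 ^ 6 ≤ (p ^ k) ^ 6 := Nat.pow_le_pow_left (three_le R) 6
  obtain ⟨r, hr, hrd⟩ := Nat.exists_prime_and_dvd (n := NN (p ^ k) (t1 σ)) (by
    intro h6
    rw [h6] at hge
    norm_num at h5
    omega)
  have hrp := H627.E7.prim_of_dvd_NN hi.c4 (two_le R) hr hrd
  have h4 := R.tor _ hi.c4 g r hrp (by rw [hg]; exact (hrd.trans h1).mul_right _)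
  rw [hg] at h4
  exact num_final (three_le R) R.hs h1 h4 h3 hX hα hαw h

/-- `m` odd, `v = 3` -/
theorem minus_three (R : RowS σ p k S) (C : Ctx S F m (-1)) (hmo : m % 2 = 1)
    (hv3 : Nat.card F = 3) (hord : Nat.card S ∣ ordM (Nat.card F) m)
    (h : (AllC (Nat.card F) (NN (p ^ k) (t1 σ)) (2 * m) ∧ AllC (Nat.card F) (NN (p ^ k) (t2 σ)) (2 * (m - 1))) ∨
      (AllC (Nat.card F) (NN (p ^ k) (t2 σ)) (2 * m) ∧ AllC (Nat.card F) (NN (p ^ k) (t1 σ)) (2 * (m - 1)))) : False := by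
  have hm := C.hm
  obtain ⟨j, hj⟩ : ∃ j, m - 1 = 2 * j := ⟨(m - 1) / 2, by omega⟩
  have h8 : 3 ^ (m - 1) % 8 = 1 := by
    rw [hj, pow_mul]
    simp [Nat.pow_mod]
  have hmm : 3 ^ m = 3 * 3 ^ (m - 1) := by
    rw [← pow_succ']
    congr 1
    omega
  obtain ⟨X, hX⟩ : ∃ X, 3 ^ m + 1 = 4 * X := ⟨(3 ^ m + 1) / 4, by omega⟩
  obtain ⟨Y, hY⟩ : ∃ Y, 3 ^ (m - 1) + 1 = 2 * Y := ⟨(3 ^ (m - 1) + 1) / 2, by omega⟩
  have hXo : X % 2 = 1 := by omega
  have hYo : Y % 2 = 1 := by omega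
  have eX : ∃ g : S, orderOf g = X :=
    C.of_odd (Nat.odd_iff.2 hXo) (elt_tor_minus (by omega) (by rw [hv3, hX]; exact Dvd.intro_left _ rfl))
  have eY : ∃ g : S, orderOf g = Y :=
    C.of_odd' (Or.inr rfl) (Nat.odd_iff.2 hYo) (elt_tor_minus (by omega) (by rw [hv3, hY]; exact Dvd.intro_left _ rfl))
  have key : ∀ {N : ℕ}, AllC (Nat.card F) N (2 * m) → N ∣ ordM (Nat.card F) m → N ∣ X := by
    intro N hN hd
    have h1 := hN.dvd_top card_ge_one hm hd
    rw [hv3, hX] at h1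
    refine Nat.Coprime.dvd_of_dvd_mul_left ?_ h1
    exact hN.cop fun r hr hr2 _ _ h4 => hr2 ((Nat.prime_dvd_prime_iff_eq hr Nat.prime_two).1
      (hr.dvd_of_dvd_pow (show r ∣ 2 ^ 2 by simpa using h4)))
  have key' : ∀ {N : ℕ}, AllC (Nat.card F) N (2 * (m - 1)) → N ∣ ordM (Nat.card F) m → N ∣ Y := by
    intro N hN hd
    have h1 := hN.dvd_plus card_ge_one hm hd
    rw [hv3, hY] at h1
    refine Nat.Coprime.dvd_of_dvd_mul_left ?_ h1
    exact hN.cop fun r hr hr2 _ _ h4 => hr2 ((Nat.prime_dvd_prime_iff_eq hr Nat.prime_two).1 h4)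
  have hXp : 0 < X := by omega
  have hYp : 0 < Y := by omega
  have hrel : (3 : ℤ) * Y - 2 * X = 1 := by omega
  rcases h with ⟨h1, h2⟩ | ⟨h1, h2⟩
  · refine size_false R (X := X) (Y := Y) (w := 1) (α := 2) (β := 3) (key h1 (NN_dvd R (isT_t1 σ) hord))
      (by simpa only [_root_.mul_one] using eX) (key' h2 (NN_dvd R (isT_t2 σ) hord)) hXp (by norm_num) (by norm_num) ?_
    push_cast
    rw [show (2 : ℤ) * X - 3 * Y = -1 by linarith only [hmm, hX, hY]]
    norm_num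
  · refine size_false R (X := Y) (Y := X) (w := 1) (α := 3) (β := 2) (key' h2 (NN_dvd R (isT_t1 σ) hord))
      (by simpa using eY) (key h1 (NN_dvd R (isT_t2 σ) hord)) hYp (by norm_num) (by norm_num) ?_
    push_cast
    rw [show (3 : ℤ) * Y - 2 * X = 1 by linarith only [hmm, hX, hY]]
    norm_num

/-- `m` even, `v` even -/
theorem minus_even (R : RowS σ p k S) (C : Ctx S F m (-1)) (hmo : (m - 1) % 2 = 1)
    (hve : Nat.card F % 2 = 0) (hord : Nat.card S ∣ ordM (Nat.card F) m)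
    (h : (AllC (Nat.card F) (NN (p ^ k) (t1 σ)) (2 * (m - 1)) ∧ AllC (Nat.card F) (NN (p ^ k) (t2 σ)) (m - 1)) ∨
      (AllC (Nat.card F) (NN (p ^ k) (t2 σ)) (2 * (m - 1)) ∧ AllC (Nat.card F) (NN (p ^ k) (t1 σ)) (m - 1))) : False := by
  have hm := C.hm
  have hv2 : 2 ≤ Nat.card F := Finite.one_lt_card
  obtain ⟨A, hA⟩ : Nat.card F + 1 ∣ Nat.card F ^ (m - 1) + 1 := by
    have := Odd.nat_add_dvd_pow_add_pow (Nat.card F) 1 (Nat.odd_iff.2 hmo)
    rwa [one_pow] at this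
  obtain ⟨B, hB⟩ : Nat.card F - 1 ∣ Nat.card F ^ (m - 1) - 1 := by
    have := Nat.sub_dvd_pow_sub_pow (Nat.card F) 1 (m - 1)
    rwa [one_pow] at this
  have hvm : Nat.card F ^ (m - 1) % 2 = 0 := by
    rw [Nat.pow_mod, hve, Nat.zero_pow (by omega)]
  have hvm2 : 2 ≤ Nat.card F ^ (m - 1) := le_trans hv2 (Nat.le_self_pow (by omega) _)
  -- the two elements
  have coA : Nat.Coprime (Nat.card F ^ (m - 1) + 1) (Nat.card F - 1) := by
    rw [Nat.coprime_iff_gcd_eq_one]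
    have h1 : Nat.gcd (Nat.card F ^ (m - 1) + 1) (Nat.card F - 1) ∣ 2 := by
      have h2 := Nat.gcd_dvd_left (Nat.card F ^ (m - 1) + 1) (Nat.card F - 1)
      have h3 : Nat.gcd (Nat.card F ^ (m - 1) + 1) (Nat.card F - 1) ∣ Nat.card F ^ (m - 1) - 1 :=
        (Nat.gcd_dvd_right _ _).trans (hB ▸ Dvd.intro _ rfl)
      have h4 := Nat.dvd_sub h2 h3
      rwa [show Nat.card F ^ (m - 1) + 1 - (Nat.card F ^ (m - 1) - 1) = 2 by (clear * - hvm2; omega)] at h4
    rcases (Nat.dvd_prime Nat.prime_two).1 h1 with h2 | h2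
    · exact h2
    · exfalso
      have h3 := Nat.gcd_dvd_right (Nat.card F ^ (m - 1) + 1) (Nat.card F - 1)
      rw [h2] at h3
      omega
  have coB : Nat.Coprime (Nat.card F ^ (m - 1) - 1) (Nat.card F + 1) := by
    rw [Nat.coprime_iff_gcd_eq_one]
    have h1 : Nat.gcd (Nat.card F ^ (m - 1) - 1) (Nat.card F + 1) ∣ 2 := by
      have h2 := Nat.gcd_dvd_left (Nat.card F ^ (m - 1) - 1) (Nat.card F + 1)
      have h3 : Nat.gcd (Nat.card F ^ (m - 1) - 1) (Nat.card F + 1) ∣ Nat.card F ^ (m - 1) + 1 :=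
        (Nat.gcd_dvd_right _ _).trans (hA ▸ Dvd.intro _ rfl)
      have h4 := Nat.dvd_sub h3 h2
      rwa [show Nat.card F ^ (m - 1) + 1 - (Nat.card F ^ (m - 1) - 1) = 2 by (clear * - hvm2; omega)] at h4
    rcases (Nat.dvd_prime Nat.prime_two).1 h1 with h2 | h2
    · exact h2
    · exfalso
      have h3 := Nat.gcd_dvd_right (Nat.card F ^ (m - 1) - 1) (Nat.card F + 1)
      rw [h2] at h3
      omega
  have eA : ∃ g : S, orderOf g = (Nat.card F ^ (m - 1) + 1) * (Nat.card F - 1) :=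
    C.blk (ε := -1) (ε' := 1) (by norm_num) (Nat.odd_iff.2 (by omega)) (Nat.odd_iff.2 (by omega)) coA
      (elt_tor_minus (by omega) dvd_rfl) (elt_hyp dvd_rfl)
  have eB : ∃ g : S, orderOf g = (Nat.card F ^ (m - 1) - 1) * (Nat.card F + 1) :=
    C.blk (ε := 1) (ε' := -1) (by norm_num) (Nat.odd_iff.2 (by omega)) (Nat.odd_iff.2 (by omega)) coB
      (elt_tor_plus (by omega) dvd_rfl) (elt_ell dvd_rfl)
  have keyA : ∀ {N : ℕ}, AllC (Nat.card F) N (2 * (m - 1)) → N ∣ ordM (Nat.card F) m → N ∣ A := by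
    intro N hN hd
    have h1 := hN.dvd_plus card_ge_one hm hd
    rw [hA] at h1
    exact (hN.cop_small card_ge_one (by (clear * - hm; omega))).1.dvd_of_dvd_mul_left h1
  have keyB : ∀ {N : ℕ}, AllC (Nat.card F) N (m - 1) → N ∣ ordM (Nat.card F) m → N ∣ B := by
    intro N hN hd
    have h1 := hN.dvd_minus card_ge_one hm hmo hd
    rw [hB] at h1
    exact (hN.cop_small card_ge_one (by omega)).2.dvd_of_dvd_mul_left h1
  have hAp : 0 < A := by
    rcases Nat.eq_zero_or_pos A with h0 | h0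
    · rw [h0, mul_zero] at hA
      omega
    · exact h0
  have hBp : 0 < B := by
    rcases Nat.eq_zero_or_pos B with h0 | h0
    · rw [h0, mul_zero] at hB
      omega
    · exact h0
  have hrel : ((Nat.card F + 1 : ℕ) : ℤ) * A - ((Nat.card F - 1 : ℕ) : ℤ) * B = 2 := by
    have e1 : ((Nat.card F + 1 : ℕ) : ℤ) * A = ((Nat.card F ^ (m - 1) + 1 : ℕ) : ℤ) := by
      rw [hA]
      push_cast
      ring
    have e2 : ((Nat.card F - 1 : ℕ) : ℤ) * B = ((Nat.card F ^ (m - 1) - 1 : ℕ) : ℤ) := by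
      rw [hB, Nat.cast_mul]
    rw [e1, e2]
    (clear * - hvm2; omega)
  have hw : 1 ≤ Nat.card F - 1 := by omega
  have hwn : Nat.card F + 1 ≤ (Nat.card F + 1) * (Nat.card F - 1) := Nat.le_mul_of_pos_right _ hw
  rcases h with ⟨h1, h2⟩ | ⟨h1, h2⟩
  · refine size_false R (X := A) (Y := B) (w := (Nat.card F + 1) * (Nat.card F - 1)) (α := Nat.card F + 1)
      (β := Nat.card F - 1) (keyA h1 (NN_dvd R (isT_t1 σ) hord)) ?_ (keyB h2 (NN_dvd R (isT_t2 σ) hord))
      hAp (by omega) (by omega) ?_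
    · rw [hA] at eA
      rw [show A * ((Nat.card F + 1) * (Nat.card F - 1)) = (Nat.card F + 1) * A * (Nat.card F - 1) by ring]
      exact eA
    · rw [hrel]
      norm_num
  · refine size_false R (X := B) (Y := A) (w := (Nat.card F + 1) * (Nat.card F - 1)) (α := Nat.card F - 1)
      (β := Nat.card F + 1) (keyB h2 (NN_dvd R (isT_t1 σ) hord)) ?_ (keyA h1 (NN_dvd R (isT_t2 σ) hord))
      hBp (by omega) (by omega) ?_
    · rw [hB] at eB
      rw [show B * ((Nat.card F + 1) * (Nat.card F - 1)) = (Nat.card F - 1) * B * (Nat.card F + 1) by ring]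
      exact eB
    · rw [show ((Nat.card F - 1 : ℕ) : ℤ) * B - ((Nat.card F + 1 : ℕ) : ℤ) * A = -2 by linarith only [hrel]]
      norm_num

theorem minus_false (R : RowS σ p k S) (C : Ctx S F m (-1)) (hord : Nat.card S ∣ ordM (Nat.card F) m) : False := by
  have hm := C.hm
  have i1 := isT_t1 σ
  have i2 := isT_t2 σ
  obtain ⟨r, hr, hrd⟩ := ex_a R i1
  obtain ⟨t, ht, htd⟩ := ex_a R i2
  obtain ⟨b, hb, w, hw, hwd⟩ := ex_b R
  obtain ⟨hrv, hrt⟩ := top_a R C i1 hr hrd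
  obtain ⟨htv, htt⟩ := top_a R C i2 ht htd
  have h1 := ee_ne R C i1.c4 i2.c4 (t_ne σ) hr ht hrd hrv htv
  have f : ∀ {e : ℕ}, _root_.Cfsg.Agent.H706.ESeven.Top m (-1) e → e = 2 * (m - 1) ∨ ((m - 1) % 2 = 1 ∧ e = m - 1) ∨ e = 2 * m := by
    intro e h
    rcases h with h | ⟨h2, h⟩ | ⟨h, -, -⟩ | ⟨-, h⟩
    · exact Or.inl h
    · exact Or.inr (Or.inl ⟨Nat.odd_iff.1 h2, h⟩)
    · norm_num at h
    · exact Or.inr (Or.inr h)
  have h4 := f hrt
  have h5 := f htt
  -- the classes of all the primes of class 14, 18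
  have g14 : ∀ x, Prim (p ^ k) (t1 σ) x → x ∣ Nat.card S → ¬ x ∣ Nat.card F →
      ee (Nat.card F) x ≠ ee (Nat.card F) t := fun x hx hxd hxv =>
    ee_ne R C i1.c4 i2.c4 (t_ne σ) hx ht hxd hxv htv
  have g18 : ∀ x, Prim (p ^ k) (t2 σ) x → x ∣ Nat.card S → ¬ x ∣ Nat.card F →
      ee (Nat.card F) x ≠ ee (Nat.card F) r := fun x hx hxd hxv =>
    ee_ne R C i2.c4 i1.c4 (t_ne σ).symm hx hr hxd hxv hrv
  rcases Nat.mod_two_eq_zero_or_one m with hm2 | hm2
  · have hmo : (m - 1) % 2 = 1 := by omega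
    rcases Nat.mod_two_eq_zero_or_one (Nat.card F) with hv2 | hv2
    · -- `m` even, `v` even
      obtain ⟨s, hs, hs2, hsv⟩ := exists_odd_prime (v := Nat.card F) (Finite.one_lt_card) (by omega)
      have q1 : ee (Nat.card F) r = 2 * m → ee (Nat.card F) t = 2 * (m - 1) ∨ ee (Nat.card F) t = m - 1 := by (clear * - h1 h5; (solve | lia | omega))
      have q2 : ¬ ee (Nat.card F) r = 2 * m → ee (Nat.card F) r = 2 * (m - 1) ∨ ee (Nat.card F) r = m - 1 := by (clear * - h4; (solve | lia | omega))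
      have hwc : ¬ w ∣ Nat.card F ∧ ee (Nat.card F) w = 2 * m := by
        by_contra hcon
        -- `s` is adjacent to `w`
        have hsw : (∃ g : S, orderOf g = w * s) ∨ wO (Nat.card F) w + 2 ≤ m := by
          rcases C.wt hw.prime (c4_odd hb.c4 hw).2 hwd with h | ⟨hwv, hwt⟩
          · exact Or.inr h
          · left
            have h6 := f hwt
            exact minus_adj_s C hmo hw.prime (c4_odd hb.c4 hw).2 hwv (by
              rcases h6 with h6 | h6 | h6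
              · exact Or.inl h6
              · exact Or.inr h6.2
              · exact absurd ⟨hwv, h6⟩ hcon) hs hs2 hsv
        have fin : ∀ {a x : ℕ}, IsT σ a → Prim (p ^ k) a x → ¬ x ∣ Nat.card F →
            (ee (Nat.card F) x = 2 * (m - 1) ∨ ee (Nat.card F) x = m - 1) → False := by
          intro a x ha hx hxv hxc
          have h7 := minus_adj_s C hmo hx.prime (c4_odd ha.c4 hx).2 hxv hxc hs hs2 hsv
          rcases hsw with h8 | h8
          · exact clash R ha hb hx hw hs hs2 h7 h8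
          · exact clash_s R C ha hb hx hw h8 hs hs2 hsv h7
        by_cases h6 : ee (Nat.card F) r = 2 * m
        · exact fin i2 ht htv (q1 h6)
        · exact fin i1 hr hrv (q2 h6)
      obtain ⟨hwv, hwc⟩ := hwc
      have k14 : ∀ x, Prim (p ^ k) (t1 σ) x → x ∣ Nat.card S → ¬ x ∣ Nat.card F → ee (Nat.card F) x ≠ 2 * m :=
        fun x hx hxd hxv => by
          rw [← hwc]
          exact ee_ne R C i1.c4 hb.c4 (i1.ne hb) hx hw hxd hxv hwv
      have k18 : ∀ x, Prim (p ^ k) (t2 σ) x → x ∣ Nat.card S → ¬ x ∣ Nat.card F → ee (Nat.card F) x ≠ 2 * m :=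
        fun x hx hxd hxv => by
          rw [← hwc]
          exact ee_ne R C i2.c4 hb.c4 (i2.ne hb) hx hw hxd hxv hwv
      have hr' := k14 r hr hrd hrv
      have ht' := k18 t ht htd htv
      refine minus_even R C hmo hv2 hord ?_
      rcases h4 with h4 | h4
      · left
        exact ⟨allC R C i1 fun x hx hxd hxv hxt => by
            have := g14 x hx hxd hxv
            have := k14 x hx hxd hxv
            have := f hxt
            omega,
          allC R C i2 fun x hx hxd hxv hxt => by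
            have := g18 x hx hxd hxv
            have := k18 x hx hxd hxv
            have := f hxt
            omega⟩
      · right
        exact ⟨allC R C i2 fun x hx hxd hxv hxt => by
            have := g18 x hx hxd hxv
            have := k18 x hx hxd hxv
            have := f hxt
            omega,
          allC R C i1 fun x hx hxd hxv hxt => by
            have := g14 x hx hxd hxv
            have := k14 x hx hxd hxv
            have := f hxt
            omega⟩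
    · -- `m` even, `v` odd
      by_cases h6 : ee (Nat.card F) r = 2 * m
      · exact minus_no R C hmo hv2 i2 ht htv (by (clear * - h1 h5 h6; omega))
      · exact minus_no R C hmo hv2 i1 hr hrv (by (clear * - h4 h6; omega))
  · -- `m` odd
    by_cases hv3 : Nat.card F = 3
    · refine minus_three R C hm2 hv3 hord ?_
      by_cases h6 : ee (Nat.card F) r = 2 * m
      · left
        exact ⟨allC R C i1 fun x hx hxd hxv hxt => by
            have := g14 x hx hxd hxv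
            have := f hxt
            omega,
          allC R C i2 fun x hx hxd hxv hxt => by
            have := g18 x hx hxd hxv
            have := f hxt
            omega⟩
      · right
        exact ⟨allC R C i2 fun x hx hxd hxv hxt => by
            have := g18 x hx hxd hxv
            have := f hxt
            omega,
          allC R C i1 fun x hx hxd hxv hxt => by
            have := g14 x hx hxd hxv
            have := f hxt
            omega⟩
    · have hwt : wO (Nat.card F) w + 2 ≤ m := by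
        rcases C.wt hw.prime (c4_odd hb.c4 hw).2 hwd with h | ⟨hwv, hwt⟩
        · exact h
        · exfalso
          have h2 := ee_ne R C i1.c4 hb.c4 (i1.ne hb) hr hw hrd hrv hwv
          have h3 := ee_ne R C i2.c4 hb.c4 (i2.ne hb) ht hw htd htv hwv
          have h6 := f hwt
          (clear * - h1 h4 h5 hm2 h2 h3 h6; (solve | lia | omega))
      by_cases h6 : ee (Nat.card F) r = 2 * m
      · exact minus_core1 R C hm2 hv3 i1 i2 hb hr ht hw hrv htv h6 (by (clear * - hm h1 h5 hm2 h6; omega)) hwt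
      · exact minus_core1 R C hm2 hv3 i2 i1 hb ht hr hw htv hrv (by (clear * - h1 h4 h5 hm2 h6; omega)) (by (clear * - h4 hm2 h6; omega)) hwt

/-- **Row `PΩ⁻`** -/
theorem row_ominus {σ : Bool} {p k m u : ℕ} {S : Type u} [Group S] [Finite S] (R : RowS σ p k S) (hg : IsNamed (.ominus m u) S) :
    False := by
  obtain ⟨F, _, _, a, b, hF, hab, ⟨e⟩⟩ := hg.real
  have hm := hg.cond.1
  refine minus_false R (ctx_minus (F := F) hm hab e) ?_
  rw [Nat.card_congr e.toEquiv, ordM, Nat.card_eq_fintype_card (α := F), ← Cfsg.Agent.S0294.result (F := F) rfl m hm a b hab]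
  exact Dvd.intro_left _ rfl



end minus

end Cfsg.Agent.R2.Spec.X1.E7
end
end

-- part: R2/Spec/X1/E7/Lin
section
set_option linter.all false
open scoped Cfsg.Agent.FastGrp

/-!
# `E₇(q)`, `q` odd: linear and unitary groups (helper13, S3435; after helper627, S3482)
-/

set_option autoImplicit false

namespace Cfsg.Agent.R2.Spec.X1.E7

open Cfsg Cfsg.Agent.H436 Cfsg.Agent.H962.E7 Cfsg.Agent.OrdDiv
open Cfsg.Agent.H627.E7 (Lin lin_psl lin_psu wc_psl wc_psu rank_psl rank_psu)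

universe u

theorem size {u q m a T : ℕ} (hu : 2 ≤ u) (hq : 3 ≤ q) (hm11 : 11 ≤ m) (ham : a = m / 2)
    (h1 : u ^ (m - 1) ≤ (u + 1) * T + 1) (hT : 3 * T ≤ 2 * q ^ 7) (h2 : q ^ 6 * 3 ≤ 28 * (u ^ a + 1)) : False := by
  have ha : 5 ≤ a := by omega
  have hm : 2 * a ≤ m := by omega
  obtain ⟨X, hX⟩ : ∃ X, X = u ^ a := ⟨_, rfl⟩
  rw [← hX] at h2
  have h3 : 3 ^ 6 ≤ q ^ 6 := Nat.pow_le_pow_left hq 6
  norm_num at h3
  have hX1 : 77 ≤ X := by omega
  -- `10 X ≥ q ^ 6`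
  have hX2 : q ^ 6 ≤ 10 * X := by omega
  -- `u ^ (m - 2) ≤ q ^ 7`
  have h4 : u ^ (m - 2) ≤ q ^ 7 := by
    have h5 : u ^ (m - 1) = u * u ^ (m - 2) := by
      rw [show m - 1 = (m - 2) + 1 by omega, pow_succ, mul_comm]
    rw [h5] at h1
    have h6 : 2 ^ 9 ≤ u ^ (m - 2) := (Nat.pow_le_pow_left hu 9).trans (Nat.pow_le_pow_right (by omega) (by omega))
    generalize u ^ (m - 2) = Z at h1 h6
    norm_num at h6
    have h7 : 3 * (u * Z) ≤ 2 * (u + 1) * q ^ 7 + 3 := by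
      calc 3 * (u * Z) ≤ 3 * ((u + 1) * T + 1) := Nat.mul_le_mul_left _ h1
        _ = (u + 1) * (3 * T) + 3 := by ring
        _ ≤ (u + 1) * (2 * q ^ 7) + 3 := by gcongr
        _ = _ := by ring
    have h8 : 2 * (u + 1) ≤ 3 * u := by omega
    have h9 : 2 * (u + 1) * q ^ 7 ≤ 3 * u * q ^ 7 := Nat.mul_le_mul_right _ h8
    by_contra hlt
    push Not at hlt
    have h10 : 3 * u * (q ^ 7 + 1) ≤ 3 * u * Z := Nat.mul_le_mul_left _ hlt
    have h11 : 3 * u * Z = 3 * (u * Z) := by ring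
    have h12 : 3 * u * (q ^ 7 + 1) = 3 * u * q ^ 7 + 3 * u := by ring
    omega
  -- sixth powers
  have h5 : (u ^ (m - 2)) ^ 6 ≤ (q ^ 7) ^ 6 := Nat.pow_le_pow_left h4 6
  have h6 : (q ^ 7) ^ 6 ≤ 10 ^ 7 * X ^ 7 := by
    calc (q ^ 7) ^ 6 = (q ^ 6) ^ 7 := by ring
      _ ≤ (10 * X) ^ 7 := Nat.pow_le_pow_left hX2 7
      _ = 10 ^ 7 * X ^ 7 := by ring
  have h7 : u ^ ((m - 2) * 6 - a * 7) * X ^ 7 = (u ^ (m - 2)) ^ 6 := by
    rw [hX, ← pow_mul, ← pow_mul, ← pow_add]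
    congr 1
    omega
  have h8 : u ^ ((m - 2) * 6 - a * 7) ≤ 10 ^ 7 := by
    have h9 : u ^ ((m - 2) * 6 - a * 7) * X ^ 7 ≤ 10 ^ 7 * X ^ 7 := by
      rw [h7]
      exact h5.trans h6
    exact Nat.le_of_mul_le_mul_right h9 (by positivity)
  have hcase : m = 11 ∨ m = 12 ∨ 13 ≤ m := by omega
  rcases hcase with rfl | rfl | hm13
  · -- exponent 19
    have ha' : a = 5 := by omega
    subst ha'
    norm_num at h8
    have hu2 : u = 2 := by
      by_contra hne
      have : 3 ^ 19 ≤ u ^ 19 := Nat.pow_le_pow_left (by omega) 19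
      norm_num at this
      omega
    subst hu2
    omega
  · have ha' : a = 6 := by omega
    subst ha'
    norm_num at h8
    have hu2 : u = 2 := by
      by_contra hne
      have : 3 ^ 18 ≤ u ^ 18 := Nat.pow_le_pow_left (by omega) 18
      norm_num at this
      omega
    subst hu2
    omega
  · have h9 : 24 ≤ (m - 2) * 6 - a * 7 ∨ m = 14 := by omega
    rcases h9 with h9 | rfl
    · have h10 : 2 ^ 24 ≤ u ^ ((m - 2) * 6 - a * 7) :=
        (Nat.pow_le_pow_left hu 24).trans (Nat.pow_le_pow_right (by omega) h9)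
      norm_num at h10
      omega
    · have ha' : a = 7 := by omega
      subst ha'
      norm_num at h8
      have hu2 : u = 2 := by
        by_contra hne
        have : 3 ^ 23 ≤ u ^ 23 := Nat.pow_le_pow_left (by omega) 23
        norm_num at this
        omega
      subst hu2
      -- `u = 2`, `m = 14`
      have h11 : q ^ 6 ≤ 1204 := by omega
      have h12 : q = 3 := by
        by_contra hne
        have : 4 ^ 6 ≤ q ^ 6 := Nat.pow_le_pow_left (by omega) 6
        norm_num at this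
        omega
      subst h12
      norm_num at h4

section

variable {s : Bool} {S : Type u} [Group S] {m u p k : ℕ} {w cls : ℕ → ℕ}

/-- the classes of the primes not adjacent to 2 -/
theorem cls_of (L : Lin S m u w cls) (R : RowS s p k S) (hm : 11 ≤ m) {i r : ℕ} (hi : IsT s i)
    (hr : Prim (p ^ k) i r) : 3 < r ∧ r ∣ Nat.card S ∧ 2 < w r ∧ (cls r = m ∨ cls r = m - 1) := by
  have h3 := H627.E7.three_lt hi.c8 (two_le R) hr
  have hd := (R.top i hi).dvd r hr
  have hw : m < w r + 2 := by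
    by_contra hlt
    exact nadj_two' R hi hr (L.wc.adj r 2 hr.prime Nat.prime_two (by omega) (by rw [L.two]; omega))
  obtain ⟨h4, h5⟩ := L.eq r hr.prime (by omega) hd
  exact ⟨h3, hd, by omega, by omega⟩

/-- different classes of `q` have different classes of `u` -/
theorem cls_ne (L : Lin S m u w cls) (R : RowS s p k S) (hm : 11 ≤ m) {i r j t : ℕ} (hi : IsT s i)
    (hr : Prim (p ^ k) i r) (hj : IsT s j) (ht : Prim (p ^ k) j t) (hij : i ≠ j) : cls r ≠ cls t := by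
  intro he
  obtain ⟨h1, h2, h3, -⟩ := cls_of L R hm hi hr
  obtain ⟨h4, h5, h6, -⟩ := cls_of L R hm hj ht
  refine R.nad i hi.c8 j hj.c8 hij r t hr ht (L.wc.clq r t hr.prime ht.prime h1 h4 ?_ h2 h5 h3 h6 he)
  rintro rfl
  exact hij (hr.unique ht)

theorem lin_false (L : Lin S m u w cls) (R : RowS s p k S) (hm : 11 ≤ m) (hu : 2 ≤ u) : False := by
  have i1 := isT_t1 s
  have i2 := isT_t2 s
  obtain ⟨r, hr⟩ := ex8 R i1.c8
  obtain ⟨t, ht⟩ := ex8 R i2.c8
  have c14 := (cls_of L R hm i1 hr).2.2.2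
  have c18 := (cls_of L R hm i2 ht).2.2.2
  have hne := cls_ne L R hm i1 hr i2 ht (t_ne s)
  have hq := three_le R
  -- all primes of one class `i` have the same class
  have hsame : ∀ i : ℕ, IsT s i → ∀ r t : ℕ, Prim (p ^ k) i r → Prim (p ^ k) i t → cls r = cls t := by
    intro i hi r t hr ht
    have hi4 : i ∈ C4 := hi.c4
    have key : ∀ r t : ℕ, Prim (p ^ k) i r → Prim (p ^ k) i t → cls r = m → cls t = m - 1 → False := by
      intro r t hr ht h1 h2
      have h3 := cls_of L R hm hi hr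
      have h4 := cls_of L R hm hi ht
      have hrs : r ≠ t := by
        rintro rfl
        omega
      obtain ⟨x, hx⟩ := (R.top i hi).elt hi4
      have hN := H627.E7.NN_pos hi4 (two_le R)
      have hd : r * t ∣ orderOf x := by
        rw [hx]
        exact ((Nat.coprime_primes hr.prime ht.prime).2 hrs).mul_dvd_of_dvd_of_dvd
          (H627.E7.dvd_NN hi4 (two_le R) hr) (H627.E7.dvd_NN hi4 (two_le R) ht)
      exact L.nadj r t hr.prime ht.prime h3.2.2.1 h4.2.2.1 h3.2.1 h4.2.1 h1 h2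
        ⟨x ^ (orderOf x / (r * t)), orderOf_pow_orderOf_div (by omega) hd⟩
    rcases (cls_of L R hm hi hr).2.2.2 with h1 | h1 <;>
      rcases (cls_of L R hm hi ht).2.2.2 with h2 | h2
    · omega
    · exact (key r t hr ht h1 h2).elim
    · exact (key t r ht hr h2 h1).elim
    · omega
  -- the class of even size
  have hA : ∀ i r : ℕ, IsT s i → Prim (p ^ k) i r → cls r = 2 * (m / 2) →
      (p ^ k) ^ 6 * 3 ≤ 28 * (u ^ (m / 2) + 1) := by
    intro i r hi hr hc
    have hi4 : i ∈ C4 := hi.c4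
    have h1 := L.ord (m / 2) (NN (p ^ k) i) (by omega) ((R.top i hi).elt hi4) (fun t ht hd => by
      have h2 := H627.E7.prim_of_dvd_NN hi4 (two_le R) ht hd
      exact ⟨(cls_of L R hm hi h2).2.2.1, (hsame i hi t r h2 hr).trans hc⟩)
    exact (NN_ge hi4 hq).trans (Nat.mul_le_mul_left _ h1)
  -- the class of size `m - 1`
  have hB : ∀ i r : ℕ, IsT s i → Prim (p ^ k) i r → cls r = m - 1 →
      ∃ T, u ^ (m - 1) ≤ (u + 1) * T + 1 ∧ 3 * T ≤ 2 * (p ^ k) ^ 7 := by
    intro i r hi hr hc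
    have hi4 : i ∈ C4 := hi.c4
    obtain ⟨z, hz1, hz2⟩ := L.big
    have h1 := hz2 r hr.prime (cls_of L R hm hi hr).2.2.1 hc
    have h2 := R.tor i hi4 z r hr h1
    have h3 := TT_le hi4 (three_le R) (gcd_two R.hs)
    have h4 : 0 < TT (p ^ k) i := H334.E7.Size.tt_pos (two_le R) hi4
    have h5 := Nat.le_of_dvd h4 h2
    exact ⟨_, hz1, (Nat.mul_le_mul_left 3 h5).trans h3⟩
  have hA' : (p ^ k) ^ 6 * 3 ≤ 28 * (u ^ (m / 2) + 1) := by
    by_cases h1 : cls r = 2 * (m / 2)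
    · exact hA _ r i1 hr h1
    · exact hA _ t i2 ht (by omega)
  obtain ⟨T, hB1, hB2⟩ : ∃ T, u ^ (m - 1) ≤ (u + 1) * T + 1 ∧ 3 * T ≤ 2 * (p ^ k) ^ 7 := by
    by_cases h1 : cls r = m - 1
    · exact hB _ r i1 hr h1
    · exact hB _ t i2 ht (by omega)
  exact size hu hq hm rfl hB1 hB2 hA'

end

/-- **Row R1.** -/
theorem row_psl {s : Bool} {p k m v : ℕ} {S : Type u} [Group S] [Finite S] (R : RowS s p k S)
    (hg : IsNamed (.psl m v) S) : False := by
  obtain ⟨F, _, _, hF, ⟨e⟩⟩ := hg.real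
  subst hF
  have hm := hg.cond.1
  obtain ⟨ρ, hρ, h3, h7⟩ := coq R
  have h9 := rank_psl hm e hρ h3 (by omega)
  have h11 := (wc_psl (F := F) (n := m) (by omega)).half (hρ.congr e) h3 (by omega)
  exact lin_false ((lin_psl (F := F) (m := m) (by omega)).congr e) R (by omega) Fintype.one_lt_card

/-- **Row R2.** -/
theorem row_psu {s : Bool} {p k m v : ℕ} {S : Type u} [Group S] [Finite S] (R : RowS s p k S)
    (hg : IsNamed (.psu m v) S) : False := by
  obtain ⟨F, _, _, hF, ⟨e⟩⟩ := hg.real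
  have hm := hg.cond.1
  obtain ⟨ρ, hρ, h3, h7⟩ := coq R
  have h9 := rank_psu hF hm e hρ h3 (by omega)
  have h11 := (wc_psu hF (n := m) (by omega)).half (hρ.congr e) h3 (by omega)
  exact lin_false ((lin_psu hF (m := m) (by omega)).congr e) R (by omega) (ClassicalGeometry.GUBasic.two_le hF)

end Cfsg.Agent.R2.Spec.X1.E7
end

-- part: R2/Spec/X1/E7/Sp_mg
section
prune_inst 0x4001014006400000000000000020002202000000000008001610002000b08000280000800000000021064b0801000002813000000420000000a003000000600000000060040d10c08800000001000400000000000000000000000000000000000000000000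
set_option linter.all false
open scoped Cfsg.Agent.FastGrp

-- part: R2/Spec/X1/E7/Sp
section
/-!
# `E₇(q)`, `q` odd: the symplectic and odd dimensional orthogonal rows (helper13, S3435; after helper267, S3482)

* `row_psp`, `row_oodd`.
-/

set_option autoImplicit false
set_option linter.unusedVariables false

namespace Cfsg.Agent.R2.Spec.X1.E7

open Cfsg Cfsg.Agent.H436 Cfsg.Agent.H962.E7 Cfsg.Agent.OrdDiv
open Cfsg.Agent.H72.AdjOrth (wO ee eta)
open Cfsg.Agent.H72.AdjSp (orderOf_of_adj)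

universe u

/-- the argument, in terms of the prime graph of `PSp_{2m}(u)` -/
theorem core {σ : Bool} {p k : ℕ} {S : Type u} [Group S] (R : RowS σ p k S) {F : Type} [Field F] [Fintype F] {m : ℕ} (hm : 2 ≤ m)
    (hv : ¬ p ∣ Nat.card F)
    (hcard : ∀ r : ℕ, r ∣ Nat.card S → r ∣ Nat.card (PSp m F))
    (hadj : ∀ r s : ℕ, r.Prime → s.Prime → r ≠ s → (∃ x : PSp m F, orderOf x = r * s) → ∃ x : S, orderOf x = r * s) :
    False := by
  classical
  obtain ⟨q, hq⟩ : ∃ q, p ^ k = q := ⟨_, rfl⟩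
  have hq2 := two_le R
  have tor := R.tor
  have nad := R.nad
  have one := R.one
  have top := R.top
  obtain ⟨a, ha⟩ := ex8 R (isT_t1 σ).c8
  obtain ⟨b, hb⟩ := ex8 R (isT_t2 σ).c8
  have h2C : ∀ i ∈ C8, 2 ≤ i := by decide
  -- adjacency
  have hA : ∀ {r s : ℕ}, Cfsg.Agent.H94.PG.Adj (PSp m F) r s → ∃ x : S, orderOf x = r * s := by
    intro r s h
    exact hadj r s h.1 h.2.1 h.2.2.1 (orderOf_of_adj h)
  have na : ¬ Cfsg.Agent.H94.PG.Adj (PSp m F) a 2 := by
    intro h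
    obtain ⟨x, hx⟩ := hA h
    exact not_two R (isT_t1 σ) ha (x := x) (by rw [hx]; exact dvd_mul_right _ _) (by rw [hx]; exact dvd_mul_left _ _)
  have nb : ¬ Cfsg.Agent.H94.PG.Adj (PSp m F) b 2 := by
    intro h
    obtain ⟨x, hx⟩ := hA h
    exact not_two R (isT_t2 σ) hb (x := x) (by rw [hx]; exact dvd_mul_right _ _) (by rw [hx]; exact dvd_mul_left _ _)
  have a2 : a ≠ 2 := by
    have := ha.odd (h2C _ (isT_t1 σ).c8)
    omega
  have b2 : b ≠ 2 := by
    have := hb.odd (h2C _ (isT_t2 σ).c8)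
    omega
  have hab : a ≠ b := by
    intro h
    have := ha.unique (h ▸ hb)
    exact t_ne σ this
  have da := (top _ (isT_t1 σ)).dvd a ha
  have db := (top _ (isT_t2 σ)).dvd b hb
  obtain ⟨ia, ja⟩ := H377.psp_info hm ha.prime a2 (hcard a da) na
  obtain ⟨ib, jb⟩ := H377.psp_info hm hb.prime b2 (hcard b db) nb
  have nab : ¬ Cfsg.Agent.H94.PG.Adj (PSp m F) a b := fun h =>
    nad _ (isT_t1 σ).c8 _ (isT_t2 σ).c8 (t_ne σ) a b ha hb (hA h)
  -- the two primes in the two tori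
  obtain ⟨i, j, r, s, hi, hj, hij, hr, hs, hrm, hsp, jr, js, dr, ds⟩ : ∃ i j r s : ℕ, IsT σ i ∧
      IsT σ j ∧ i ≠ j ∧ Prim (p ^ k) i r ∧ Prim (p ^ k) j s ∧ r ∣ Nat.card F ^ m - 1 ∧
      s ∣ Nat.card F ^ m + 1 ∧ (∀ i, 1 ≤ i → i < m → ¬ r ∣ Nat.card F ^ (2 * i) - 1) ∧
      (∀ i, 1 ≤ i → i < m → ¬ s ∣ Nat.card F ^ (2 * i) - 1) ∧ r ∣ Nat.card S ∧ s ∣ Nat.card S := by
    rcases ia with ia | ia <;> rcases ib with ib | ib
    · exact absurd (H377.psp_adj_minus (by omega) ha.prime hb.prime a2 b2 hab ia ib) nab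
    · exact ⟨_, _, a, b, isT_t1 σ, isT_t2 σ, t_ne σ, ha, hb, ia, ib, ja, jb, da, db⟩
    · exact ⟨_, _, b, a, isT_t2 σ, isT_t1 σ, (t_ne σ).symm, hb, ha, ib, ia, jb, ja, db, da⟩
    · exact absurd (H377.psp_adj_plus (by omega) ha.prime hb.prime a2 b2 hab ia ib) nab
  clear ia ja ib jb nab hab a2 b2 na nb ha hb da db
  have r2 : r ≠ 2 := by
    have := hr.odd (h2C _ hi.c8)
    omega
  have s2 : s ≠ 2 := by
    have := hs.odd (h2C _ hj.c8)
    omega
  have nr : ¬ Cfsg.Agent.H94.PG.Adj (PSp m F) r 2 := by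
    intro h
    obtain ⟨x, hx⟩ := hA h
    exact not_two R hi hr (x := x) (by rw [hx]; exact dvd_mul_right _ _) (by rw [hx]; exact dvd_mul_left _ _)
  have ns : ¬ Cfsg.Agent.H94.PG.Adj (PSp m F) s 2 := by
    intro h
    obtain ⟨x, hx⟩ := hA h
    exact not_two R hj hs (x := x) (by rw [hx]; exact dvd_mul_right _ _) (by rw [hx]; exact dvd_mul_left _ _)
  -- `m` is odd
  have hmo : Odd m := by
    rcases Nat.even_or_odd m with ⟨t, ht⟩ | h
    · exfalso
      refine jr t (by omega) (by omega) ?_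
      rwa [two_mul, ← ht]
    · exact h
  have hu1 : 1 < Nat.card F := Finite.one_lt_card
  obtain ⟨v, hvv⟩ : ∃ v, Nat.card F = v := ⟨_, rfl⟩
  -- `u` is even
  have hue : v % 2 = 0 := by
    by_contra ho
    have h4 : v % 4 = 1 ∨ v % 4 = 3 := by omega
    obtain ⟨t, ht⟩ := hmo
    have hone : 1 ≤ v ^ m := Nat.one_le_pow _ _ (by omega)
    rcases h4 with h4 | h4
    · refine nr (H377.psp_adj_minus_two (by omega) hr.prime r2 hrm ?_)
      have h5 : v ^ m % 4 = 1 := by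
        rw [Nat.pow_mod, h4, one_pow]
        norm_num
      rw [hvv]
      omega
    · refine ns (H377.psp_adj_plus_two (by omega) hs.prime s2 hsp ?_)
      have h5 : v ^ m % 4 = 3 := by
        rw [ht, pow_add, pow_mul, pow_one, Nat.mul_mod, Nat.pow_mod, Nat.pow_mod v 2, h4]
        norm_num
      rw [hvv]
      omega
  -- a prime divisor of `u² - 1`
  have h4 : 4 ≤ v ^ 2 := by
    have : 2 * 2 ≤ v * v := Nat.mul_le_mul (by omega) (by omega)
    rw [sq]; omega
  obtain ⟨ℓ, hℓ, hℓd⟩ := Nat.exists_prime_and_dvd (n := v ^ 2 - 1) (by omega)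
  have hℓ2 : ℓ ≠ 2 := by
    rintro rfl
    have h5 : v ^ 2 % 2 = 0 := by rw [Nat.pow_mod, hue]
    omega
  have hℓv : ¬ ℓ ∣ v := by
    intro h
    have h5 : ℓ ∣ v ^ 2 := dvd_pow h (by norm_num)
    have h6 := Nat.dvd_sub h5 hℓd
    rw [show v ^ 2 - (v ^ 2 - 1) = 1 by omega] at h6
    exact hℓ.one_lt.ne' (Nat.dvd_one.1 h6)
  have hℓr : ℓ ≠ r := by
    rintro rfl
    refine jr 1 le_rfl (by omega) ?_
    rw [hvv, mul_one]; exact hℓd
  have hℓs : ℓ ≠ s := by
    rintro rfl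
    refine js 1 le_rfl (by omega) ?_
    rw [hvv, mul_one]; exact hℓd
  have hsq : v ^ 2 - 1 = (v + 1) * (v - 1) := by
    have := Nat.sq_sub_sq v 1
    rwa [one_pow] at this
  -- it divides a torus of class 14 or 18
  have key : ∃ i, IsT σ i ∧ ℓ ∣ TT (p ^ k) i := by
    rw [hsq, hℓ.dvd_mul] at hℓd
    rcases hℓd with h5 | h5
    · refine ⟨j, hj, ?_⟩
      have h6 : ℓ ∣ Nat.card F ^ m + 1 := by rw [hvv]; exact h5.trans (H377.two_torus hmo)
      obtain ⟨x, hx⟩ := hA (H377.psp_adj_plus (F := F) (by omega) hℓ hs.prime hℓ2 s2 hℓs h6 hsp)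
      have h7 := tor j hj.c4 x s hs (by rw [hx]; exact dvd_mul_left _ _)
      rw [hx] at h7
      exact (dvd_mul_right _ _).trans h7
    · refine ⟨i, hi, ?_⟩
      have h6 : ℓ ∣ Nat.card F ^ m - 1 := by
        rw [hvv]
        refine h5.trans ?_
        have := Nat.sub_dvd_pow_sub_pow v 1 m
        rwa [one_pow] at this
      obtain ⟨x, hx⟩ := hA (H377.psp_adj_minus (F := F) (by omega) hℓ hr.prime hℓ2 r2 hℓr h6 hrm)
      have h7 := tor i hi.c4 x r hr (by rw [hx]; exact dvd_mul_left _ _)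
      rw [hx] at h7
      exact (dvd_mul_right _ _).trans h7
  obtain ⟨i', hi', hℓT⟩ := key
  -- a prime of class 7 or 9
  obtain ⟨c, hc, w, hw, dw⟩ := ex_b R
  have hc8 : c ∈ C8 := hc.c8
  have hc4 : c ∈ C4 := hc.c4
  have w2 : w ≠ 2 := by
    have := hw.odd (h2C _ hc.c8)
    omega
  refine sep hq2 hℓ hℓ2 hi' hc hℓT ?_
  by_cases hℓw : ℓ = w
  · rw [hℓw]; exact H334.E7.Lay.prim_dvd_tt hq2 hc4 hw
  -- `w` and `ℓ` are adjacent
  have hwr : w ≠ r := by
    rintro rfl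
    exact hi.ne hc (hw.unique hr).symm
  have hws : w ≠ s := by
    rintro rfl
    exact hj.ne hc (hw.unique hs).symm
  have w1 : ¬ w ∣ Nat.card F ^ m - 1 := fun h5 =>
    nad c hc8 i hi.c8 (hi.ne hc).symm w r hw hr
      (hA (H377.psp_adj_minus (F := F) (by omega) hw.prime hr.prime w2 r2 hwr h5 hrm))
  have w3 : ¬ w ∣ Nat.card F ^ m + 1 := fun h5 =>
    nad c hc8 j hj.c8 (hj.ne hc).symm w s hw hs
      (hA (H377.psp_adj_plus (F := F) (by omega) hw.prime hs.prime w2 s2 hws h5 hsp))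
  have hwv : ¬ w ∣ v := by
    intro h5
    obtain ⟨c', _⟩ := CharP.exists F
    have : Fact c'.Prime := ⟨CharP.char_is_prime F c'⟩
    obtain ⟨n, -, hn⟩ := FiniteField.card F c'
    rw [← Nat.card_eq_fintype_card, hvv] at hn
    have h6 : w = c' := by
      rw [hn] at h5
      exact (Nat.prime_dvd_prime_iff_eq hw.prime Fact.out).1 (hw.prime.dvd_of_dvd_pow h5)
    have h7 : 2 = c' := by
      have h8 : 2 ∣ c' ^ (n : ℕ) := by rw [← hn]; omega
      exact (Nat.prime_dvd_prime_iff_eq Nat.prime_two Fact.out).1 (Nat.prime_two.dvd_of_dvd_pow h8)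
    (clear * - w2 h6 h7; omega)
  -- the weights
  have e1 : wO (Nat.card F) ℓ = 1 := by
    have h5 : ¬ (ℓ = 2 ∨ ℓ ∣ Nat.card F) := by
      rw [hvv]; exact not_or.2 ⟨hℓ2, hℓv⟩
    rw [wO, if_neg h5]
    have h6 : ee (Nat.card F) ℓ ∣ 2 := H72.AdjOrth.ee_dvd (by omega) (by rw [hvv]; exact hℓd)
    have h7 := (Nat.dvd_prime Nat.prime_two).1 h6
    rcases h7 with h7 | h7 <;> rw [h7] <;> rfl
  have e2 : wO (Nat.card F) w ≤ m - 1 := by
    have h5 : ¬ (w = 2 ∨ w ∣ Nat.card F) := by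
      rw [hvv]; exact not_or.2 ⟨w2, hwv⟩
    rw [wO, if_neg h5]
    have h6 := H72.AdjCoc.sp_class (F := F) (m := m) hw.prime (by rw [hvv]; exact hwv) (hcard w dw)
    rcases Nat.lt_or_ge (eta (ee (Nat.card F) w)) m with h7 | h7
    · omega
    · exfalso
      have h8 : eta (ee (Nat.card F) w) = m := le_antisymm h6 h7
      rw [eta] at h8
      have h9 := H72.AdjOrth.dvd_pow_ee (q := Nat.card F) (r := w) (by omega)
      split_ifs at h8 with h10
      · have h11 : ee (Nat.card F) w = 2 * m := by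
          obtain ⟨t, ht⟩ := h10
          omega
        rw [h11] at h9
        have h12 : Nat.card F ^ (2 * m) - 1 = (Nat.card F ^ m + 1) * (Nat.card F ^ m - 1) := by
          rw [mul_comm 2 m, pow_mul]
          have := Nat.sq_sub_sq (Nat.card F ^ m) 1
          rwa [one_pow] at this
        rw [h12, hw.prime.dvd_mul] at h9
        exact h9.elim w3 w1
      · rw [h8] at h9
        exact w1 h9
  obtain ⟨x, hx⟩ := hadj ℓ w hℓ hw.prime hℓw (H72.AdjSp.sp_adj hm hℓ hw.prime hℓw (by omega))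
  have h7 := tor c hc4 x w hw (by rw [hx]; exact dvd_mul_left _ _)
  rw [hx] at h7
  exact (dvd_mul_right _ _).trans h7

/-- **row `PSp`** -/
theorem row_psp {σ : Bool} {p k m v : ℕ} {S : Type u} [Group S] [Finite S] (R : RowS σ p k S) (hg : IsNamed (.psp m v) S)
    (hv : ¬ p ∣ v) : False := by
  obtain ⟨F, _, _, hF, ⟨e⟩⟩ := hg.real
  have hm : 2 ≤ m := hg.cond.1
  refine core R (F := F) hm (by rw [Nat.card_eq_fintype_card, hF]; exact hv)
    (fun r hr => by rwa [← Nat.card_congr e.toEquiv]) fun r s _ _ _ ⟨x, hx⟩ => ⟨e.symm x, ?_⟩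
  rw [MulEquiv.orderOf_eq, hx]

/-- **row `PΩ_{2m+1}`** -/
theorem row_oodd {σ : Bool} {p k m v : ℕ} {S : Type u} [Group S] [Finite S] (R : RowS σ p k S) (hg : IsNamed (.oodd m v) S)
    (hv : ¬ p ∣ v) : False := by
  obtain ⟨F, _, _, hF, ⟨e⟩⟩ := hg.real
  obtain ⟨hm, ho, -⟩ := hg.cond
  have hc : Nat.card (POmega F (quadFormOdd m F)) = Nat.card (PSp m F) := by
    have h1 := oodd_eq (F := F) hm (by rw [hF]; exact ho)
    have h2 := psp_eq (F := F) (m := m) (by omega)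
    have h3 : fPSp.den m (Fintype.card F) = 2 := by
      change Nat.gcd 2 (Fintype.card F - 1) = 2
      rw [hF]
      obtain ⟨t, ht⟩ := ho
      exact Nat.gcd_eq_left (by omega)
    have h4 : fOOdd.den m (Fintype.card F) = 2 := rfl
    have h5 : fOOdd.num m (Fintype.card F) = fPSp.num m (Fintype.card F) := rfl
    rw [h3] at h2
    rw [h4, h5, ← h2] at h1
    omega
  refine core R (F := F) (m := m) (by omega) (by rw [Nat.card_eq_fintype_card, hF]; exact hv)
    (fun r hr => by rwa [← hc, ← Nat.card_congr e.toEquiv]) fun r s hr hs hrs hx => ?_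
  obtain ⟨x, hx⟩ := (Cfsg.Agent.S2474.result (F := F) (by rw [hF]; exact ho) m hm r s hr hs hrs).2 hx
  exact ⟨e.symm x, by rw [MulEquiv.orderOf_eq, hx]⟩

end Cfsg.Agent.R2.Spec.X1.E7
end

-- part: R2/Spec/X1/E7/RowE7
section
/-!
# `E₇(q)`, `q` odd: the row `E₇(u)` (helper13, S3435; after helper334, S3482)
-/

set_option autoImplicit false

namespace Cfsg.Agent.R2.Spec.X1.E7

open Cfsg Cfsg.Agent.H436 Cfsg.Agent.H962.E7 Cfsg.Agent.OrdDiv
open Cfsg.Agent.H334.E7.Facts Cfsg.Agent.H334.E7.NT Cfsg.Agent.H334.E7.Lay Cfsg.Agent.H334.E7.Size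
open Cfsg.Agent.H334.E7.Row (d_sub d_add parity tt7 tt14 tt9 tt18 fin_eq)

universe u'

/-! ### arithmetic -/

theorem bound7' {q u a X : ℕ} (hq : 13 ≤ q) (hu : 8 ≤ u) (ha : a ∈ C4) (h : q ^ 6 * 3 ≤ 28 * TT u a)
    (hX : 2 * X ≤ 7 * (q + 1)) : X < u ^ 4 := by
  by_contra hcon
  push Not at hcon
  have h2 := tt_le' (u := u) (by omega) ha
  have h3 : q ^ 6 * 3 ≤ 28 * (2 * u ^ 7) := h.trans (Nat.mul_le_mul_left _ h2)
  have h4 : 2 * u ^ 4 ≤ 7 * (q + 1) := by omega
  have h5 : 32 * u ^ 7 ≤ 49 * (q + 1) ^ 2 := by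
    calc 32 * u ^ 7 = 4 * u ^ 7 * 8 := by ring
      _ ≤ 4 * u ^ 7 * u := Nat.mul_le_mul_left _ hu
      _ = (2 * u ^ 4) ^ 2 := by ring
      _ ≤ (7 * (q + 1)) ^ 2 := Nat.pow_le_pow_left h4 2
      _ = 49 * (q + 1) ^ 2 := by ring
  have h6 : 12 * q ^ 6 ≤ 1372 * q ^ 2 := by
    calc 12 * q ^ 6 = 4 * (q ^ 6 * 3) := by ring
      _ ≤ 4 * (28 * (2 * u ^ 7)) := Nat.mul_le_mul_left _ h3
      _ = 7 * (32 * u ^ 7) := by ring
      _ ≤ 7 * (49 * (q + 1) ^ 2) := Nat.mul_le_mul_left _ h5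
      _ = 343 * (q + 1) ^ 2 := by ring
      _ ≤ 343 * (2 * q) ^ 2 := Nat.mul_le_mul_left _ (Nat.pow_le_pow_left (by omega) 2)
      _ = 1372 * q ^ 2 := by ring
  have h7 : 28561 * q ^ 2 ≤ q ^ 6 := by
    calc 28561 * q ^ 2 = 13 ^ 4 * q ^ 2 := by norm_num
      _ ≤ q ^ 4 * q ^ 2 := Nat.mul_le_mul_right _ (Nat.pow_le_pow_left hq 4)
      _ = q ^ 6 := by ring
  have h8 : 0 < q ^ 2 := by positivity
  omega

theorem bound9' {q u b X : ℕ} (hq : 13 ≤ q) (hu : 8 ≤ u) (hb : b ∈ C4) (h3 : q ^ 6 - q ^ 3 + 1 ≤ 3 * TT u b)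
    (hX : 2 * X ≤ 3 * (q ^ 3 + 1)) : X < u ^ 4 := by
  by_contra hcon
  push Not at hcon
  have h4 := tt_le (show 2 ≤ u by omega) hb
  have hle : q ^ 3 ≤ q ^ 6 := Nat.pow_le_pow_right (by omega) (by norm_num)
  have h5 : (q : ℤ) ^ 6 - (q : ℤ) ^ 3 + 1 ≤ 3 * (((u : ℤ) + 1) * ((u : ℤ) ^ 6 - (u : ℤ) ^ 3 + 1)) := by
    have h6 : ((q ^ 6 - q ^ 3 + 1 : ℕ) : ℤ) ≤ ((3 * TT u b : ℕ) : ℤ) := by exact_mod_cast h3
    push_cast [Nat.cast_sub hle] at h6
    linarith only [h4, h6]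
  have h6 : 2 * (u : ℤ) ^ 4 ≤ 3 * ((q : ℤ) ^ 3 + 1) := by
    have : 2 * u ^ 4 ≤ 3 * (q ^ 3 + 1) := by omega
    exact_mod_cast this
  have hq' : (13 : ℤ) ≤ q := by exact_mod_cast hq
  have hu' : (8 : ℤ) ≤ u := by exact_mod_cast hu
  have hq3 : (2197 : ℤ) ≤ (q : ℤ) ^ 3 := by
    calc (2197 : ℤ) = 13 ^ 3 := by norm_num
      _ ≤ (q : ℤ) ^ 3 := pow_le_pow_left₀ (by norm_num) hq' 3
  have hu6 : (0 : ℤ) < (u : ℤ) ^ 6 := by positivity
  have hu3 : (512 : ℤ) ≤ (u : ℤ) ^ 3 := by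
    calc (512 : ℤ) = 8 ^ 3 := by norm_num
      _ ≤ (u : ℤ) ^ 3 := pow_le_pow_left₀ (by norm_num) hu' 3
  have h7 : 4 * (u : ℤ) ^ 8 ≤ 9 * ((q : ℤ) ^ 3 + 1) ^ 2 := by
    have h8 : (2 * (u : ℤ) ^ 4) ^ 2 ≤ (3 * ((q : ℤ) ^ 3 + 1)) ^ 2 := pow_le_pow_left₀ (by positivity) h6 2
    calc 4 * (u : ℤ) ^ 8 = (2 * (u : ℤ) ^ 4) ^ 2 := by ring
      _ ≤ _ := h8
      _ = 9 * ((q : ℤ) ^ 3 + 1) ^ 2 := by ring
  have h8 : 100 * ((q : ℤ) ^ 3 + 1) ^ 2 ≤ 101 * ((q : ℤ) ^ 6 - (q : ℤ) ^ 3 + 1) := by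
    have h9 : (q : ℤ) ^ 6 = (q : ℤ) ^ 3 * (q : ℤ) ^ 3 := by ring
    rw [h9]
    generalize (q : ℤ) ^ 3 = z at hq3
    nlinarith only [hq3]
  have h9 : 400 * (u : ℤ) ^ 8 ≤ 2727 * (((u : ℤ) + 1) * (u : ℤ) ^ 6) := by
    have h10 : ((u : ℤ) + 1) * ((u : ℤ) ^ 6 - (u : ℤ) ^ 3 + 1) ≤ ((u : ℤ) + 1) * (u : ℤ) ^ 6 :=
      mul_le_mul_of_nonneg_left (by linarith only [hu3]) (by positivity)
    linarith only [h5, h7, h8, h10]
  have h10 : 400 * (u : ℤ) ^ 2 ≤ 2727 * ((u : ℤ) + 1) := by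
    have h11 : (u : ℤ) ^ 6 * (400 * (u : ℤ) ^ 2) ≤ (u : ℤ) ^ 6 * (2727 * ((u : ℤ) + 1)) := by
      calc _ = 400 * (u : ℤ) ^ 8 := by ring
        _ ≤ _ := h9
        _ = _ := by ring
    exact le_of_mul_le_mul_left h11 hu6
  nlinarith only [hu, h10]

theorem u_ge' {q u a : ℕ} (hq : 13 ≤ q) (ha : a ∈ C4) (h : q ^ 6 * 3 ≤ 28 * TT u a) : 8 ≤ u := by
  by_contra hcon
  push Not at hcon
  have h2 := small_tt u hcon a ha
  have h4 : 13 ^ 6 ≤ q ^ 6 := Nat.pow_le_pow_left hq 6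
  norm_num at h4
  omega

/-- the lower bound of the tori -/
theorem tt_ge {u a : ℕ} (hu : 13 ≤ u) (ha : a ∈ C4) : 28960854 ≤ TT u a := by
  have h := tt_mul (u := u) (by omega) ha
  have h1 : Nat.gcd 2 (u - 1) ≤ 2 := Nat.gcd_le_left _ (by norm_num)
  have h2 : PN u a ≤ 2 * TT u a := by
    rw [← h]
    exact Nat.mul_le_mul_right _ h1
  have h3 : (12 : ℕ) * 13 ^ 6 ≤ PN u a := by
    have h6 : 13 ^ 6 ≤ u ^ 6 := Nat.pow_le_pow_left hu 6
    have h36 : u ^ 3 ≤ u ^ 6 := Nat.pow_le_pow_right (by omega) (by norm_num)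
    have h7 : u ^ 7 = u * u ^ 6 := by ring
    rcases mem_c4 ha with rfl | rfl | rfl | rfl
    · show (12 : ℕ) * 13 ^ 6 ≤ u ^ 7 - 1
      have : 13 * 13 ^ 6 ≤ u * u ^ 6 := Nat.mul_le_mul hu h6
      omega
    · show (12 : ℕ) * 13 ^ 6 ≤ (u - 1) * (u ^ 6 + u ^ 3 + 1)
      exact Nat.mul_le_mul (by omega) (by omega)
    · show (12 : ℕ) * 13 ^ 6 ≤ u ^ 7 + 1
      have : 13 * 13 ^ 6 ≤ u * u ^ 6 := Nat.mul_le_mul hu h6
      omega
    · show (12 : ℕ) * 13 ^ 6 ≤ (u + 1) * (u ^ 6 - u ^ 3 + 1)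
      have h8 : 2 * u ^ 3 ≤ u ^ 6 := by
        calc 2 * u ^ 3 ≤ u ^ 3 * u ^ 3 := Nat.mul_le_mul_right _ ((show 2 ≤ u by omega).trans (Nat.le_self_pow (by norm_num) u))
          _ = u ^ 6 := by ring
      have h9 : u ^ 6 ≤ 2 * (u ^ 6 - u ^ 3 + 1) := by omega
      have h12 : 13 ^ 3 ≤ u ^ 3 := Nat.pow_le_pow_left hu 3
      have h10 : 13 ^ 6 ≤ u ^ 6 - u ^ 3 + 1 + 13 ^ 3 := by
        have : u ^ 6 = u ^ 3 * u ^ 3 := by ring
        obtain ⟨z, hz⟩ : ∃ z, u ^ 3 = z + 13 ^ 3 := ⟨u ^ 3 - 13 ^ 3, by omega⟩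
        rw [this, hz]
        have : (z + 13 ^ 3) * (z + 13 ^ 3) = z * z + 2 * 13 ^ 3 * z + 13 ^ 6 := by ring
        rw [this]
        norm_num only [_root_.ge_iff_le]
        have := Nat.zero_le (z * z)
        omega
      have h11 : (12 : ℕ) * 13 ^ 6 ≤ 14 * (u ^ 6 - u ^ 3 + 1) := by
        norm_num only [] at h10 ⊢
        omega
      exact h11.trans (Nat.mul_le_mul_right _ (by omega))
  norm_num at h3
  omega

theorem check1 : ∀ q ∈ ({5, 9} : Finset ℕ), ∀ u ∈ Finset.Ico 2 13, Nat.gcd q u = 1 → ∀ a ∈ C4, ¬ NN q 14 ∣ TT u a := by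
  decide +kernel

theorem check2 : ∀ q ∈ ({3, 7, 11} : Finset ℕ), ∀ u ∈ Finset.Ico 2 13, Nat.gcd q u = 1 → ∀ a ∈ C4,
    ¬ NN q 7 ∣ TT u a := by
  decide +kernel

/-! ### groups -/

variable {s : Bool} {p k u : ℕ} {S : Type u'} [Group S]

/-- the class of a prime of the classes 7, 9, 14, 18 -/
theorem cls7 (R : RowS s p k S) (U : UFacts S u) (hu : 2 ≤ u) {i r : ℕ} (hi : i ∈ C4) (F : Fl S (p ^ k) i)
    (hr : Prim (p ^ k) i r) :
    (∃ c ∈ C4, Prim u c r ∧ TT u c ∣ TT (p ^ k) i ∧ NN (p ^ k) i ∣ TT u c) ∨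
      ((u - 1) / Nat.gcd 2 (u - 1) ∣ TT (p ^ k) i ∧ (u + 1) / Nat.gcd 2 (u - 1) ∣ TT (p ^ k) i) := by
  have hq := two_le R
  have h8 := Cfsg.Agent.H824.E7.Facts.gt_eight (by omega) hr (H627.E7.C4_sub hi)
  rcases U.adj r hr.prime h8 (F.dvd r hr) with ⟨c, hc, h⟩ | ⟨⟨x, hx, hx'⟩, ⟨y, hy, hy'⟩⟩
  · refine Or.inl ⟨c, hc, h, ?_, ?_⟩
    · obtain ⟨x, hx⟩ := U.elt c hc
      rw [← hx]
      exact R.tor i hi x r hr (by rw [hx]; exact prim_dvd_tt hu hc h)
    · obtain ⟨x, hx⟩ := F.elt hi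
      rw [← hx]
      exact U.tor c hc x r h (by rw [hx]; exact prim_dvd_nn hq hi hr)
  · exact Or.inr ⟨hx'.trans (R.tor i hi x r hr hx), hy'.trans (R.tor i hi y r hr hy)⟩

/-- one class of `u` contains primes of one class of `q` only -/
theorem one_class (R : RowS s p k S) (U : UFacts S u) (hu : 2 ≤ u) {i j r t c : ℕ} (hi : i ∈ C4) (hj : j ∈ C4)
    (hij : i ≠ j) (hr : Prim (p ^ k) i r) (ht : Prim (p ^ k) j t) (hc : c ∈ C4) (h1 : Prim u c r)
    (h2 : Prim u c t) : False := by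
  obtain ⟨x, hx⟩ := U.elt c hc
  have hrs : r ≠ t := fun h => hij (hr.unique (h ▸ ht))
  have h3 : r * t ∣ orderOf x := by
    rw [hx]
    exact Nat.Coprime.mul_dvd_of_dvd_of_dvd ((Nat.coprime_primes hr.prime ht.prime).2 hrs)
      (prim_dvd_tt hu hc h1) (prim_dvd_tt hu hc h2)
  have h4 : orderOf x ≠ 0 := by
    rw [hx]
    exact (tt_pos hu hc).ne'
  exact R.nad i (H627.E7.C4_sub hi) j (H627.E7.C4_sub hj) hij r t hr ht
    ⟨x ^ (orderOf x / (r * t)), orderOf_pow_orderOf_div h4 h3⟩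

/-- the top classes are isolated -/
theorem isol (R : RowS s p k S) (U : UFacts S u) (hu : 2 ≤ u) {i r : ℕ} (hi : IsT s i)
    (hr : Prim (p ^ k) i r) :
    ∃ c ∈ C4, Prim u c r ∧ TT u c ∣ TT (p ^ k) i ∧ NN (p ^ k) i ∣ TT u c := by
  have hq := two_le R
  rcases cls7 R U hu hi.c4 (R.top i hi) hr with h | ⟨h3, h4⟩
  · exact h
  exfalso
  rcases Nat.mod_two_eq_zero_or_one u with hev | ho
  swap
  · exact parity hu ho (TT_odd R.hs hi) h3 h4
  have he : Nat.gcd 2 (u - 1) = 1 := H267.E7R.gcd_two_even hev hu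
  -- the other prime
  obtain ⟨j, hj, hFj⟩ := side R
  obtain ⟨t, ht⟩ := ex8 R hj.c8
  rcases cls7 R U hu hj.c4 hFj ht with ⟨c, hc, h5, h6, h7⟩ | ⟨-, h6⟩
  · have hc' : c = 7 ∨ c = 9 := by
      by_contra hcon
      have hc' : c = 14 ∨ c = 18 := by have := mem_c4 hc; omega
      have := cop hq R.hs hi hj h4 ((d_add hu hc').trans h6)
      rw [he, Nat.div_one] at this
      omega
    have h8 := cop hq R.hs hi hj h3 ((d_sub hu hc').trans h6)
    rw [he, Nat.div_one] at h8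
    have hu2 : u = 2 := by omega
    subst hu2
    have h9 : TT 2 c ≤ 171 := by
      have : ∀ c ∈ C4, TT 2 c ≤ 171 := by decide
      exact this c hc
    have h10 := (Nat.le_of_dvd (tt_pos hu hc) h7).trans h9
    have h11 := NN_ge hj.c4 (three_le R)
    have h12 : p ^ k = 3 := by
      by_contra hne
      have h13 : 4 ^ 6 ≤ (p ^ k) ^ 6 := Nat.pow_le_pow_left (by have := three_le R; omega) 6
      norm_num at h13
      omega
    rw [h12] at h10
    have hs : s = false := by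
      have := R.hs
      rw [h12] at this
      cases s
      · rfl
      · simp [md] at this
    subst hs
    simp only [IsB, Bool.false_eq_true, if_false] at hj
    rcases hj with rfl | rfl <;> norm_num [NN] at h10
  · have := cop hq R.hs hi hj h4 h6
    rw [he, Nat.div_one] at this
    omega

theorem core7 (R : RowS s p k S) (U : UFacts S u) (hu : 2 ≤ u) (hv : Nat.Coprime p u) : False := by
  have hq3 := three_le R
  have hqm := gcd_two R.hs
  have i1 := isT_t1 s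
  have i2 := isT_t2 s
  obtain ⟨r, hr⟩ := ex8 R i1.c8
  obtain ⟨t, ht⟩ := ex8 R i2.c8
  obtain ⟨a, ha, ka, ta, na⟩ := isol R U hu i1 hr
  obtain ⟨b, hb, kb, tb, nb⟩ := isol R U hu i2 ht
  have hN14 : NN (p ^ k) (t1 s) ≤ TT u a := Nat.le_of_dvd (tt_pos hu ha) na
  have hN18 : NN (p ^ k) (t2 s) ≤ TT u b := Nat.le_of_dvd (tt_pos hu hb) nb
  rcases Nat.lt_or_ge (p ^ k) 13 with hsmall | hq13
  · -- small fields
    have hmem : p ^ k ∈ ({3, 5, 7, 9, 11} : Finset ℕ) := by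
      have := odd_of R.hs
      simp only [Finset.mem_insert, Finset.mem_singleton]
      (clear * - hq3 hsmall this; omega)
    have hle := Nat.le_of_dvd (tt_pos (two_le R) i1.c4) ta
    have hT := TT_le i1.c4 hq3 hqm
    have hu13 : u < 13 := by
      by_contra hcon
      push Not at hcon
      have h1 := tt_ge hcon ha
      have h2 : (p ^ k) ^ 7 ≤ 11 ^ 7 := Nat.pow_le_pow_left (by
        simp only [Finset.mem_insert, Finset.mem_singleton] at hmem
        omega) 7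
      norm_num at h2
      omega
    have hum : u ∈ Finset.Ico 2 13 := Finset.mem_Ico.2 ⟨hu, hu13⟩
    have hgc : Nat.gcd (p ^ k) u = 1 := Nat.Coprime.pow_left k hv
    have h4 := R.hs
    simp only [Finset.mem_insert, Finset.mem_singleton] at hmem
    cases s
    · simp only [md, Bool.false_eq_true, if_false] at h4
      refine check2 (p ^ k) ?_ u hum hgc a ha na
      simp only [Finset.mem_insert, Finset.mem_singleton]
      omega
    · simp only [md, if_true] at h4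
      refine check1 (p ^ k) ?_ u hum hgc a ha na
      simp only [Finset.mem_insert, Finset.mem_singleton]
      omega
  have hge14 : (p ^ k) ^ 6 * 3 ≤ 28 * TT u a := (NN_ge i1.c4 hq3).trans (Nat.mul_le_mul_left _ hN14)
  have hge18 : (p ^ k) ^ 6 - (p ^ k) ^ 3 + 1 ≤ 3 * TT u b := by
    refine le_trans ?_ (Nat.mul_le_mul_left 3 hN18)
    have h1 := nn_gcd (q := p ^ k) (by omega) i2.c4
    have h36 : (p ^ k) ^ 3 ≤ (p ^ k) ^ 6 := Nat.pow_le_pow_right (by omega) (by norm_num)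
    zify [h36]
    have hg : Nat.gcd (ee (t2 s)) (LL (p ^ k) (t2 s)) ≤ 3 := by
      cases s
      · exact Nat.gcd_le_left _ (by decide)
      · exact Nat.gcd_le_left _ (by decide)
    have h2 : (NN (p ^ k) (t2 s) : ℤ) * (Nat.gcd (ee (t2 s)) (LL (p ^ k) (t2 s)) : ℤ) ≤ NN (p ^ k) (t2 s) * 3 :=
      mul_le_mul_of_nonneg_left (by exact_mod_cast hg) (by (clear * -; positivity))
    rw [h1] at h2
    have h3 : ((p : ℤ) ^ k) ^ 6 - ((p : ℤ) ^ k) ^ 3 + 1 ≤ BZ ((p ^ k : ℕ) : ℤ) (t2 s) := by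
      cases s
      · change _ ≤ ((p ^ k : ℕ) : ℤ) ^ 6 + ((p ^ k : ℕ) : ℤ) ^ 3 + 1
        push_cast
        have : (0 : ℤ) ≤ ((p : ℤ) ^ k) ^ 3 := by (clear * -; positivity)
        linarith only [this]
      · change _ ≤ ((p ^ k : ℕ) : ℤ) ^ 6 - ((p ^ k : ℕ) : ℤ) ^ 3 + 1
        push_cast
        exact le_rfl
    linarith only [h2, h3]
  have hu8 : 8 ≤ u := u_ge' hq13 ha hge14
  -- nonisolated
  have noniso : ∀ j, IsB s j → (u - 1) / Nat.gcd 2 (u - 1) ∣ TT (p ^ k) j →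
      (u + 1) / Nat.gcd 2 (u - 1) ∣ TT (p ^ k) j → False := by
    intro j hj h3 h4
    have hle : Nat.gcd 2 (u - 1) ≤ 2 := Nat.gcd_le_left _ (by norm_num)
    have hpos : 0 < Nat.gcd 2 (u - 1) := gcd_pos
    obtain ⟨e, he⟩ : ∃ e, Nat.gcd 2 (u - 1) = e := ⟨_, rfl⟩
    have big : ∀ n, 7 ≤ n → n / Nat.gcd 2 (u - 1) ≠ 1 := by
      intro n hn
      rw [he] at hle hpos ⊢
      rcases (show e = 1 ∨ e = 2 by omega) with rfl | rfl <;> omega
    rcases mem_c4 ha with h | h | h | h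
    · exact big (u - 1) (by omega) (cop (two_le R) R.hs i1 hj ((d_sub hu (Or.inl h)).trans ta) h3)
    · exact big (u - 1) (by omega) (cop (two_le R) R.hs i1 hj ((d_sub hu (Or.inr h)).trans ta) h3)
    · exact big (u + 1) (by omega) (cop (two_le R) R.hs i1 hj ((d_add hu (Or.inl h)).trans ta) h4)
    · exact big (u + 1) (by omega) (cop (two_le R) R.hs i1 hj ((d_add hu (Or.inr h)).trans ta) h4)
  have hpv : ∀ n, 1 ≤ n → ((p ^ k) ^ n = u ^ 7 ∨ (p ^ k) ^ n = u ^ 9) → False := by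
    intro n hn h
    have h1 : p ∣ (p ^ k) ^ n := dvd_pow (dvd_pow_self p (by have := R.hk; omega)) (by omega)
    have hv' : ¬ p ∣ u := (R.hp.coprime_iff_not_dvd).1 hv
    rcases h with h | h
    · exact hv' (R.hp.dvd_of_dvd_pow (h ▸ h1))
    · exact hv' (R.hp.dvd_of_dvd_pow (h ▸ h1))
  rcases R.one (b1 s) (isB_b1 s).c8 (b2 s) (isB_b2 s).c8 (b_ne s) with hF | hF
  · have j1 := isB_b1 s
    obtain ⟨w, hw⟩ := ex8 R j1.c8
    rcases cls7 R U hu j1.c4 hF hw with ⟨c, hc, kc, tc, nc⟩ | ⟨h3, h4⟩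
    swap
    · exact noniso _ j1 h3 h4
    have hac : a ≠ c := by
      rintro rfl
      exact one_class R U hu i1.c4 j1.c4 (i1.ne j1) hr hw ha ka kc
    obtain ⟨X, hX⟩ := ta
    obtain ⟨Y, hY⟩ := tc
    rw [mul_comm] at hX hY
    have e7 := tt7 (two_le R) hqm
    have e14 := tt14 (two_le R) hqm
    have hX2 := x_le (two_le R) hqm i1.c4 hX.symm na
    have hY2 := x_le (two_le R) hqm j1.c4 hY.symm nc
    obtain ⟨q, hq⟩ : ∃ q, p ^ k = q := ⟨_, rfl⟩
    rw [hq] at hX hY e7 e14 hX2 hY2 hge14 hq13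
    have hq7 : 13 ≤ q ^ 7 := hq13.trans (Nat.le_self_pow (by norm_num) q)
    cases s
    · have l7 : LL q (t1 false) * ee (t1 false) = (q - 1) * 7 := rfl
      have l14 : LL q (b1 false) * ee (b1 false) = (q + 1) * 7 := rfl
      rw [l7] at hX2
      rw [l14] at hY2
      change TT q 7 = _ at hX
      change TT q 14 = _ at hY
      have hX4 := bound7' (X := X) hq13 hu8 ha hge14 (by omega)
      have hY4 := bound7' (X := Y) hq13 hu8 ha hge14 (by omega)
      have hX0 : 0 < X := Nat.pos_of_ne_zero fun h => by rw [h, zero_mul] at hX; omega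
      have hY0 : 0 < Y := Nat.pos_of_ne_zero fun h => by rw [h, zero_mul] at hY; omega
      refine hpv 7 (by norm_num) (by
        rw [hq]; exact fin_eq hu8 hc ha hac.symm hY0 hX0 hY4 hX4 (by omega) (by (clear * - e14 hY; omega)))
    · have l7 : LL q (b1 true) * ee (b1 true) = (q - 1) * 7 := rfl
      have l14 : LL q (t1 true) * ee (t1 true) = (q + 1) * 7 := rfl
      rw [l14] at hX2
      rw [l7] at hY2
      change TT q 14 = _ at hX
      change TT q 7 = _ at hY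
      have hX4 := bound7' (X := X) hq13 hu8 ha hge14 (by omega)
      have hY4 := bound7' (X := Y) hq13 hu8 ha hge14 (by omega)
      have hX0 : 0 < X := Nat.pos_of_ne_zero fun h => by rw [h, zero_mul] at hX; omega
      have hY0 : 0 < Y := Nat.pos_of_ne_zero fun h => by rw [h, zero_mul] at hY; omega
      refine hpv 7 (by norm_num) (by
        rw [hq]; exact fin_eq hu8 ha hc hac hX0 hY0 hX4 hY4 (by omega) (by (clear * - e14 hX; omega)))
  · have j2 := isB_b2 s
    obtain ⟨w, hw⟩ := ex8 R j2.c8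
    rcases cls7 R U hu j2.c4 hF hw with ⟨c, hc, kc, tc, nc⟩ | ⟨h3, h4⟩
    swap
    · exact noniso _ j2 h3 h4
    have hbc : b ≠ c := by
      rintro rfl
      exact one_class R U hu i2.c4 j2.c4 (i2.ne j2) ht hw hb kb kc
    obtain ⟨X, hX⟩ := tb
    obtain ⟨Y, hY⟩ := tc
    rw [mul_comm] at hX hY
    have e9 := tt9 (two_le R) hqm
    have e18 := tt18 (two_le R) hqm
    have hX2 := x_le (two_le R) hqm i2.c4 hX.symm nb
    have hY2 := x_le (two_le R) hqm j2.c4 hY.symm nc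
    obtain ⟨q, hq⟩ : ∃ q, p ^ k = q := ⟨_, rfl⟩
    rw [hq] at hX hY e9 e18 hX2 hY2 hge18 hq13
    have hle' : q ≤ q ^ 2 := Nat.le_self_pow (by norm_num) q
    have cub1 : (q ^ 2 - q + 1) * (q + 1) = q ^ 3 + 1 := by
      zify [hle']; ring
    have cub2 : (q ^ 2 + q + 1) * (q - 1) + 1 = q ^ 3 := by
      obtain ⟨t, rfl⟩ : ∃ t, q = t + 1 := ⟨q - 1, by omega⟩
      rw [Nat.add_sub_cancel]; ring
    have bd1 : ∀ Z, 2 * Z ≤ (q + 1) * 3 → 2 * ((q ^ 2 - q + 1) * Z) ≤ 3 * (q ^ 3 + 1) := by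
      intro Z hZ
      calc 2 * ((q ^ 2 - q + 1) * Z) = (q ^ 2 - q + 1) * (2 * Z) := by ring
        _ ≤ (q ^ 2 - q + 1) * ((q + 1) * 3) := Nat.mul_le_mul_left _ hZ
        _ = 3 * (q ^ 3 + 1) := by rw [← cub1]; ring
    have bd2 : ∀ Z, 2 * Z ≤ (q - 1) * 3 → 2 * ((q ^ 2 + q + 1) * Z) ≤ 3 * (q ^ 3 + 1) := by
      intro Z hZ
      calc 2 * ((q ^ 2 + q + 1) * Z) = (q ^ 2 + q + 1) * (2 * Z) := by ring
        _ ≤ (q ^ 2 + q + 1) * ((q - 1) * 3) := Nat.mul_le_mul_left _ hZ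
        _ = 3 * ((q ^ 2 + q + 1) * (q - 1)) := by ring
        _ ≤ 3 * (q ^ 3 + 1) := by omega
    have hq9 : 13 ≤ q ^ 9 := hq13.trans (Nat.le_self_pow (by norm_num) q)
    -- `TT q 18 = A * TT u c₁`, `TT q 9 = B * TT u c₂`
    have fin : ∀ {A B c₁ c₂ : ℕ}, c₁ ∈ C4 → c₂ ∈ C4 → c₁ ≠ c₂ → 2 * A ≤ (q + 1) * 3 → 2 * B ≤ (q - 1) * 3 →
        TT q 18 = A * TT u c₁ → TT q 9 = B * TT u c₂ → q ^ 9 = u ^ 7 ∨ q ^ 9 = u ^ 9 := by
      intro A B c₁ c₂ hc₁ hc₂ hne hA hB h18 h9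
      have hA4 := bound9' hq13 hu8 hb hge18 (bd1 A hA)
      have hB4 := bound9' hq13 hu8 hb hge18 (bd2 B hB)
      have hA0 : 0 < A := Nat.pos_of_ne_zero fun h => by rw [h, zero_mul] at h18; rw [h18] at e18; simp at e18
      have hB0 : 0 < B := Nat.pos_of_ne_zero fun h => by rw [h, zero_mul] at h9; rw [h9] at e9; simp at e9; omega
      have e1 : (q ^ 2 - q + 1) * A * TT u c₁ = (q ^ 2 + q + 1) * B * TT u c₂ + 1 := by
        have f1 : 2 * ((q ^ 2 - q + 1) * A * TT u c₁) = q ^ 9 + 1 := by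
          rw [← e18, h18]; ring
        have f2 : 2 * ((q ^ 2 + q + 1) * B * TT u c₂) + 1 = q ^ 9 := by
          rw [← e9, h9]; ring
        omega
      exact fin_eq hu8 hc₁ hc₂ hne (Nat.mul_pos (by omega) hA0) (Nat.mul_pos (by (clear * - hq13; positivity)) hB0) hA4 hB4 e1
        (by rw [← e18, h18]; ring)
    cases s
    · refine hpv 9 (by norm_num) (by
        rw [hq]
        exact fin (A := Y) (B := X) hc hb hbc.symm hY2 hX2 hY hX)
    · refine hpv 9 (by norm_num) (by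
        rw [hq]
        exact fin (A := X) (B := Y) hb hc hbc hX2 hY2 hX hY)

/-- **row `E₇(u)`** -/
theorem row_e7 {s : Bool} {p k u : ℕ} {S : Type u'} [Group S] [Finite S] (R : RowS s p k S) (hg : IsNamed (.e7 u) S)
    (hv : ¬ p ∣ u) : False := by
  obtain ⟨F, _, _, hF, ⟨e⟩⟩ := hg.real
  have h := ufacts F
  rw [hF] at h
  have hu : 2 ≤ u := by rw [← hF]; exact Fintype.one_lt_card
  refine core7 R (u := u) ⟨?_, ?_, ?_⟩ hu ((R.hp.coprime_iff_not_dvd).2 hv)
  · intro i hi x r hr hx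
    rw [← MulEquiv.orderOf_eq e] at hx ⊢
    exact h.tor i hi (e x) r hr hx
  · intro i hi
    obtain ⟨x, hx⟩ := h.elt i hi
    exact ⟨e.symm x, by rw [MulEquiv.orderOf_eq, hx]⟩
  · intro r hr h8 hd
    rw [Nat.card_congr e.toEquiv] at hd
    rcases h.adj r hr h8 hd with h1 | ⟨⟨x, hx, hx'⟩, ⟨y, hy, hy'⟩⟩
    · exact Or.inl h1
    · refine Or.inr ⟨⟨e.symm x, ?_, ?_⟩, ⟨e.symm y, ?_, ?_⟩⟩
      · rw [MulEquiv.orderOf_eq]; exact hx
      · rw [MulEquiv.orderOf_eq]; exact hx'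
      · rw [MulEquiv.orderOf_eq]; exact hy
      · rw [MulEquiv.orderOf_eq]; exact hy'

end Cfsg.Agent.R2.Spec.X1.E7
end
end

-- part: R2/Spec/X1/E7/RowE8_mg
section
prune_inst 0x4001014006400000000000000020002202000000000008001710002000b0e10028040000040000800104490801000002002000000400000000a003000000600000000060040d10d08800000001001500000000000000000000000000000041000000000000
set_option linter.all false
open scoped Cfsg.Agent.FastGrp

-- part: R2/Spec/X1/E7/RowE8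
section
/-!
# `E₇(q)`, `q` odd: the row `E₈(u)` (helper13, S3435; after helper500, S3482)
-/

set_option autoImplicit false

namespace Cfsg.Agent.R2.Spec.X1.E7

open Cfsg Cfsg.Agent.H436 Cfsg.Agent.H962.E7 Cfsg.Agent.OrdDiv
open Cfsg.Agent.H500.E7 (FE8 I8 Ph Iso8 cast15 cast20 cast24 cast30 Ph_bd low_mul iso_of_nadj exists_mul
  prim_dvd_Ph ne_of_class q_small xb key low_one fin_seven abs_sub_le' six_le TT_two)
open Cfsg.Agent.H627.E7 (NN_pos prim_of_dvd_NN dvd_NN three_lt C4_sub exists_prim8)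

universe w

/-! ### arithmetic -/

theorem q_le8 {q i : ℕ} (hi : i ∈ C4) (hq : 7 ≤ q) : q ^ 6 ≤ 8 * NN q i := by
  have h1 := H334.E7.Size.pn_le (q := q) (by omega) hi
  have h4 := H627.E7.mem_C4.1 hi
  rcases h4 with rfl | rfl | h4 | h4
  · change q ^ 7 - 1 ≤ NN q 7 * ((q - 1) * 7) at h1
    obtain ⟨t, rfl⟩ : ∃ t, q = t + 1 := ⟨q - 1, by omega⟩
    rw [Nat.add_sub_cancel] at h1
    have h2 : t * (t + 1) ^ 6 ≤ (t + 1) ^ 7 - 1 := by
      have : 1 ≤ (t + 1) ^ 6 := Nat.one_le_pow _ _ (by omega)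
      have : (t + 1) ^ 7 = t * (t + 1) ^ 6 + (t + 1) ^ 6 := by ring
      omega
    have h3 : t * (t + 1) ^ 6 ≤ t * (7 * NN (t + 1) 7) := by
      refine h2.trans (h1.trans (le_of_eq (by ring)))
    have h4 := Nat.le_of_mul_le_mul_left h3 (by omega)
    omega
  · change (q - 1) * (q ^ 6 + q ^ 3 + 1) ≤ NN q 9 * ((q - 1) * 3) at h1
    have h3 : (q - 1) * (q ^ 6 + q ^ 3 + 1) ≤ (q - 1) * (3 * NN q 9) := h1.trans (le_of_eq (by ring))
    have h4 := Nat.le_of_mul_le_mul_left h3 (by omega)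
    omega
  · exact H627.E7.q_le (Or.inl h4) hq
  · exact H627.E7.q_le (Or.inr h4) hq

/-- the computable form -/
def phN (a u : ℕ) : ℕ :=
  if a = 15 then (u ^ 8 + u ^ 5 + u ^ 3 + 1) - (u ^ 7 + u ^ 4 + u)
  else if a = 20 then (u ^ 8 + u ^ 4 + 1) - (u ^ 6 + u ^ 2)
  else if a = 24 then (u ^ 8 + 1) - u ^ 4
  else (u ^ 8 + u ^ 7 + u + 1) - (u ^ 5 + u ^ 4 + u ^ 3)

theorem phN_eq {a u : ℕ} (ha : a ∈ I8) (hu : 2 ≤ u) : Ph a u = phN a u := by
  have m : ∀ {i j : ℕ}, i ≤ j → u ^ i ≤ u ^ j := fun h => Nat.pow_le_pow_right (by omega) h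
  have m78 := m (show 7 ≤ 8 by norm_num)
  have m45 := m (show 4 ≤ 5 by norm_num)
  have m13 : u ≤ u ^ 3 := Nat.le_self_pow (by norm_num) u
  have m68 := m (show 6 ≤ 8 by norm_num)
  have m24 := m (show 2 ≤ 4 by norm_num)
  have m48 := m (show 4 ≤ 8 by norm_num)
  have m57 := m (show 5 ≤ 7 by norm_num)
  have m3 : u ^ 4 + u ^ 3 ≤ u ^ 8 := by
    have h1 : u ^ 3 ≤ u ^ 4 := m (by norm_num)
    have h2 : u ^ 4 * 2 ≤ u ^ 4 * u ^ 4 := Nat.mul_le_mul_left _ (hu.trans (Nat.le_self_pow (by norm_num) u))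
    have h3 : u ^ 8 = u ^ 4 * u ^ 4 := by ring
    omega
  rw [H500.E7.mem_I8] at ha
  zify
  rcases ha with rfl | rfl | rfl | rfl
  · rw [cast15 hu, phN, if_pos rfl, Nat.cast_sub (by omega)]
    push_cast
    ring
  · rw [cast20 hu, phN, if_neg (by norm_num), if_pos rfl, Nat.cast_sub (by omega)]
    push_cast
    ring
  · rw [cast24 hu, phN, if_neg (by norm_num), if_neg (by norm_num), if_pos rfl, Nat.cast_sub (by omega)]
    push_cast
    ring
  · rw [cast30 hu, phN, if_neg (by norm_num), if_neg (by norm_num), if_neg (by norm_num), Nat.cast_sub (by omega)]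
    push_cast
    ring

def chkU (n u : ℕ) : Bool := decide (u < 2) ||
  (decide (phN 15 u % n ≠ 0) && decide (phN 20 u % n ≠ 0) && decide (phN 24 u % n ≠ 0) && decide (phN 30 u % n ≠ 0))

def chkQ (q : ℕ) : Bool := (List.range 34).all fun u => chkU (NN q (if q % 4 = 1 then 14 else 7)) u

theorem chk1 : ((List.range 160).all fun q => decide (q < 3) || decide (q % 2 = 0) || chkQ q) = true := by
  decide +kernel

theorem no_small {s : Bool} {q u a : ℕ} (h4 : q % 4 = md s) (hq3 : 3 ≤ q) (hq : q < 160) (hu : 2 ≤ u) (hu' : u < 34)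
    (ha : a ∈ I8) : ¬ NN q (t1 s) ∣ Ph a u := by
  rw [phN_eq ha hu]
  intro hd
  have h1 := List.all_eq_true.1 chk1 q (List.mem_range.2 hq)
  have ho := odd_of h4
  simp only [Bool.or_eq_true, decide_eq_true_eq] at h1
  have h2 : chkQ q = true := by
    rcases h1 with (h1 | h1) | h1
    · omega
    · omega
    · exact h1
  have h3 := List.all_eq_true.1 h2 u (List.mem_range.2 hu')
  have e : NN q (if q % 4 = 1 then 14 else 7) = NN q (t1 s) := by
    cases s
    · simp only [md, Bool.false_eq_true, if_false] at h4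
      rw [if_neg (by omega)]
      rfl
    · simp only [md, if_true] at h4
      rw [if_pos h4]
      rfl
  rw [e, chkU] at h3
  simp only [Bool.or_eq_true, Bool.and_eq_true, decide_eq_true_eq] at h3
  rcases h3 with h3 | ⟨⟨⟨k1, k2⟩, k3⟩, k4⟩
  · omega
  · rw [H500.E7.mem_I8] at ha
    rcases ha with rfl | rfl | rfl | rfl
    · exact k1 (Nat.mod_eq_zero_of_dvd hd)
    · exact k2 (Nat.mod_eq_zero_of_dvd hd)
    · exact k3 (Nat.mod_eq_zero_of_dvd hd)
    · exact k4 (Nat.mod_eq_zero_of_dvd hd)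

/-- class 9 or 18 isolated -/
theorem fin_nine {q A B Fb Fc x : ℤ} (hx : 6 ≤ x) (hq : 13 ≤ q) (hB : 0 ≤ B)
    (hb : x ^ 7 * (x - 1) ≤ Fb ∧ Fb ≤ x ^ 7 * (x + 1)) (hc : x ^ 7 * (x - 1) ≤ Fc ∧ Fc ≤ x ^ 7 * (x + 1))
    (h : A * Fb - B * Fc = 1) (hL : 2 * x ^ 2 * (x ^ 2 - 1) - 1 ≤ |A - B|)
    (hBF : 2 * (B * Fc) ≤ q ^ 9) (hF : q ^ 6 - q ^ 3 + 1 ≤ 3 * (x ^ 7 * (x + 1))) : False := by
  obtain ⟨L, hLdef⟩ : ∃ L, L = 2 * x ^ 2 * (x ^ 2 - 1) - 1 := ⟨_, rfl⟩
  rw [← hLdef] at hL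
  have hx2 : 36 ≤ x ^ 2 := by nlinarith only [hx]
  have hL0 : 0 ≤ L := by
    rw [hLdef]
    nlinarith only [hx2]
  have hx7 : 0 < x ^ 7 := by positivity
  have hFb0 : 0 ≤ Fb := le_trans (mul_nonneg hx7.le (by linarith)) hb.1
  -- `L (x - 1) ≤ 2 B`
  have h1 : |A - B| * Fb ≤ 1 + B * (2 * x ^ 7) := by
    have e1 : (A - B) * Fb = 1 + B * (Fc - Fb) := by linarith
    have e2 : |A - B| * Fb = |(A - B) * Fb| := by rw [abs_mul, abs_of_nonneg hFb0]
    rw [e2, e1]
    have e3 : |Fc - Fb| ≤ 2 * x ^ 7 := by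
      rw [abs_le]
      constructor <;> linarith only [hb.1, hb.2, hc.1, hc.2]
    calc |1 + B * (Fc - Fb)| ≤ |1| + |B * (Fc - Fb)| := abs_add_le _ _
      _ = 1 + B * |Fc - Fb| := by rw [abs_one, abs_mul, abs_of_nonneg hB]
      _ ≤ _ := by linarith [mul_le_mul_of_nonneg_left e3 hB]
  have h2 : L * (x - 1) ≤ 2 * B := by
    have e1 : L * (x ^ 7 * (x - 1)) ≤ 1 + B * (2 * x ^ 7) := by
      calc L * (x ^ 7 * (x - 1)) ≤ |A - B| * Fb :=
            mul_le_mul hL hb.1 (mul_nonneg hx7.le (by linarith)) (abs_nonneg _)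
        _ ≤ _ := h1
    have e2 : x ^ 7 * (L * (x - 1) - 2 * B) ≤ 1 := by linarith
    by_contra hlt
    push Not at hlt
    have e3 : x ^ 7 * 1 ≤ x ^ 7 * (L * (x - 1) - 2 * B) := mul_le_mul_of_nonneg_left (by omega) hx7.le
    have e4 : (6 : ℤ) ^ 7 ≤ x ^ 7 := by gcongr
    norm_num at e4
    linarith only [e1, e3, e4]
  -- `L (x - 1)² x ^ 7 ≤ q ^ 9`
  have h3 : L * (x - 1) * (x ^ 7 * (x - 1)) ≤ q ^ 9 := by
    have e0 : 0 ≤ x ^ 7 * (x - 1) := mul_nonneg hx7.le (by linarith)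
    calc L * (x - 1) * (x ^ 7 * (x - 1)) ≤ 2 * B * (x ^ 7 * (x - 1)) := mul_le_mul_of_nonneg_right h2 e0
      _ ≤ 2 * B * Fc := mul_le_mul_of_nonneg_left hc.1 (by linarith)
      _ = 2 * (B * Fc) := by ring
      _ ≤ q ^ 9 := hBF
  have hq0 : 0 ≤ q := by linarith
  have h4 : 1000 * q ^ 6 ≤ 3002 * (x ^ 7 * (x + 1)) := by
    have e1 : (13 : ℤ) ^ 3 ≤ q ^ 3 := by gcongr
    norm_num at e1
    have e2 : q ^ 6 = q ^ 3 * q ^ 3 := by ring
    have e3 : 2197 * q ^ 3 ≤ q ^ 3 * q ^ 3 := mul_le_mul_of_nonneg_right e1 (by positivity)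
    linarith only [hF, e1, e3]
  have h5 : (L * (x - 1) * (x ^ 7 * (x - 1))) ^ 2 ≤ (q ^ 6) ^ 3 := by
    have e1 : (q ^ 6) ^ 3 = (q ^ 9) ^ 2 := by ring
    rw [e1]
    have e2 : 0 ≤ L * (x - 1) * (x ^ 7 * (x - 1)) := by
      have : 0 ≤ x - 1 := by linarith
      (clear * - hx hL0 this; positivity)
    exact pow_le_pow_left₀ e2 h3 2
  have h6 : (1000 * q ^ 6) ^ 3 ≤ (3002 * (x ^ 7 * (x + 1))) ^ 3 := pow_le_pow_left₀ (by positivity) h4 3
  have h7 : x ^ 14 * ((L * (x - 1) ^ 2) ^ 2) ≤ x ^ 14 * (28 * (x ^ 7 * (x + 1) ^ 3)) := by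
    have e1 : x ^ 14 * ((L * (x - 1) ^ 2) ^ 2) = (L * (x - 1) * (x ^ 7 * (x - 1))) ^ 2 := by ring
    have e2 : x ^ 14 * (28 * (x ^ 7 * (x + 1) ^ 3)) = 28 * (x ^ 7 * (x + 1)) ^ 3 := by ring
    rw [e1, e2]
    have e3 : 0 ≤ (x ^ 7 * (x + 1)) ^ 3 := by positivity
    have e4 : (1000 * q ^ 6) ^ 3 = 1000000000 * (q ^ 6) ^ 3 := by ring
    have e5 : (3002 * (x ^ 7 * (x + 1))) ^ 3 = 27054036008 * (x ^ 7 * (x + 1)) ^ 3 := by ring
    rw [e4, e5] at h6
    linarith
  have h8 : (L * (x - 1) ^ 2) ^ 2 ≤ 28 * (x ^ 7 * (x + 1) ^ 3) := le_of_mul_le_mul_left h7 (by positivity)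
  rw [hLdef] at h8
  obtain ⟨t, rfl⟩ : ∃ t : ℤ, x = t + 6 := ⟨x - 6, by ring⟩
  have ht : 0 ≤ t := by linarith
  have h9 : 0 < ((2 * (t + 6) ^ 2 * ((t + 6) ^ 2 - 1) - 1) * (t + 6 - 1) ^ 2) ^ 2 - 28 * ((t + 6) ^ 7 * (t + 6 + 1) ^ 3) := by
    ring_nf
    (clear * - ht; positivity)
  linarith only [h8, h9]

/-- classes 18, 9 both isolated -/
theorem fin_nine' {u q Y Z b c : ℕ} (hq13 : 13 ≤ q) (hu6 : 6 ≤ u) (hb : b ∈ I8) (hc : c ∈ I8)
    (h1 : 2 * (Ph b u * Y) = (q + 1) * (q ^ 6 - q ^ 3 + 1)) (h2 : 2 * (Ph c u * Z) = (q - 1) * (q ^ 6 + q ^ 3 + 1))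
    (h4 : (q : ℤ) ^ 6 - (q : ℤ) ^ 3 + 1 ≤ 3 * ((u : ℤ) ^ 7 * ((u : ℤ) + 1))) : False := by
  have hq36 : q ^ 3 ≤ q ^ 6 := Nat.pow_le_pow_right (by omega) (by norm_num)
  have h1 : (2 : ℤ) * ((Ph b u : ℤ) * Y) = ((q : ℤ) + 1) * ((q : ℤ) ^ 6 - (q : ℤ) ^ 3 + 1) := by
    have h1 : ((2 * (Ph b u * Y) : ℕ) : ℤ) = (((q + 1) * (q ^ 6 - q ^ 3 + 1) : ℕ) : ℤ) := by rw [h1]
    rw [Nat.cast_mul, Nat.cast_mul, Nat.cast_mul, Nat.cast_add, Nat.cast_add, Nat.cast_sub hq36] at h1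
    push_cast at h1
    exact h1
  have h2 : (2 : ℤ) * ((Ph c u : ℤ) * Z) = ((q : ℤ) - 1) * ((q : ℤ) ^ 6 + (q : ℤ) ^ 3 + 1) := by
    have h1 : ((2 * (Ph c u * Z) : ℕ) : ℤ) = (((q - 1) * (q ^ 6 + q ^ 3 + 1) : ℕ) : ℤ) := by rw [h2]
    rw [Nat.cast_mul, Nat.cast_mul, Nat.cast_mul, Nat.cast_sub (by omega)] at h1
    push_cast at h1
    exact h1
  have e1 : 2 * (((q : ℤ) ^ 2 - q + 1) * Y * (Ph b u : ℤ)) = (q : ℤ) ^ 9 + 1 := by
    have : 2 * (((q : ℤ) ^ 2 - q + 1) * Y * (Ph b u : ℤ)) = ((q : ℤ) ^ 2 - q + 1) * (2 * ((Ph b u : ℤ) * Y)) := by ring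
    rw [this, h1]
    ring
  have e2 : 2 * (((q : ℤ) ^ 2 + q + 1) * Z * (Ph c u : ℤ)) = (q : ℤ) ^ 9 - 1 := by
    have : 2 * (((q : ℤ) ^ 2 + q + 1) * Z * (Ph c u : ℤ)) = ((q : ℤ) ^ 2 + q + 1) * (2 * ((Ph c u : ℤ) * Z)) := by ring
    rw [this, h2]
    ring
  have heq : (((q : ℤ) ^ 2 - q + 1) * Y) * (Ph b u : ℤ) - (((q : ℤ) ^ 2 + q + 1) * Z) * (Ph c u : ℤ) = 1 := by
    linarith only [e1, e2]
  have hx6 : (6 : ℤ) ≤ u := by exact_mod_cast hu6
  obtain ⟨t', ht'⟩ := key hb hc (by omega) heq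
  rw [one_mul] at ht'
  have hL := low_one (by linarith only [hu6]) ht'
  exact fin_nine (q := (q : ℤ)) hx6 (by exact_mod_cast hq13) (by (clear * - hq13; positivity)) (Ph_bd hb (by omega))
    (Ph_bd hc (by omega)) heq hL (by linarith only [e2]) h4

/-! ### groups -/

variable {s : Bool} {p k v u : ℕ} {S : Type w} [Group S] [Finite S]

omit [Finite S] in
/-- the order of the torus of `E₈(u)` -/
theorem tor_dvd (R : RowS s p k S) (E : FE8 v u S) (hu2 : 2 ≤ u) {i a r : ℕ} (hi : i ∈ C4) (hr : Prim (p ^ k) i r)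
    (ha : a ∈ I8) (hra : Prim u a r) : Ph a u ∣ TT (p ^ k) i := by
  obtain ⟨x, hx⟩ := E.exi a ha
  rw [← hx]
  refine R.tor i hi x r hr ?_
  rw [hx]
  exact prim_dvd_Ph hu2 ha hra

omit [Finite S] in
theorem NN_dvd8 (R : RowS s p k S) (E : FE8 v u S) {i a r : ℕ} (hi : i ∈ C4) (hr : Prim (p ^ k) i r)
    (hF : Fl S (p ^ k) i) (ha : a ∈ I8) (hra : Prim u a r) : NN (p ^ k) i ∣ Ph a u := by
  obtain ⟨x, hx⟩ := hF.elt hi
  rw [← hx]
  refine E.top a ha x r hra ?_
  rw [hx]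
  exact dvd_NN hi (two_le R) hr

theorem ne_class (R : RowS s p k S) (E : FE8 v u S) (hu2 : 2 ≤ u) {i j a r t : ℕ} (hi : i ∈ C8) (hj : j ∈ C8)
    (hij : i ≠ j) (hr : Prim (p ^ k) i r) (ht : Prim (p ^ k) j t) (ha : a ∈ I8) (hra : Prim u a r)
    (hta : Prim u a t) : False := by
  obtain ⟨x, hx⟩ := E.exi a ha
  refine R.nad i hi j hj hij r t hr ht ?_
  refine exists_mul hr.prime ht.prime ?_ (x := x) ?_ ?_
  · rintro rfl
    exact hij (hr.unique ht)
  · rw [hx]; exact prim_dvd_Ph hu2 ha hra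
  · rw [hx]; exact prim_dvd_Ph hu2 ha hta

/-- another class which is not isolated -/
theorem exists_other (R : RowS s p k S) (E : FE8 v u S) (hu2 : 2 ≤ u) {j : ℕ} (hj : j ∈ C8) :
    ∃ i ∈ C8, i ≠ j ∧ ∃ r, Prim (p ^ k) i r ∧ r ∣ Nat.card S ∧ ¬ Iso8 u r := by
  classical
  by_contra hcon
  push Not at hcon
  obtain ⟨C, hC, hcard, hF⟩ : ∃ C : Finset ℕ, C ⊆ C8.erase j ∧ 6 ≤ C.card ∧ ∀ i ∈ C, Fl S (p ^ k) i := by
    by_cases h : ∀ i ∈ C8, Fl S (p ^ k) i
    · refine ⟨C8.erase j, Finset.Subset.refl _, ?_, fun i hi => h i (Finset.mem_of_mem_erase hi)⟩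
      rw [Finset.card_erase_of_mem hj]
      decide
    · push Not at h
      obtain ⟨m, hm, hnm⟩ := h
      refine ⟨(C8.erase j).erase m, Finset.erase_subset _ _, ?_, fun i hi => ?_⟩
      · have h1 := Finset.pred_card_le_card_erase (s := C8.erase j) (a := m)
        rw [Finset.card_erase_of_mem hj] at h1
        have h2 : C8.card = 8 := by decide
        omega
      · obtain ⟨h1, h2⟩ := Finset.mem_erase.1 hi
        exact (R.one i (Finset.mem_of_mem_erase h2) m hm h1).resolve_right hnm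
  have hC8 : ∀ i ∈ C, i ∈ C8 := fun i hi => Finset.mem_of_mem_erase (hC hi)
  have hex : ∀ i ∈ C, ∃ r, Prim (p ^ k) i r ∧ ∃ a, a ∈ I8 ∧ Prim u a r := by
    intro i hi
    obtain ⟨r, hr⟩ := exists_prim8 (hC8 i hi) (two_le R)
    obtain ⟨a, ha, hra⟩ := hcon i (hC8 i hi) (Finset.ne_of_mem_erase (hC hi)) r hr ((hF i hi).dvd r hr)
    exact ⟨r, hr, a, ha, hra⟩
  choose! r hr a ha hra using hex
  have h1 : C.card ≤ I8.card := by
    refine Finset.card_le_card_of_injOn a (fun i hi => ha i hi) ?_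
    intro i hi i' hi' h
    by_contra hne
    have h2 := hra i' hi'
    rw [← h] at h2
    exact ne_class R E hu2 (hC8 i hi) (hC8 i' hi') hne (hr i hi) (hr i' hi') (ha i hi) (hra i hi) h2
  have h2 : I8.card = 4 := by decide
  omega

/-- `u² - 1` divides `(q ∓ 1) g` -/
theorem sq_dvd (R : RowS s p k S) (E : FE8 v u S) (hu2 : 2 ≤ u) {j t C : ℕ} (hj : j ∈ C4)
    (ht : Prim (p ^ k) j t) (htS : t ∣ Nat.card S) (hti : ¬ Iso8 u t) (hC : TT (p ^ k) j = NN (p ^ k) j * C) :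
    (u - 1) * (u + 1) ∣ 2 * C := by
  have hj8 := C4_sub hj
  obtain ⟨i, hi, hij, s', hs, hsS, hsi⟩ := exists_other R E hu2 hj8
  have hts : t ≠ s' := ne_of_class (Ne.symm hij) ht hs
  have hsv : s' ≠ v := by
    intro h
    have htv : t ≠ v := fun h' => hts (h'.trans h.symm)
    obtain ⟨z, hz⟩ := low_mul E ht.prime htS htv hti hs.prime (Or.inl (by rw [h])) hts
    exact R.nad j hj8 i hi (Ne.symm hij) t s' ht hs ⟨z, hz⟩
  have htv : t ≠ v := by
    intro h
    obtain ⟨z, hz⟩ := low_mul E hs.prime hsS hsv hsi ht.prime (Or.inl (by rw [h])) hts.symm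
    exact R.nad i hi j hj8 hij s' t hs ht ⟨z, hz⟩
  have htn : ∀ {n : ℕ}, n = u - 1 ∨ n = u + 1 → ¬ t ∣ n := by
    intro n hn hd
    obtain ⟨z, hz⟩ := low_mul E hs.prime hsS hsv hsi ht.prime (Or.inr (by
      rcases hn with rfl | rfl
      · exact Or.inl hd
      · exact Or.inr hd)) hts.symm
    exact R.nad i hi j hj8 hij s' t hs ht ⟨z, hz⟩
  have hsn : ∀ {n : ℕ}, n = u - 1 ∨ n = u + 1 → ¬ s' ∣ n := by
    intro n hn hd
    obtain ⟨z, hz⟩ := low_mul E ht.prime htS htv hti hs.prime (Or.inr (by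
      rcases hn with rfl | rfl
      · exact Or.inl hd
      · exact Or.inr hd)) hts
    exact R.nad j hj8 i hi (Ne.symm hij) t s' ht hs ⟨z, hz⟩
  have key : ∀ {n : ℕ}, n = u - 1 ∨ n = u + 1 → n ∣ C := by
    intro n hn
    obtain ⟨x, hx, hy⟩ := E.low t ht.prime htS htv fun i hi h => hti ⟨i, hi, h⟩
    obtain ⟨y, hy1, hy2⟩ := hy n (by
      rcases hn with rfl | rfl <;> simp only [_root_.Finset.mem_insert, _root_.Finset.mem_singleton, _root_.Nat.pred_eq_succ_iff, _root_.Nat.left_eq_add, _root_.OfNat.ofNat_ne_zero, _root_.or_false, _root_.or_true, _root_.Nat.add_left_cancel_iff])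
    have hcop : Nat.Coprime t n := (ht.prime.coprime_iff_not_dvd).2 (htn hn)
    have hxy : orderOf (x * y) = t * n := by
      rw [hy2.orderOf_mul_eq_mul_orderOf_of_coprime (by rw [hx, hy1]; exact hcop), hx, hy1]
    have h1 := R.tor j hj (x * y) t ht (by rw [hxy]; exact dvd_mul_right _ _)
    rw [hxy] at h1
    have h2 : n ∣ NN (p ^ k) j * C := by
      rw [← hC]
      exact (dvd_mul_left _ _).trans h1
    refine Nat.Coprime.dvd_of_dvd_mul_left ?_ h2
    rw [Nat.coprime_iff_gcd_eq_one]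
    by_contra hne
    obtain ⟨l, hl, hld⟩ := Nat.exists_prime_and_dvd hne
    have hl1 : l ∣ n := hld.trans (Nat.gcd_dvd_left _ _)
    have hl2 := prim_of_dvd_NN hj (two_le R) hl (hld.trans (Nat.gcd_dvd_right _ _))
    have hsl : s' ≠ l := by
      rintro rfl
      exact hsn hn hl1
    obtain ⟨z, hz⟩ := low_mul E hs.prime hsS hsv hsi hl (Or.inr (by
      rcases hn with rfl | rfl
      · exact Or.inl hl1
      · exact Or.inr hl1)) hsl
    exact R.nad i hi j hj8 hij s' l hs hl2 ⟨z, hz⟩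
  have h1 := key (Or.inl rfl)
  have h2 := key (Or.inr rfl)
  have h3 : Nat.gcd (u - 1) (u + 1) ∣ 2 := by
    have h4 := Nat.dvd_sub (Nat.gcd_dvd_right (u - 1) (u + 1)) (Nat.gcd_dvd_left (u - 1) (u + 1))
    have h5 : u + 1 - (u - 1) = 2 := by omega
    rwa [h5] at h4
  rw [← Nat.gcd_mul_lcm]
  exact Nat.mul_dvd_mul h3 (Nat.lcm_dvd h1 h2)

/-- `q < 160` -/
theorem q_small' {q x : ℤ} (hx : 6 ≤ x) (hq : 13 ≤ q) (h1 : (x - 1) * (x + 1) ≤ 7 * (q + 1))
    (h2 : q ^ 6 ≤ 8 * (x ^ 7 * (x + 1))) : q < 160 := by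
  by_contra hlt
  push Not at hlt
  have h3 : 50 * x ^ 2 ≤ 353 * q := by linarith only [h1, hlt]
  have h4 : (50 * x ^ 2) ^ 4 ≤ (353 * q) ^ 4 := pow_le_pow_left₀ (by positivity) h3 4
  have h5 : 6 * (8 * (x ^ 7 * (x + 1))) ≤ 56 * (x ^ 2) ^ 4 := by
    have h6 : 0 ≤ x ^ 7 := by positivity
    have h7 : 6 * (x + 1) ≤ 7 * x := by linarith
    have h8 : (x ^ 2) ^ 4 = x ^ 7 * x := by ring
    rw [h8]
    linarith only [mul_le_mul_of_nonneg_left h7 h6]
  have h6 : 6250000 * (6 * q ^ 6) ≤ 56 * (353 * q) ^ 4 := by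
    have e : (50 * x ^ 2) ^ 4 = 6250000 * (x ^ 2) ^ 4 := by ring
    rw [e] at h4
    linarith
  have h7 : q ^ 6 = q ^ 2 * q ^ 4 := by ring
  have h8 : (353 * q) ^ 4 = 15527402881 * q ^ 4 := by ring
  rw [h7, h8] at h6
  have h9 : 0 < q ^ 4 := by positivity
  have h10 : (25600 : ℤ) ≤ q ^ 2 := by nlinarith only [hq, hlt]
  nlinarith only [h2, h4, h5, h9, h10]

/-- a bottom class not isolated -/
theorem fin_low (R : RowS s p k S) (E : FE8 v u S) (hq13 : 13 ≤ p ^ k) (hu6 : 6 ≤ u)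
    {a : ℕ} (ha : a ∈ I8) (hNa : NN (p ^ k) (t1 s) ∣ Ph a u)
    (hq6 : (p ^ k : ℤ) ^ 6 ≤ 8 * ((u : ℤ) ^ 7 * ((u : ℤ) + 1)))
    {j t : ℕ} (hj : j ∈ C4) (ht : Prim (p ^ k) j t) (htS : t ∣ Nat.card S) (hti : ¬ Iso8 u t) : False := by
  -- the cofactor
  have e1 := H334.E7.Lay.nn_mul (q := p ^ k) (two_le R) hj
  have e3 := H334.E7.Lay.tt_mul (u := p ^ k) (by have := two_le R; omega) hj
  rw [gcd_two R.hs] at e3
  have hLp : 0 < H334.E7.Lay.LL (p ^ k) j := by
    unfold H334.E7.Lay.LL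
    split_ifs <;> omega
  have hLe : 2 ∣ H334.E7.Lay.LL (p ^ k) j := by
    have := odd_of R.hs
    unfold H334.E7.Lay.LL
    split_ifs <;> omega
  have hLle : H334.E7.Lay.LL (p ^ k) j ≤ p ^ k + 1 := by
    unfold H334.E7.Lay.LL
    split_ifs <;> omega
  obtain ⟨h, hh⟩ := hLe
  set g := Nat.gcd (H334.E7.Lay.ee j) (H334.E7.Lay.LL (p ^ k) j) with hg
  have hg0 : 0 < g := Nat.gcd_pos_of_pos_right _ hLp
  have hg7 : g ≤ 7 := (H334.E7.Lay.gcd_le_ee (p ^ k) j).trans (by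
    unfold H334.E7.Lay.ee
    split_ifs <;> norm_num)
  have hTC : TT (p ^ k) j = NN (p ^ k) j * (h * g) := by
    have h1 : 2 * TT (p ^ k) j = 2 * (NN (p ^ k) j * (h * g)) := by
      rw [e3, ← e1, hh]
      ring
    omega
  have h1 := sq_dvd R E (by omega) hj ht htS hti hTC
  have h2 := Nat.le_of_dvd (by
    have : 0 < h := by omega
    (clear * - hLp this; positivity)) h1
  have h3 : (u - 1) * (u + 1) ≤ 7 * (p ^ k + 1) := by
    calc (u - 1) * (u + 1) ≤ 2 * (h * g) := h2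
      _ = H334.E7.Lay.LL (p ^ k) j * g := by rw [hh]; ring
      _ ≤ (p ^ k + 1) * 7 := Nat.mul_le_mul hLle hg7
      _ = _ := by ring
  have h4 : ((u : ℤ) - 1) * ((u : ℤ) + 1) ≤ 7 * (((p : ℤ) ^ k) + 1) := by
    have h5 : (((u - 1) * (u + 1) : ℕ) : ℤ) ≤ ((7 * (p ^ k + 1) : ℕ) : ℤ) := by exact_mod_cast h3
    rw [Nat.cast_mul, Nat.cast_mul, Nat.cast_sub (by omega)] at h5
    push_cast at h5
    exact h5
  have h5 := q_small' (q := (p : ℤ) ^ k) (x := u) (by exact_mod_cast hu6) (by exact_mod_cast hq13) h4 hq6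
  have h6 : p ^ k < 160 := by exact_mod_cast h5
  have h7 : u < 34 := by
    by_contra hlt
    push Not at hlt
    have h8 : 33 * 35 ≤ (u - 1) * (u + 1) := Nat.mul_le_mul (by omega) (by omega)
    omega
  exact no_small R.hs (three_le R) h6 (by omega) h7 ha hNa

/-- the row -/
theorem row_of (R : RowS s p k S) (E : FE8 v u S) (hv : v.Prime) (hu : ∃ f, 1 ≤ f ∧ u = v ^ f) : False := by
  have hq2 := two_le R
  have hq3 := three_le R
  have hu2 : 2 ≤ u := by
    obtain ⟨f, hf, rfl⟩ := hu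
    exact hv.two_le.trans (Nat.le_self_pow (by omega) v)
  have i1 := isT_t1 s
  have i2 := isT_t2 s
  obtain ⟨r, hr⟩ := ex8 R i1.c8
  obtain ⟨t, ht⟩ := ex8 R i2.c8
  have hF14 := R.top _ i1
  have hF18 := R.top _ i2
  obtain ⟨a, ha, hra⟩ := iso_of_nadj E hv hu hr.prime (hF14.dvd r hr) (by
    have := three_lt i1.c8 hq2 hr
    omega) (nadj_two R i1 hr)
  obtain ⟨b, hb, htb⟩ := iso_of_nadj E hv hu ht.prime (hF18.dvd t ht) (by
    have := three_lt i2.c8 hq2 ht
    omega) (nadj_two R i2 ht)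
  have hTa := tor_dvd R E hu2 i1.c4 hr ha hra
  obtain ⟨Y, hY⟩ := tor_dvd R E hu2 i2.c4 ht hb htb
  have hNa := NN_dvd8 R E i1.c4 hr hF14 ha hra
  have hNb := NN_dvd8 R E i2.c4 ht hF18 hb htb
  have hPa : 0 < Ph a u := Cfsg.Agent.H416.Arith.c_pos a hu2
  have hPb : 0 < Ph b u := Cfsg.Agent.H416.Arith.c_pos b hu2
  rcases Nat.lt_or_ge (p ^ k) 13 with hsm | hq13
  · -- small fields
    refine no_small R.hs hq3 (by omega) hu2 ?_ ha hNa
    by_contra hcon
    push Not at hcon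
    have h1 := Nat.le_of_dvd (H334.E7.Size.tt_pos hq2 i1.c4) hTa
    have h2 := TT_le i1.c4 hq3 (gcd_two R.hs)
    have h3 : (p ^ k) ^ 7 ≤ 12 ^ 7 := Nat.pow_le_pow_left (by omega) 7
    have h4 := (Ph_bd ha hu2).1
    have h5 : (34 : ℤ) ≤ u := by exact_mod_cast hcon
    have h6 : (34 : ℤ) ^ 7 * 33 ≤ (u : ℤ) ^ 7 * ((u : ℤ) - 1) :=
      mul_le_mul (pow_le_pow_left₀ (by norm_num) h5 7) (by linarith only [hcon]) (by norm_num) (by positivity)
    have h7 : 34 ^ 7 * 33 ≤ Ph a u := by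
      have := h6.trans h4
      exact_mod_cast this
    norm_num at h3 h7
    omega
  obtain ⟨X, hX⟩ := hTa
  have hq6' : (p ^ k) ^ 6 ≤ 8 * Ph a u :=
    (q_le8 i1.c4 (by omega)).trans (Nat.mul_le_mul_left _ (Nat.le_of_dvd hPa hNa))
  have hq6 : ((p ^ k : ℕ) : ℤ) ^ 6 ≤ 8 * ((u : ℤ) ^ 7 * ((u : ℤ) + 1)) := by
    have h4 : ((p ^ k : ℕ) : ℤ) ^ 6 ≤ 8 * (Ph a u : ℤ) := by exact_mod_cast hq6'
    have h5 := (Ph_bd ha hu2).2
    linarith only [h4, h5]
  have hu6 : 6 ≤ u := six_le hq13 hq6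
  obtain ⟨hT7, hT9, hT14, hT18⟩ := TT_two hq2 (odd_of R.hs)
  -- bounds of the cofactors
  have bd : ∀ {i c Z : ℕ}, i ∈ C4 → c ∈ I8 → NN (p ^ k) i ∣ Ph c u → TT (p ^ k) i = Ph c u * Z →
      2 * Z ≤ 7 * (p ^ k + 1) := by
    intro i c Z hi hc hN hZ
    have hPc : 0 < Ph c u := Cfsg.Agent.H416.Arith.c_pos c hu2
    have e1 := H334.E7.Lay.nn_mul (q := p ^ k) hq2 hi
    have e3 := H334.E7.Lay.tt_mul (u := p ^ k) (by omega) hi
    rw [gcd_two R.hs] at e3
    have h1 := xb (NN_pos hi hq2) hN hPc (X := Z)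
      (M := H334.E7.Lay.LL (p ^ k) i * Nat.gcd (H334.E7.Lay.ee i) (H334.E7.Lay.LL (p ^ k) i)) (by rw [← hZ, e3, e1])
    have hLle : H334.E7.Lay.LL (p ^ k) i ≤ p ^ k + 1 := by
      unfold H334.E7.Lay.LL
      split_ifs <;> omega
    have hg7 : Nat.gcd (H334.E7.Lay.ee i) (H334.E7.Lay.LL (p ^ k) i) ≤ 7 :=
      (H334.E7.Lay.gcd_le_ee (p ^ k) i).trans (by
        unfold H334.E7.Lay.ee
        split_ifs <;> norm_num)
    have h3 := Nat.mul_le_mul hLle hg7
    omega
  have hq7 : 1 ≤ (p ^ k) ^ 7 := Nat.one_le_pow _ _ (by omega)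
  have hXb := bd i1.c4 ha hNa hX
  have hF9 : ((p ^ k : ℕ) : ℤ) ^ 6 - ((p ^ k : ℕ) : ℤ) ^ 3 + 1 ≤ 3 * ((u : ℤ) ^ 7 * ((u : ℤ) + 1)) := by
    have h1 := H334.E7.Lay.nn_gcd (q := p ^ k) (by omega) i2.c4
    have hg : Nat.gcd (H334.E7.Lay.ee (t2 s)) (H334.E7.Lay.LL (p ^ k) (t2 s)) ≤ 3 := by
      cases s
      · exact Nat.gcd_le_left _ (by decide)
      · exact Nat.gcd_le_left _ (by decide)
    have h2 : (NN (p ^ k) (t2 s) : ℤ) * (Nat.gcd (H334.E7.Lay.ee (t2 s)) (H334.E7.Lay.LL (p ^ k) (t2 s)) : ℤ) ≤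
        NN (p ^ k) (t2 s) * 3 := mul_le_mul_of_nonneg_left (by exact_mod_cast hg) (by (clear * -; positivity))
    rw [h1] at h2
    have h3 : ((p ^ k : ℕ) : ℤ) ^ 6 - ((p ^ k : ℕ) : ℤ) ^ 3 + 1 ≤ H334.E7.Lay.BZ ((p ^ k : ℕ) : ℤ) (t2 s) := by
      cases s
      · change _ ≤ ((p ^ k : ℕ) : ℤ) ^ 6 + ((p ^ k : ℕ) : ℤ) ^ 3 + 1
        have : (0 : ℤ) ≤ ((p ^ k : ℕ) : ℤ) ^ 3 := by positivity
        linarith only [this]
      · exact le_rfl
    have h4 : (NN (p ^ k) (t2 s) : ℤ) ≤ Ph b u := by exact_mod_cast Nat.le_of_dvd hPb hNb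
    have h5 := (Ph_bd hb hu2).2
    linarith only [h2, h3, h4, h5]
  have low : ∀ {j w : ℕ}, j ∈ C4 → Prim (p ^ k) j w → w ∣ Nat.card S → ¬ Iso8 u w → False := fun hj hw hwS hwi =>
    fin_low R E hq13 hu6 ha hNa (by exact_mod_cast hq6) hj hw hwS hwi
  rcases R.one (b1 s) (isB_b1 s).c8 (b2 s) (isB_b2 s).c8 (b_ne s) with hF | hF
  · have j1 := isB_b1 s
    obtain ⟨w, hw⟩ := ex8 R j1.c8
    by_cases hwi : Iso8 u w
    swap
    · exact low j1.c4 hw (hF.dvd w hw) hwi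
    obtain ⟨c, hc, hwc⟩ := hwi
    obtain ⟨Z, hZ⟩ := tor_dvd R E hu2 j1.c4 hw hc hwc
    have hNc := NN_dvd8 R E j1.c4 hw hF hc hwc
    have hZb := bd j1.c4 hc hNc hZ
    cases s
    · change TT (p ^ k) 7 = _ at hX
      change TT (p ^ k) 14 = _ at hZ
      exact fin_seven hu6 hc ha hq6 (by rw [← hZ, hT14]) (by rw [← hX, hT7]) hq7 hZb hXb
    · change TT (p ^ k) 14 = _ at hX
      change TT (p ^ k) 7 = _ at hZ
      exact fin_seven hu6 ha hc hq6 (by rw [← hX, hT14]) (by rw [← hZ, hT7]) hq7 hXb hZb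
  · have j2 := isB_b2 s
    obtain ⟨w, hw⟩ := ex8 R j2.c8
    by_cases hwi : Iso8 u w
    swap
    · exact low j2.c4 hw (hF.dvd w hw) hwi
    obtain ⟨c, hc, hwc⟩ := hwi
    obtain ⟨Z, hZ⟩ := tor_dvd R E hu2 j2.c4 hw hc hwc
    cases s
    · change TT (p ^ k) 9 = _ at hY
      change TT (p ^ k) 18 = _ at hZ
      exact fin_nine' hq13 hu6 hc hb (by rw [← hZ, hT18]) (by rw [← hY, hT9]) hF9
    · change TT (p ^ k) 18 = _ at hY
      change TT (p ^ k) 9 = _ at hZ
      exact fin_nine' hq13 hu6 hb hc (by rw [← hY, hT18]) (by rw [← hZ, hT9]) hF9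

/-- **`S` is not `E₈(u)`.** -/
theorem row_e8 {s : Bool} {p k u : ℕ} {S : Type w} [Group S] [Finite S] (R : RowS s p k S) (hg : IsNamed (.e8 u) S) :
    False := by
  obtain ⟨v, f, hvp, hf, rfl⟩ := (isPrimePow_nat_iff _).1 (hg.cond : IsPrimePow u)
  exact row_of R (fE8 hvp ⟨f, hf, rfl⟩ hg) hvp ⟨f, hf, rfl⟩

end Cfsg.Agent.R2.Spec.X1.E7
end

-- part: R2/Spec/X1/E7/Own
section
/-!
# `E₇(q)`, `q` odd: own characteristic, by exponents (helper13, S3435; after helper791, S3482)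

Only the fields `pi` and `one` are used.
-/

set_option autoImplicit false

namespace Cfsg.Agent.R2.Spec.X1.E7

open Cfsg Cfsg.Agent.H436 Cfsg.Agent.H426.LieFam Cfsg.Agent.H414.LieShape Cfsg.Agent.H962.E7 Cfsg.Agent.OrdDiv
open Cfsg.Agent.H791.E7 (Good prim_pow good_of_dvd fld pow_of_dvd cop_sub' cop_add' gcd_small)

universe u

/-! ### arithmetic -/

/-- the exponents greater than `7 k` -/
def Al (k e : ℕ) : Prop := e = 8 * k ∨ e = 9 * k ∨ e = 10 * k ∨ e = 12 * k ∨ e = 14 * k ∨ e = 18 * k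

section vals

variable {k e : ℕ} (hk : 1 ≤ k) (he : 0 < e) (hA : 7 * k < e → Al k e)

include hk he hA

theorem tb {i t : ℕ} (hi : 7 ≤ i) (h : e = k * i * t) : t = 1 ∨ t = 2 := by
  unfold Al at hA
  have h0 : t ≠ 0 := by
    rintro rfl
    omega
  have h3 : t < 3 := by
    by_contra hlt
    have h1 : k * i * 3 ≤ k * i * t := Nat.mul_le_mul_left _ (by omega)
    have h2 : k * 7 ≤ k * i := Nat.mul_le_mul_left _ hi
    omega
  omega

theorem v8 (h : k * 8 ∣ e) : e = 8 * k := by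
  obtain ⟨t, ht⟩ := h
  rcases tb hk he hA (by norm_num) ht with rfl | rfl <;> unfold Al at hA <;> (clear * - ht hA; omega)

theorem v10 (h : k * 10 ∣ e) : e = 10 * k := by
  obtain ⟨t, ht⟩ := h
  rcases tb hk he hA (by norm_num) ht with rfl | rfl <;> unfold Al at hA <;> (clear * - ht hA; omega)

theorem v12 (h : k * 12 ∣ e) : e = 12 * k := by
  obtain ⟨t, ht⟩ := h
  rcases tb hk he hA (by norm_num) ht with rfl | rfl <;> unfold Al at hA <;> (clear * - ht hA; omega)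

theorem v14 (h : k * 14 ∣ e) : e = 14 * k := by
  obtain ⟨t, ht⟩ := h
  rcases tb hk he hA (by norm_num) ht with rfl | rfl <;> unfold Al at hA <;> (clear * - ht hA; omega)

theorem v18 (h : k * 18 ∣ e) : e = 18 * k := by
  obtain ⟨t, ht⟩ := h
  rcases tb hk he hA (by norm_num) ht with rfl | rfl <;> unfold Al at hA <;> (clear * - ht hA; omega)

theorem v9 (h : k * 9 ∣ e) : e = 9 * k ∨ e = 18 * k := by
  obtain ⟨t, ht⟩ := h
  rcases tb hk he hA (by norm_num) ht with rfl | rfl <;> unfold Al at hA <;> omega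

theorem v7 (h : k * 7 ∣ e) : e = 7 * k ∨ e = 14 * k := by
  obtain ⟨t, ht⟩ := h
  rcases tb hk he hA (by norm_num) ht with rfl | rfl <;> unfold Al at hA <;> omega

end vals

theorem step {f a b x y : ℕ} (h1 : f * a = x) (h2 : f * b = y) (h : x < y) : f ≤ y - x := by
  have hab : a < b := by
    by_contra hlt
    have := Nat.mul_le_mul_left f (show b ≤ a by omega)
    omega
  obtain ⟨d, rfl⟩ : ∃ d, b = a + 1 + d := ⟨b - a - 1, by omega⟩
  have h3 : f * (a + 1 + d) = f * a + f + f * d := by ring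
  omega

theorem cancel {k a b : ℕ} (hk : 1 ≤ k) (h : k * a = k * b) : a = b := Nat.eq_of_mul_eq_mul_left hk h

theorem psl_num {k f n : ℕ} (hk : 1 ≤ k) (hf : 1 ≤ f)
    (hA : ∀ j, 2 ≤ j → j ≤ n → 7 * k < f * j → Al k (f * j))
    (hB : ∀ i ∈ C8, ∀ i' ∈ C8, i ≠ i' → (∃ j, 2 ≤ j ∧ j ≤ n ∧ k * i ∣ f * j) ∨ ∃ j, 2 ≤ j ∧ j ≤ n ∧ k * i' ∣ f * j) :
    False := by
  have e8 : (∃ j, 2 ≤ j ∧ j ≤ n ∧ k * 8 ∣ f * j) → ∃ j, 2 ≤ j ∧ j ≤ n ∧ f * j = 8 * k := fun ⟨j, h1, h2, h3⟩ =>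
    ⟨j, h1, h2, v8 hk (by positivity) (hA j h1 h2) h3⟩
  have e10 : (∃ j, 2 ≤ j ∧ j ≤ n ∧ k * 10 ∣ f * j) → ∃ j, 2 ≤ j ∧ j ≤ n ∧ f * j = 10 * k := fun ⟨j, h1, h2, h3⟩ =>
    ⟨j, h1, h2, v10 hk (by positivity) (hA j h1 h2) h3⟩
  have e12 : (∃ j, 2 ≤ j ∧ j ≤ n ∧ k * 12 ∣ f * j) → ∃ j, 2 ≤ j ∧ j ≤ n ∧ f * j = 12 * k := fun ⟨j, h1, h2, h3⟩ =>
    ⟨j, h1, h2, v12 hk (by positivity) (hA j h1 h2) h3⟩
  have hf4 : f ≤ 4 * k := by
    rcases hB 8 (by decide) 10 (by decide) (by norm_num) with h | h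
    · obtain ⟨a, -, -, ha⟩ := e8 h
      rcases hB 10 (by decide) 12 (by decide) (by norm_num) with h' | h'
      · obtain ⟨b, -, -, hb⟩ := e10 h'
        have := step ha hb (by omega)
        omega
      · obtain ⟨b, -, -, hb⟩ := e12 h'
        have := step ha hb (by omega)
        omega
    · obtain ⟨a, -, -, ha⟩ := e10 h
      rcases hB 8 (by decide) 12 (by decide) (by norm_num) with h' | h'
      · obtain ⟨b, -, -, hb⟩ := e8 h'
        have := step hb ha (by omega)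
        omega
      · obtain ⟨b, -, -, hb⟩ := e12 h'
        have := step ha hb (by omega)
        omega
  by_cases h18 : ∃ j, 2 ≤ j ∧ j ≤ n ∧ k * 18 ∣ f * j
  · obtain ⟨a, ha1, ha2, ha⟩ := h18
    have ha' := v18 hk (by positivity) (hA a ha1 ha2) ha
    obtain ⟨b, rfl⟩ : ∃ b, a = b + 1 := ⟨a - 1, by omega⟩
    have hfb : f * (b + 1) = f * b + f := by ring
    have hb2 : 2 ≤ b := by
      by_contra hlt
      have : b = 1 := by omega
      subst this
      omega
    have h1 := hA b hb2 (by omega)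
    unfold Al at h1
    have hf : f = 4 * k := by omega
    rw [hf] at ha'
    have h2 : k * (4 * (b + 1)) = k * 18 := by rw [← mul_assoc, mul_comm k 4, ha', mul_comm]
    have := cancel hk h2
    omega
  · have E := fun i hi hi' => (hB 18 (by decide) i hi hi').resolve_left h18
    obtain ⟨x8, -, -, hx8⟩ := e8 (E 8 (by decide) (by norm_num))
    obtain ⟨x10, -, -, hx10⟩ := e10 (E 10 (by decide) (by norm_num))
    have hf2 := step hx8 hx10 (by omega)
    obtain ⟨a, ha1, ha2, ha⟩ := E 14 (by decide) (by norm_num)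
    have ha' := v14 hk (by positivity) (hA a ha1 ha2) ha
    obtain ⟨b, rfl⟩ : ∃ b, a = b + 1 := ⟨a - 1, by omega⟩
    have hfb : f * (b + 1) = f * b + f := by ring
    have hb2 : 2 ≤ b := by
      by_contra hlt
      have : b = 1 := by omega
      subst this
      omega
    have h1 := hA b hb2 (by omega)
    unfold Al at h1
    have hf : f = 2 * k := by omega
    obtain ⟨j, hj1, hj2, hj⟩ := E 9 (by decide) (by norm_num)
    rcases v9 hk (by positivity) (hA j hj1 hj2) hj with h2 | h2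
    · rw [hf] at h2
      have h3 : k * (2 * j) = k * 9 := by rw [← mul_assoc, mul_comm k 2, h2, mul_comm]
      have := cancel hk h3
      omega
    · rw [hf] at h2
      have h3 : k * (2 * j) = k * 18 := by rw [← mul_assoc, mul_comm k 2, h2, mul_comm]
      have := cancel hk h3
      have h4 := hA 8 (by norm_num) (by omega)
      unfold Al at h4
      rw [hf] at h4
      omega

theorem psp_num {k f m : ℕ} (hk : 1 ≤ k) (hf : 1 ≤ f)
    (hA : ∀ j, 1 ≤ j → j ≤ m → 7 * k < 2 * (f * j) → Al k (2 * (f * j)))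
    (hB : ∀ i ∈ C8, ∀ i' ∈ C8, i ≠ i' → (∃ j, 1 ≤ j ∧ j ≤ m ∧ k * i ∣ 2 * (f * j)) ∨
      ∃ j, 1 ≤ j ∧ j ≤ m ∧ k * i' ∣ 2 * (f * j)) : False := by
  have e8 : (∃ j, 1 ≤ j ∧ j ≤ m ∧ k * 8 ∣ 2 * (f * j)) → ∃ j, f * j = 4 * k := fun ⟨j, h1, h2, h3⟩ =>
    ⟨j, by have := v8 hk (by positivity) (hA j h1 h2) h3; omega⟩
  have e10 : (∃ j, 1 ≤ j ∧ j ≤ m ∧ k * 10 ∣ 2 * (f * j)) → ∃ j, f * j = 5 * k := fun ⟨j, h1, h2, h3⟩ =>
    ⟨j, by have := v10 hk (by positivity) (hA j h1 h2) h3; omega⟩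
  have e12 : (∃ j, 1 ≤ j ∧ j ≤ m ∧ k * 12 ∣ 2 * (f * j)) → ∃ j, f * j = 6 * k := fun ⟨j, h1, h2, h3⟩ =>
    ⟨j, by have := v12 hk (by positivity) (hA j h1 h2) h3; omega⟩
  have hf4 : f ≤ 2 * k := by
    rcases hB 8 (by decide) 10 (by decide) (by norm_num) with h | h
    · obtain ⟨a, ha⟩ := e8 h
      rcases hB 10 (by decide) 12 (by decide) (by norm_num) with h' | h'
      · obtain ⟨b, hb⟩ := e10 h'
        have := step ha hb (by omega)
        omega
      · obtain ⟨b, hb⟩ := e12 h'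
        have := step ha hb (by omega)
        omega
    · obtain ⟨a, ha⟩ := e10 h
      rcases hB 8 (by decide) 12 (by decide) (by norm_num) with h' | h'
      · obtain ⟨b, hb⟩ := e8 h'
        have := step hb ha (by omega)
        omega
      · obtain ⟨b, hb⟩ := e12 h'
        have := step ha hb (by omega)
        omega
  by_cases h18 : ∃ j, 1 ≤ j ∧ j ≤ m ∧ k * 18 ∣ 2 * (f * j)
  · obtain ⟨a, ha1, ha2, ha⟩ := h18
    have ha' := v18 hk (by positivity) (hA a ha1 ha2) ha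
    obtain ⟨b, rfl⟩ : ∃ b, a = b + 1 := ⟨a - 1, by omega⟩
    have hfb : f * (b + 1) = f * b + f := by ring
    have hb2 : 1 ≤ b := by
      by_contra hlt
      have : b = 0 := by omega
      subst this
      omega
    have h1 := hA b hb2 (by omega)
    unfold Al at h1
    have hf : f = 2 * k := by omega
    rw [hf] at ha'
    have h2 : k * (4 * (b + 1)) = k * 18 := by
      have : k * (4 * (b + 1)) = 2 * (2 * k * (b + 1)) := by ring
      rw [this, ha', mul_comm]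
    have := cancel hk h2
    omega
  · have E := fun i hi hi' => (hB 18 (by decide) i hi hi').resolve_left h18
    obtain ⟨x8, hx8⟩ := e8 (E 8 (by decide) (by norm_num))
    obtain ⟨x10, hx10⟩ := e10 (E 10 (by decide) (by norm_num))
    have hf2 := step hx8 hx10 (by omega)
    obtain ⟨a, ha1, ha2, ha⟩ := E 14 (by decide) (by norm_num)
    have ha' := v14 hk (by positivity) (hA a ha1 ha2) ha
    obtain ⟨b, rfl⟩ : ∃ b, a = b + 1 := ⟨a - 1, by omega⟩
    have hfb : f * (b + 1) = f * b + f := by ring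
    have hb2 : 1 ≤ b := by
      by_contra hlt
      have : b = 0 := by omega
      subst this
      omega
    have h1 := hA b hb2 (by omega)
    unfold Al at h1
    have hf : f = k := by omega
    subst hf
    obtain ⟨j, hj1, hj2, hj⟩ := E 9 (by decide) (by norm_num)
    rcases v9 hk (by positivity) (hA j hj1 hj2) hj with h2 | h2
    · have h3 : f * (2 * j) = f * 9 := by
        have : f * (2 * j) = 2 * (f * j) := by ring
        rw [this, h2, mul_comm]
      have := cancel hk h3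
      omega
    · have h3 : f * (2 * j) = f * 18 := by
        have : f * (2 * j) = 2 * (f * j) := by ring
        rw [this, h2, mul_comm]
      have := cancel hk h3
      have h4 := hA 8 (by norm_num) (by omega)
      unfold Al at h4
      (clear * - hf h4; omega)

theorem oplus_num {k f m : ℕ} (hk : 1 ≤ k) (hf : 1 ≤ f) (hm : 4 ≤ m)
    (hA : ∀ j, 1 ≤ j → j < m → 7 * k < 2 * (f * j) → Al k (2 * (f * j))) (hA' : 7 * k < f * m → Al k (f * m))
    (hB : ∀ i ∈ C8, ∀ i' ∈ C8, i ≠ i' → ((∃ j, 1 ≤ j ∧ j < m ∧ k * i ∣ 2 * (f * j)) ∨ k * i ∣ f * m) ∨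
      ((∃ j, 1 ≤ j ∧ j < m ∧ k * i' ∣ 2 * (f * j)) ∨ k * i' ∣ f * m)) : False := by
  obtain ⟨c, rfl⟩ : ∃ c, m = c + 1 := ⟨m - 1, by omega⟩
  have hfm : f * (c + 1) = f * c + f := by ring
  have hc3 : f * 3 ≤ f * c := Nat.mul_le_mul_left _ (by omega)
  have hc9 : 2 * (f * c) ≤ 18 * k := by
    have := hA c (by omega) (by omega)
    unfold Al at this
    omega
  have hm0 : 0 < f * (c + 1) := by positivity
  by_cases h18 : (∃ j, 1 ≤ j ∧ j < c + 1 ∧ k * 18 ∣ 2 * (f * j)) ∨ k * 18 ∣ f * (c + 1)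
  · have hfc : f * c = 9 * k := by
      rcases h18 with ⟨a, ha1, ha2, ha⟩ | h
      · have ha' := v18 hk (by positivity) (hA a ha1 ha2) ha
        have : f * a ≤ f * c := Nat.mul_le_mul_left _ (by omega)
        omega
      · have := v18 hk hm0 hA' h
        omega
    obtain ⟨d, rfl⟩ : ∃ d, c = d + 1 := ⟨c - 1, by omega⟩
    have hfd : f * (d + 1) = f * d + f := by ring
    have h1 := hA d (by omega) (by omega)
    unfold Al at h1
    have hf : f = 2 * k ∨ f = 3 * k := by (clear * - hf hc3 hfc hfd h1; omega)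
    rcases hf with hf | hf
    · rw [hf] at hfc
      have h2 : k * (2 * (d + 1)) = k * 9 := by rw [← mul_assoc, mul_comm k 2, hfc, mul_comm]
      have := cancel hk h2
      omega
    · rw [hf] at hfc
      have h2 : k * (3 * (d + 1)) = k * 9 := by rw [← mul_assoc, mul_comm k 3, hfc, mul_comm]
      have hd := cancel hk h2
      have hd2 : d = 2 := by omega
      subst hd2
      rcases hB 8 (by decide) 10 (by decide) (by norm_num) with (⟨j, hj1, hj2, hj⟩ | h) | (⟨j, hj1, hj2, hj⟩ | h)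
      · have h3 := v8 hk (by positivity) (hA j hj1 hj2) hj
        rw [hf] at h3
        interval_cases j <;> (clear * - hk h3; omega)
      · have h3 := v8 hk hm0 hA' h
        rw [hf] at h3
        omega
      · have h3 := v10 hk (by positivity) (hA j hj1 hj2) hj
        rw [hf] at h3
        interval_cases j <;> (clear * - hk h3; omega)
      · have h3 := v10 hk hm0 hA' h
        rw [hf] at h3
        omega
  · have E := fun i hi hi' => (hB 18 (by decide) i hi hi').resolve_left h18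
    have E14 : ∃ j, 1 ≤ j ∧ j < c + 1 ∧ f * j = 7 * k := by
      rcases E 14 (by decide) (by norm_num) with ⟨j, hj1, hj2, hj⟩ | h
      · have := v14 hk (by positivity) (hA j hj1 hj2) hj
        exact ⟨j, hj1, hj2, by omega⟩
      · have := v14 hk hm0 hA' h
        omega
    obtain ⟨a, ha1, ha2, ha'⟩ := E14
    have hf1 : f ≤ k := by
      rcases E 12 (by decide) (by norm_num) with ⟨j, hj1, hj2, hj⟩ | h
      · have h3 := v12 hk (by positivity) (hA j hj1 hj2) hj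
        have := step (show f * j = 6 * k by omega) ha' (by omega)
        omega
      · have h3 := v12 hk hm0 hA' h
        rcases E 10 (by decide) (by norm_num) with ⟨j, hj1, hj2, hj⟩ | h
        · have h4 := v10 hk (by positivity) (hA j hj1 hj2) hj
          rcases E 8 (by decide) (by norm_num) with ⟨j', hj1', hj2', hj'⟩ | h
          · have h5 := v8 hk (by positivity) (hA j' hj1' hj2') hj'
            have := step (show f * j' = 4 * k by omega) (show f * j = 5 * k by omega) (by omega)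
            omega
          · have := v8 hk hm0 hA' h
            omega
        · have := v10 hk hm0 hA' h
          omega
    obtain ⟨b, rfl⟩ : ∃ b, a = b + 1 := ⟨a - 1, by omega⟩
    have hfb : f * (b + 1) = f * b + f := by ring
    have hb2 : 1 ≤ b := by
      by_contra hlt
      have : b = 0 := by omega
      subst this
      omega
    have h1 := hA b hb2 (by omega)
    unfold Al at h1
    have hf : f = k := by (clear * - hf hf1 ha' hfb h1; omega)
    subst hf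
    have no8 : ¬ 8 < c + 1 := by
      intro h8
      have h4 := hA 8 (by norm_num) h8
      unfold Al at h4
      (clear * - hf h4; omega)
    rcases E 9 (by decide) (by norm_num) with ⟨j, hj1, hj2, hj⟩ | h
    · rcases v9 hk (by positivity) (hA j hj1 hj2) hj with h2 | h2
      · have h3 : f * (2 * j) = f * 9 := by
          have : f * (2 * j) = 2 * (f * j) := by ring
          rw [this, h2, mul_comm]
        have := cancel hk h3
        omega
      · have h3 : f * (2 * j) = f * 18 := by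
          have : f * (2 * j) = 2 * (f * j) := by ring
          rw [this, h2, mul_comm]
        have := cancel hk h3
        omega
    · rcases v9 hk hm0 hA' h with h2 | h2
      · have := cancel hk (show f * (c + 1) = f * 9 by rw [h2, mul_comm])
        omega
      · (clear * - hfm hm0 hc9 h2; omega)

theorem psu_num {k f n : ℕ} (hk : 1 ≤ k) (hf : 1 ≤ f) (hn : 3 ≤ n)
    (hA : ∀ j, 1 ≤ j → 2 * j + 1 ≤ n → 7 * k < 4 * (f * j) + 2 * f → Al k (4 * (f * j) + 2 * f))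
    (hA' : ∀ j, 1 ≤ j → 2 * j ≤ n → 7 * k < 2 * (f * j) → Al k (2 * (f * j)))
    (hB : ∀ i ∈ C8, ∀ i' ∈ C8, i ≠ i' →
      ((∃ j, 1 ≤ j ∧ 2 * j + 1 ≤ n ∧ k * i ∣ 4 * (f * j) + 2 * f ∧ ¬ k * i ∣ f * (2 * j + 1)) ∨
        (∃ j, 1 ≤ j ∧ 2 * j ≤ n ∧ k * i ∣ 2 * (f * j))) ∨
      ((∃ j, 1 ≤ j ∧ 2 * j + 1 ≤ n ∧ k * i' ∣ 4 * (f * j) + 2 * f ∧ ¬ k * i' ∣ f * (2 * j + 1)) ∨
        (∃ j, 1 ≤ j ∧ 2 * j ≤ n ∧ k * i' ∣ 2 * (f * j)))) : False := by
  obtain ⟨c, hc1, hc⟩ : ∃ c, 1 ≤ c ∧ (n = 2 * c + 1 ∨ n = 2 * c + 2) := ⟨(n - 1) / 2, by omega, by omega⟩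
  have hM := hA c hc1 (by omega)
  have hfc1 : f * (c + 1) = f * c + f := by ring
  have hff : f * 1 ≤ f * c := Nat.mul_le_mul_left _ hc1
  have hle : ∀ j, 2 * j + 1 ≤ n → f * j ≤ f * c := fun j hj => Nat.mul_le_mul_left _ (by omega)
  have hle' : ∀ j, 2 * j ≤ n → f * j ≤ f * (c + 1) := fun j hj => Nat.mul_le_mul_left _ (by omega)
  have hMM : 4 * (f * c) + 2 * f = 14 * k ∨ 4 * (f * c) + 2 * f = 18 * k := by
    have h14 : 14 * k ≤ 4 * (f * c) + 2 * f := by
      rcases hB 14 (by decide) 18 (by decide) (by norm_num) with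
        (⟨j, hj1, hj2, hj, -⟩ | ⟨j, hj1, hj2, hj⟩) | (⟨j, hj1, hj2, hj, -⟩ | ⟨j, hj1, hj2, hj⟩)
      · have := v14 hk (by positivity) (hA j hj1 hj2) hj
        have := hle j hj2
        omega
      · have := v14 hk (by positivity) (hA' j hj1 hj2) hj
        have := hle' j hj2
        omega
      · have := v18 hk (by positivity) (hA j hj1 hj2) hj
        have := hle j hj2
        omega
      · have := v18 hk (by positivity) (hA' j hj1 hj2) hj
        have := hle' j hj2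
        omega
    unfold Al at hM
    (clear * - hM h14; omega)
  rcases hMM with hM14 | hM18
  · -- the largest exponent is `14 k`
    have E12 : (∃ j, 1 ≤ j ∧ 2 * j + 1 ≤ n ∧ 4 * (f * j) + 2 * f = 12 * k) ∨
        (∃ j, 1 ≤ j ∧ 2 * j ≤ n ∧ 2 * (f * j) = 12 * k) := by
      rcases hB 12 (by decide) 18 (by decide) (by norm_num) with
        (⟨j, hj1, hj2, hj, -⟩ | ⟨j, hj1, hj2, hj⟩) | (⟨j, hj1, hj2, hj, -⟩ | ⟨j, hj1, hj2, hj⟩)
      · exact Or.inl ⟨j, hj1, hj2, v12 hk (by positivity) (hA j hj1 hj2) hj⟩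
      · exact Or.inr ⟨j, hj1, hj2, v12 hk (by positivity) (hA' j hj1 hj2) hj⟩
      · have := v18 hk (by positivity) (hA j hj1 hj2) hj
        have := hle j hj2
        omega
      · have := v18 hk (by positivity) (hA' j hj1 hj2) hj
        have := hle' j hj2
        omega
    rcases Nat.lt_or_ge c 2 with hc2 | hc2
    · have : c = 1 := by omega
      subst this
      rcases E12 with ⟨j, hj1, hj2, hj⟩ | ⟨j, hj1, hj2, hj⟩
      · have : j = 1 := by (clear * - hc hj1 hj2; omega)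
        subst this
        omega
      · have : j = 1 ∨ j = 2 := by (clear * - hc hj1 hj2; omega)
        rcases this with rfl | rfl <;> omega
    · obtain ⟨d, rfl⟩ : ∃ d, c = d + 1 := ⟨c - 1, by omega⟩
      have hfd : f * (d + 1) = f * d + f := by ring
      have hfd1 : f * 1 ≤ f * d := Nat.mul_le_mul_left _ (by omega)
      have h1 := hA d (by omega) (by (clear * - hc; omega))
      unfold Al at h1
      have hcs : 4 * f = 5 * k ∨ f = k ∨ 2 * f = k := by (clear * - hf hM14 hfd hfd1 h1; omega)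
      have hM' : 2 * (f * (2 * (d + 1) + 1)) = 14 * k := by rw [← hM14]; ring
      rcases hcs with h | h | h
      · have h2 : k * (5 * (2 * (d + 1) + 1)) = k * 28 := by
          have : k * (5 * (2 * (d + 1) + 1)) = 5 * k * (2 * (d + 1) + 1) := by ring
          rw [this, ← h]
          have : 4 * f * (2 * (d + 1) + 1) = 2 * (2 * (f * (2 * (d + 1) + 1))) := by ring
          rw [this, hM']
          ring
        have := cancel hk h2
        omega
      · subst h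
        have h2 : f * (2 * (2 * (d + 1) + 1)) = f * 14 := by
          have : f * (2 * (2 * (d + 1) + 1)) = 2 * (f * (2 * (d + 1) + 1)) := by ring
          rw [this, hM', mul_comm]
        have hd := cancel hk h2
        have hd2 : d = 2 := by omega
        subst hd2
        rcases E12 with ⟨j, hj1, hj2, hj⟩ | ⟨j, hj1, hj2, hj⟩
        · have : j ≤ 3 := by (clear * - hc hj2; omega)
          interval_cases j <;> (clear * - hf hj; omega)
        · have : j ≤ 4 := by (clear * - hc hj2; omega)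
          interval_cases j <;> (clear * - hf hj; omega)
      · have h2 : k * (2 * (d + 1) + 1) = k * 14 := by
          rw [← h]
          have : 2 * f * (2 * (d + 1) + 1) = 2 * (f * (2 * (d + 1) + 1)) := by ring
          rw [this, hM', ← h]
          ring
        have := cancel hk h2
        omega
  · -- the largest exponent is `18 k`
    have hM' : 2 * (f * (2 * c + 1)) = 18 * k := by rw [← hM18]; ring
    rcases Nat.lt_or_ge c 2 with hc2 | hc2
    · have : c = 1 := by omega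
      subst this
      rcases hB 8 (by decide) 10 (by decide) (by norm_num) with
        (⟨j, hj1, hj2, hj, -⟩ | ⟨j, hj1, hj2, hj⟩) | (⟨j, hj1, hj2, hj, -⟩ | ⟨j, hj1, hj2, hj⟩)
      · have h3 := v8 hk (by positivity) (hA j hj1 hj2) hj
        have : j = 1 := by (clear * - hc hj1 hj2; omega)
        subst this
        omega
      · have h3 := v8 hk (by positivity) (hA' j hj1 hj2) hj
        have : j = 1 ∨ j = 2 := by (clear * - hc hj1 hj2; omega)
        rcases this with rfl | rfl <;> omega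
      · have h3 := v10 hk (by positivity) (hA j hj1 hj2) hj
        have : j = 1 := by (clear * - hc hj1 hj2; omega)
        subst this
        omega
      · have h3 := v10 hk (by positivity) (hA' j hj1 hj2) hj
        have : j = 1 ∨ j = 2 := by omega
        rcases this with rfl | rfl <;> omega
    · obtain ⟨d, rfl⟩ : ∃ d, c = d + 1 := ⟨c - 1, by omega⟩
      have hfd : f * (d + 1) = f * d + f := by ring
      have hfd1 : f * 1 ≤ f * d := Nat.mul_le_mul_left _ (by omega)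
      have h1 := hA d (by omega) (by (clear * - hc; omega))
      unfold Al at h1
      have hcs : 2 * f = 3 * k ∨ f = k := by (clear * - hf hM18 hfd hfd1 h1; omega)
      rcases hcs with h | h
      · have h2 : k * (3 * (2 * (d + 1) + 1)) = k * 18 := by
          have : k * (3 * (2 * (d + 1) + 1)) = 3 * k * (2 * (d + 1) + 1) := by ring
          rw [this, ← h]
          have : 2 * f * (2 * (d + 1) + 1) = 2 * (f * (2 * (d + 1) + 1)) := by ring
          rw [this, hM', mul_comm]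
        have := cancel hk h2
        omega
      · subst h
        have h2 : f * (2 * (2 * (d + 1) + 1)) = f * 18 := by
          have : f * (2 * (2 * (d + 1) + 1)) = 2 * (f * (2 * (d + 1) + 1)) := by ring
          rw [this, hM', mul_comm]
        have hd := cancel hk h2
        have hd3 : d = 3 := by omega
        subst hd3
        -- `n = 9` or `n = 10`: the classes 7 and 12 are missing
        have key : ∀ i, (i = 7 ∨ i = 12) →
            ¬ ((∃ j, 1 ≤ j ∧ 2 * j + 1 ≤ n ∧ f * i ∣ 4 * (f * j) + 2 * f ∧ ¬ f * i ∣ f * (2 * j + 1)) ∨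
              (∃ j, 1 ≤ j ∧ 2 * j ≤ n ∧ f * i ∣ 2 * (f * j))) := by
          rintro i hi (⟨j, hj1, hj2, g1, g2⟩ | ⟨j, hj1, hj2, g1⟩)
          · rw [Nat.mul_dvd_mul_iff_left hk] at g2
            rw [show 4 * (f * j) + 2 * f = f * (2 * (2 * j + 1)) by ring, Nat.mul_dvd_mul_iff_left hk] at g1
            have hj : j ≤ 4 := by (clear * - hc hj2; omega)
            rcases hi with rfl | rfl <;> interval_cases j <;> omega
          · rw [show 2 * (f * j) = f * (2 * j) by ring, Nat.mul_dvd_mul_iff_left hk] at g1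
            have hj : j ≤ 5 := by (clear * - hc hj2; omega)
            rcases hi with rfl | rfl <;> interval_cases j <;> omega
        rcases hB 7 (by decide) 12 (by decide) (by norm_num) with hF | hF
        · exact key 7 (Or.inl rfl) hF
        · exact key 12 (Or.inr rfl) hF

/-! ### groups -/

section own_core

variable {s : Bool} {p k : ℕ} {S : Type u} [Group S] (R : RowS s p k S)

include R

/-- **(A)** -/
theorem partA {f d N : ℕ} {l : List Fac} (h : Sh p (Nat.card S) f d N l) {x : Fac} (hx : x ∈ l)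
    (h7 : 7 * k < ex f x) : Al k (ex f x) := by
  have hk := R.hk
  obtain ⟨i, hi, t, ht⟩ : ∃ i, (i = 8 ∨ i = 10 ∨ i = 12 ∨ i = 14 ∨ i = 18) ∧ ex f x ∣ k * i := by
    refine h.all_ex R.hp (fun e => ∃ i, (i = 8 ∨ i = 10 ∨ i = 12 ∨ i = 14 ∨ i = 18) ∧ e ∣ k * i) ?_ hx (by omega)
      (fun h => R.h2 h.1)
    intro e u _ hu hd
    rcases R.pi u hu.prime hd with h1 | ⟨i, hi, h1⟩
    · exact absurd (by rw [h1]) hu.not_dvd
    · refine ⟨i, by simpa using hi, ?_⟩
      rw [← pow_mul] at h1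
      exact (hu.dvd_iff _).1 h1
  have ht0 : t ≠ 0 := by
    rintro rfl
    rw [mul_zero] at ht
    rcases hi with rfl | rfl | rfl | rfl | rfl <;> (clear * - hk ht; omega)
  have ht2 : t ≤ 2 := by
    by_contra hlt
    have h1 : ex f x * 3 ≤ ex f x * t := Nat.mul_le_mul_left _ (by omega)
    rcases hi with rfl | rfl | rfl | rfl | rfl <;> (clear * - h7 h1 ht; omega)
  have ht' : t = 1 ∨ t = 2 := by omega
  unfold Al
  rcases ht' with rfl | rfl <;> rcases hi with rfl | rfl | rfl | rfl | rfl <;> omega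

/-- **(B)** a class contained in the order -/
theorem partB {f d N i : ℕ} {l : List Fac} (h : Sh p (Nat.card S) f d N l) (hi : i ∈ C8) (hF : Fl S (p ^ k) i) :
    ∃ x ∈ l, _root_.Cfsg.Agent.H791.E7.Good f (k * i) x := by
  have hk := R.hk
  have h2 := R.hp.two_le
  have hi5 : 5 ≤ i ∧ i ≠ 6 := by
    simp only [C8, Finset.mem_insert, Finset.mem_singleton] at hi
    omega
  have h5 : 5 ≤ k * i := by nlinarith
  obtain ⟨u, hu⟩ := exists_prim h2 (show 3 ≤ k * i by omega) (fun h => R.h2 h.1)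
  obtain ⟨x, hx, hxd, -⟩ := h.exists_ex R.hp hu (hF.dvd u (prim_pow hk hu))
  exact ⟨x, hx, good_of_dvd (by omega) hu (by omega) hxd⟩

theorem partB2 {f d N : ℕ} {l : List Fac} (h : Sh p (Nat.card S) f d N l) (i : ℕ) (hi : i ∈ C8) (j : ℕ) (hj : j ∈ C8)
    (hij : i ≠ j) : (∃ x ∈ l, _root_.Cfsg.Agent.H791.E7.Good f (k * i) x) ∨ ∃ x ∈ l, Good f (k * j) x := by
  rcases R.one i hi j hj hij with hF | hF
  · exact Or.inl (partB R h hi hF)
  · exact Or.inr (partB R h hj hF)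

theorem no_psl {f d N n : ℕ} (h : Sh p (Nat.card S) f d N (Fam.psl n).facs) : False := by
  have hmem : ∀ j, 2 ≤ j → j ≤ n → Fac.sub j ∈ (Fam.psl n).facs := fun j h1 h2 =>
    List.mem_map.2 ⟨j - 2, List.mem_range.2 (by omega), by rw [show j - 2 + 2 = j by omega]⟩
  have hcas : ∀ {i : ℕ}, (∃ x ∈ (Fam.psl n).facs, _root_.Cfsg.Agent.H791.E7.Good f (k * i) x) → ∃ j, 2 ≤ j ∧ j ≤ n ∧ k * i ∣ f * j := by
    rintro i ⟨x, hx, hg⟩
    obtain ⟨i, hi, rfl⟩ := List.mem_map.1 hx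
    rw [List.mem_range] at hi
    exact ⟨i + 2, by omega, by omega, hg⟩
  refine psl_num R.hk h.f_pos (n := n) (fun j h1 h2 => partA R h (hmem j h1 h2)) fun i hi i' hi' hii => ?_
  exact (partB2 R h i hi i' hi' hii).imp hcas hcas

theorem no_sp {f d N m : ℕ} (h : Sh p (Nat.card S) f d N (Fam.psp m).facs) : False := by
  have hmem : ∀ j, 1 ≤ j → j ≤ m → Fac.sub (2 * j) ∈ (Fam.psp m).facs := fun j h1 h2 =>
    List.mem_map.2 ⟨j - 1, List.mem_range.2 (by omega), by rw [show j - 1 + 1 = j by omega]⟩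
  have hex : ∀ j, ex f (Fac.sub (2 * j)) = 2 * (f * j) := fun j => by
    change f * (2 * j) = _
    ring
  have hcas : ∀ {i : ℕ}, (∃ x ∈ (Fam.psp m).facs, _root_.Cfsg.Agent.H791.E7.Good f (k * i) x) → ∃ j, 1 ≤ j ∧ j ≤ m ∧ k * i ∣ 2 * (f * j) := by
    rintro i ⟨x, hx, hg⟩
    obtain ⟨i, hi, rfl⟩ := List.mem_map.1 hx
    rw [List.mem_range] at hi
    refine ⟨i + 1, by omega, by omega, ?_⟩
    rw [← hex]
    exact hg.ex
  refine psp_num R.hk h.f_pos (m := m) (fun j h1 h2 => ?_) fun i hi i' hi' hii => ?_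
  · rw [← hex]
    exact partA R h (hmem j h1 h2)
  · exact (partB2 R h i hi i' hi' hii).imp hcas hcas

theorem no_oplus {f d N m : ℕ} (hm : 4 ≤ m) (h : Sh p (Nat.card S) f d N (Fam.oplus m).facs) : False := by
  have hmem : ∀ j, 1 ≤ j → j < m → Fac.sub (2 * j) ∈ (Fam.oplus m).facs := fun j h1 h2 =>
    List.mem_cons_of_mem _ (List.mem_map.2 ⟨j - 1, List.mem_range.2 (by omega), by rw [show j - 1 + 1 = j by omega]⟩)
  have hex : ∀ j, ex f (Fac.sub (2 * j)) = 2 * (f * j) := fun j => by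
    change f * (2 * j) = _
    ring
  have hcas : ∀ {i : ℕ}, (∃ x ∈ (Fam.oplus m).facs, _root_.Cfsg.Agent.H791.E7.Good f (k * i) x) →
      (∃ j, 1 ≤ j ∧ j < m ∧ k * i ∣ 2 * (f * j)) ∨ k * i ∣ f * m := by
    rintro i ⟨x, hx, hg⟩
    rcases List.mem_cons.1 hx with rfl | hx
    · exact Or.inr hg
    · obtain ⟨i, hi, rfl⟩ := List.mem_map.1 hx
      rw [List.mem_range] at hi
      refine Or.inl ⟨i + 1, by omega, by omega, ?_⟩
      rw [← hex]
      exact hg.ex
  refine oplus_num R.hk h.f_pos hm (fun j h1 h2 => ?_) (partA R h (x := Fac.sub m) List.mem_cons_self)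
    fun i hi i' hi' hii => ?_
  · rw [← hex]
    exact partA R h (hmem j h1 h2)
  · exact (partB2 R h i hi i' hi' hii).imp hcas hcas

theorem no_ominus {f d N m : ℕ} (hm : 4 ≤ m) (h : Sh p (Nat.card S) f d N (Fam.ominus m).facs) : False := by
  have hmem : ∀ j, 1 ≤ j → j < m → Fac.sub (2 * j) ∈ (Fam.ominus m).facs := fun j h1 h2 =>
    List.mem_cons_of_mem _ (List.mem_map.2 ⟨j - 1, List.mem_range.2 (by omega), by rw [show j - 1 + 1 = j by omega]⟩)
  have hmem' : Fac.add m ∈ (Fam.ominus m).facs := List.mem_cons_self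
  have hex : ∀ j, ex f (Fac.sub (2 * j)) = 2 * (f * j) := fun j => by
    change f * (2 * j) = _
    ring
  have hcas : ∀ {i : ℕ}, (∃ x ∈ (Fam.ominus m).facs, _root_.Cfsg.Agent.H791.E7.Good f (k * i) x) →
      ∃ j, 1 ≤ j ∧ j ≤ m ∧ k * i ∣ 2 * (f * j) := by
    rintro i ⟨x, hx, hg⟩
    rcases List.mem_cons.1 hx with rfl | hx
    · exact ⟨m, by omega, le_rfl, hg.ex⟩
    · obtain ⟨i, hi, rfl⟩ := List.mem_map.1 hx
      rw [List.mem_range] at hi
      refine ⟨i + 1, by omega, by omega, ?_⟩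
      rw [← hex]
      exact hg.ex
  refine psp_num R.hk h.f_pos (m := m) (fun j h1 h2 => ?_) fun i hi i' hi' hii => ?_
  · rcases Nat.lt_or_ge j m with h3 | h3
    · rw [← hex]
      exact partA R h (hmem j h1 h3)
    · have : j = m := by omega
      subst this
      exact partA R h hmem'
  · exact (partB2 R h i hi i' hi' hii).imp hcas hcas

theorem no_psu {f d N n : ℕ} (hn : 3 ≤ n) (h : Sh p (Nat.card S) f d N (Fam.psu n).facs) : False := by
  have hmo : ∀ j, 1 ≤ j → 2 * j + 1 ≤ n → Fac.add (2 * j + 1) ∈ (Fam.psu n).facs := fun j h1 h2 => by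
    refine List.mem_map.2 ⟨2 * j - 1, List.mem_range.2 (by omega), ?_⟩
    rw [if_pos (by rw [show 2 * j - 1 + 1 = 2 * j by omega]; exact even_two_mul j), show 2 * j - 1 + 2 = 2 * j + 1 by omega]
  have hme : ∀ j, 1 ≤ j → 2 * j ≤ n → Fac.sub (2 * j) ∈ (Fam.psu n).facs := fun j h1 h2 => by
    refine List.mem_map.2 ⟨2 * j - 2, List.mem_range.2 (by omega), ?_⟩
    rw [if_neg (by rw [Nat.not_even_iff_odd]; exact ⟨j - 1, by omega⟩), show 2 * j - 2 + 2 = 2 * j by omega]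
  have hex : ∀ j, ex f (Fac.sub (2 * j)) = 2 * (f * j) := fun j => by
    change f * (2 * j) = _
    ring
  have hex' : ∀ j, ex f (Fac.add (2 * j + 1)) = 4 * (f * j) + 2 * f := fun j => by
    change 2 * (f * (2 * j + 1)) = _
    ring
  have hcas : ∀ {i : ℕ}, (∃ x ∈ (Fam.psu n).facs, _root_.Cfsg.Agent.H791.E7.Good f (k * i) x) →
      (∃ j, 1 ≤ j ∧ 2 * j + 1 ≤ n ∧ k * i ∣ 4 * (f * j) + 2 * f ∧ ¬ k * i ∣ f * (2 * j + 1)) ∨
        (∃ j, 1 ≤ j ∧ 2 * j ≤ n ∧ k * i ∣ 2 * (f * j)) := by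
    rintro i ⟨x, hx, hg⟩
    obtain ⟨i', hi, rfl⟩ := List.mem_map.1 hx
    rw [List.mem_range] at hi
    rcases Nat.even_or_odd (i' + 1) with ho | ho
    · rw [if_pos ho] at hg
      obtain ⟨j, hj⟩ := ho
      rw [show i' + 2 = 2 * j + 1 by omega] at hg
      refine Or.inl ⟨j, by omega, by omega, ?_, hg.2⟩
      rw [← hex']
      exact hg.ex
    · rw [if_neg (Nat.not_even_iff_odd.2 ho)] at hg
      obtain ⟨j, hj⟩ := ho
      rw [show i' + 2 = 2 * (j + 1) by omega] at hg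
      refine Or.inr ⟨j + 1, by omega, by omega, ?_⟩
      rw [← hex]
      exact hg.ex
  refine psu_num R.hk h.f_pos hn (fun j h1 h2 => ?_) (fun j h1 h2 => ?_) fun i hi i' hi' hii => ?_
  · rw [← hex']
    exact partA R h (hmo j h1 h2)
  · rw [← hex]
    exact partA R h (hme j h1 h2)
  · exact (partB2 R h i hi i' hi' hii).imp hcas hcas

/-- the exponents of a finite list -/
theorem fin_list {f d N : ℕ} {l : List Fac} (h : Sh p (Nat.card S) f d N l) (hpos : ∀ x ∈ l, 0 < ex f x) :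
    (∃ x ∈ l, ex f x = 7 * k ∨ ex f x = 14 * k) ∧ (∃ x ∈ l, ex f x = 9 * k ∨ ex f x = 18 * k) ∧
      (∃ x ∈ l, ex f x = 14 * k ∨ ex f x = 18 * k) ∧ ∀ x ∈ l, 7 * k < ex f x → Al k (ex f x) := by
  have hk := R.hk
  have hA := fun x (hx : x ∈ l) => partA R h hx
  refine ⟨?_, ?_, ?_, hA⟩
  · rcases partB2 R h 7 (by decide) 14 (by decide) (by norm_num) with ⟨x, hx, hg⟩ | ⟨x, hx, hg⟩
    · exact ⟨x, hx, v7 hk (hpos x hx) (hA x hx) hg.ex⟩
    · exact ⟨x, hx, Or.inr (v14 hk (hpos x hx) (hA x hx) hg.ex)⟩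
  · rcases partB2 R h 9 (by decide) 18 (by decide) (by norm_num) with ⟨x, hx, hg⟩ | ⟨x, hx, hg⟩
    · exact ⟨x, hx, v9 hk (hpos x hx) (hA x hx) hg.ex⟩
    · exact ⟨x, hx, Or.inr (v18 hk (hpos x hx) (hA x hx) hg.ex)⟩
  · rcases partB2 R h 14 (by decide) 18 (by decide) (by norm_num) with ⟨x, hx, hg⟩ | ⟨x, hx, hg⟩
    · exact ⟨x, hx, Or.inl (v14 hk (hpos x hx) (hA x hx) hg.ex)⟩
    · exact ⟨x, hx, Or.inr (v18 hk (hpos x hx) (hA x hx) hg.ex)⟩

/-- **The families in the own characteristic.** -/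
theorem own_core {fam : Cfsg.Agent.H426.LieFam.Fam} {f d N : ℕ} (h : Sh p (Nat.card S) f d N fam.facs)
    (hn : match fam with
      | .psl n => 2 ≤ n | .psp m => 1 ≤ m | .psu n => 3 ≤ n | .oodd m => 1 ≤ m | .oplus m => 4 ≤ m | .ominus m => 4 ≤ m
      | _ => True) : fam = .e7 ∧ f = k := by
  have hk := R.hk
  have hf := h.f_pos
  cases fam with
  | psl n => exact (no_psl R h).elim
  | psp m => exact (no_sp R h).elim
  | oodd m => exact (no_sp R h).elim
  | psu n => exact (no_psu R hn h).elim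
  | oplus m => exact (no_oplus R hn h).elim
  | ominus m => exact (no_ominus R hn h).elim
  | e7 =>
    refine ⟨rfl, ?_⟩
    obtain ⟨-, -, h3, hA⟩ := fin_list R h (by simp only [Fam.facs, ex, _root_.List.map_cons, _root_.List.map_nil, _root_.List.mem_cons, _root_.List.not_mem_nil, _root_.or_false, _root_.forall_eq_or_imp, _root_.Order.lt_two_iff, _root_.zero_le, _root_.mul_pos_iff_of_pos_right, _root_.Nat.ofNat_pos, _root_.forall_eq, _root_.and_self]; omega)
    simp only [Fam.facs, ex, List.map_cons, List.map_nil, List.mem_cons, List.not_mem_nil, or_false, exists_eq_or_imp,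
      exists_eq_left, forall_eq_or_imp, forall_eq] at h3 hA
    obtain ⟨-, -, -, -, -, a14, a18⟩ := hA
    unfold Al at a14 a18
    omega
  | e8 =>
    exfalso
    obtain ⟨-, -, h3, hA⟩ := fin_list R h (by simp only [Fam.facs, ex, _root_.List.map_cons, _root_.List.map_nil, _root_.List.mem_cons, _root_.List.not_mem_nil, _root_.or_false, _root_.forall_eq_or_imp, _root_.Order.lt_two_iff, _root_.zero_le, _root_.mul_pos_iff_of_pos_right, _root_.Nat.ofNat_pos, _root_.forall_eq, _root_.and_self]; omega)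
    simp only [Fam.facs, ex, List.map_cons, List.map_nil, List.mem_cons, List.not_mem_nil, or_false, exists_eq_or_imp,
      exists_eq_left, forall_eq_or_imp, forall_eq] at h3 hA
    obtain ⟨-, -, -, -, -, -, a24, a30⟩ := hA
    unfold Al at a24 a30
    omega
  | e6 =>
    exfalso
    obtain ⟨-, -, h3, hA⟩ := fin_list R h (by simp only [Fam.facs, ex, _root_.List.map_cons, _root_.List.map_nil, _root_.List.mem_cons, _root_.List.not_mem_nil, _root_.or_false, _root_.forall_eq_or_imp, _root_.Order.lt_two_iff, _root_.zero_le, _root_.mul_pos_iff_of_pos_right, _root_.Nat.ofNat_pos, _root_.forall_eq, _root_.and_self]; omega)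
    simp only [Fam.facs, ex, List.map_cons, List.map_nil, List.mem_cons, List.not_mem_nil, or_false, exists_eq_or_imp,
      exists_eq_left, forall_eq_or_imp, forall_eq] at h3 hA
    obtain ⟨-, -, -, -, a9, a12⟩ := hA
    unfold Al at a9 a12
    omega
  | te6 =>
    exfalso
    obtain ⟨h1, -, h3, hA⟩ := fin_list R h (by simp only [Fam.facs, ex, _root_.List.mem_cons, _root_.List.not_mem_nil, _root_.or_false, _root_.forall_eq_or_imp, _root_.Order.lt_two_iff, _root_.zero_le, _root_.mul_pos_iff_of_pos_right, _root_.mul_pos_iff_of_pos_left, _root_.Nat.ofNat_pos, _root_.forall_eq, _root_.and_self]; omega)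
    simp only [Fam.facs, ex, List.mem_cons, List.not_mem_nil, or_false, exists_eq_or_imp,
      exists_eq_left, forall_eq_or_imp, forall_eq] at h1 h3 hA
    obtain ⟨-, -, -, -, a18, a12⟩ := hA
    unfold Al at a12 a18
    omega
  | f4 =>
    exfalso
    obtain ⟨h1, -, h3, hA⟩ := fin_list R h (by simp only [Fam.facs, ex, _root_.List.map_cons, _root_.List.map_nil, _root_.List.mem_cons, _root_.List.not_mem_nil, _root_.or_false, _root_.forall_eq_or_imp, _root_.Order.lt_two_iff, _root_.zero_le, _root_.mul_pos_iff_of_pos_right, _root_.Nat.ofNat_pos, _root_.forall_eq, _root_.and_self]; omega)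
    simp only [Fam.facs, ex, List.map_cons, List.map_nil, List.mem_cons, List.not_mem_nil, or_false, exists_eq_or_imp,
      exists_eq_left, forall_eq_or_imp, forall_eq] at h1 h3 hA
    obtain ⟨-, -, a8, a12⟩ := hA
    unfold Al at a8 a12
    omega
  | _ =>
    exfalso
    obtain ⟨h1, h2, h3, hA⟩ := fin_list R h (by simp only [Fam.facs, ex, _root_.List.map_cons, _root_.List.map_nil, _root_.List.mem_cons, _root_.List.not_mem_nil, _root_.or_false, _root_.forall_eq_or_imp, _root_.Order.lt_two_iff, _root_.zero_le, _root_.mul_pos_iff_of_pos_right, _root_.forall_eq, _root_.Nat.ofNat_pos, _root_.and_self, _root_.mul_pos_iff_of_pos_left, _root_.mul_one]; try omega)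
    simp only [Fam.facs, ex, List.map_cons, List.map_nil, List.mem_cons, List.not_mem_nil, or_false, exists_eq_or_imp,
      exists_eq_left, forall_eq_or_imp, forall_eq] at h1 h2 h3 hA
    clear hA
    (clear * - hf h1 h2; omega)

end own_core

/-- **Own characteristic.** -/
theorem row_own {s : Bool} {p k : ℕ} {S : Type u} [Group S] (R : RowS s p k S) {g : Grp} (hg : IsNamed g S)
    (h : p ∣ fld g) (h0 : fld g ≠ 0) : g = .e7 (p ^ k) := by
  have hp := R.hp
  have hreal := hg.real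
  have hcond := hg.cond
  have heq := hg.eq
  cases g with
  | psl n q =>
    exfalso
    obtain ⟨hn, -, hq⟩ := hcond
    obtain ⟨f, hf, rfl⟩ := pow_of_dvd hp hq h
    obtain ⟨F, _, _, hF, ⟨e⟩⟩ := hreal
    obtain ⟨d, N, hS⟩ := sh_psl hf hF hn hp
    rw [← Nat.card_congr e.toEquiv] at hS
    exact no_psl R hS
  | psp m q =>
    exfalso
    obtain ⟨hm, -, hq⟩ := hcond
    obtain ⟨f, hf, rfl⟩ := pow_of_dvd hp hq h
    obtain ⟨F, _, _, hF, ⟨e⟩⟩ := hreal
    obtain ⟨d, N, hS⟩ := sh_psp hf hF hm hp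
    rw [← Nat.card_congr e.toEquiv] at hS
    exact no_sp R hS
  | psu n q =>
    exfalso
    obtain ⟨hn, -, hq⟩ := hcond
    obtain ⟨f, hf, rfl⟩ := pow_of_dvd hp hq h
    obtain ⟨F, _, _, hF, ⟨e⟩⟩ := hreal
    obtain ⟨d, N, hS⟩ := sh_psu hf hF hn hp
    rw [← Nat.card_congr e.toEquiv] at hS
    exact no_psu R hn hS
  | oodd m q =>
    exfalso
    obtain ⟨hm, ho, hq⟩ := hcond
    obtain ⟨f, hf, rfl⟩ := pow_of_dvd hp hq h
    obtain ⟨F, _, _, hF, ⟨e⟩⟩ := hreal
    obtain ⟨d, N, hS⟩ := sh_oodd hf hF hm (by rwa [hF]) hp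
    rw [← Nat.card_congr e.toEquiv] at hS
    exact no_sp R hS
  | oplus m q =>
    exfalso
    obtain ⟨hm, hq⟩ := hcond
    obtain ⟨f, hf, rfl⟩ := pow_of_dvd hp hq h
    obtain ⟨F, _, _, hF, ⟨e⟩⟩ := hreal
    obtain ⟨d, N, hS⟩ := sh_oplus hf hF hm hp
    rw [← Nat.card_congr e.toEquiv] at hS
    exact no_oplus R hm hS
  | ominus m q =>
    exfalso
    obtain ⟨hm, hq⟩ := hcond
    obtain ⟨f, hf, rfl⟩ := pow_of_dvd hp hq h
    obtain ⟨F, _, _, a, b, hF, hab, ⟨e⟩⟩ := hreal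
    obtain ⟨d, N, hS⟩ := sh_ominus hf hF hm hab hp
    rw [← Nat.card_congr e.toEquiv] at hS
    exact no_ominus R hm hS
  | g2 q =>
    obtain ⟨-, hq⟩ := hcond
    obtain ⟨f, hf, rfl⟩ := pow_of_dvd hp hq h
    have hS : Sh p (Nat.card S) f 1 6 Fam.g2.facs := by
      refine sh_list hp (by norm_num) (Nat.coprime_one_left _) hf (by norm_num) (by norm_num) ?_
      refine heq.trans ?_
      change (p ^ f) ^ 6 * (((p ^ f) ^ 2 - 1) * ((p ^ f) ^ 6 - 1)) = _
      simp only [Fam.facs, List.map_cons, List.map_nil, List.prod_cons, List.prod_nil, Fac.val]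
      ring
    exact absurd (own_core R (fam := .g2) hS trivial).1 (by simp)
  | f4 q =>
    obtain ⟨f, hf, rfl⟩ := pow_of_dvd hp hcond h
    have hS : Sh p (Nat.card S) f 1 24 Fam.f4.facs := by
      refine sh_list hp (by norm_num) (Nat.coprime_one_left _) hf (by norm_num) (by norm_num) ?_
      refine heq.trans ?_
      change (p ^ f) ^ 24 * (((p ^ f) ^ 2 - 1) * ((p ^ f) ^ 6 - 1) * ((p ^ f) ^ 8 - 1) * ((p ^ f) ^ 12 - 1)) = _
      simp only [Fam.facs, List.map_cons, List.map_nil, List.prod_cons, List.prod_nil, Fac.val]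
      ring
    exact absurd (own_core R (fam := .f4) hS trivial).1 (by simp)
  | e6 q =>
    obtain ⟨f, hf, rfl⟩ := pow_of_dvd hp hcond h
    obtain ⟨g1, g2⟩ := gcd_small (m := 3) (x := p ^ f - 1) (by norm_num) (by norm_num) (by norm_num)
    have hS : Sh p (Nat.card S) f (Nat.gcd 3 (p ^ f - 1)) 36 Fam.e6.facs := by
      refine sh_list hp (by norm_num) (cop_sub' hp) hf g1 g2 ?_
      refine heq.trans ?_
      change (p ^ f) ^ 36 * (((p ^ f) ^ 2 - 1) * ((p ^ f) ^ 5 - 1) * ((p ^ f) ^ 6 - 1) * ((p ^ f) ^ 8 - 1) *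
        ((p ^ f) ^ 9 - 1) * ((p ^ f) ^ 12 - 1)) = _
      simp only [Fam.facs, List.map_cons, List.map_nil, List.prod_cons, List.prod_nil, Fac.val]
      ring
    exact absurd (own_core R (fam := .e6) hS trivial).1 (by simp)
  | e7 q =>
    obtain ⟨f, hf, rfl⟩ := pow_of_dvd hp hcond h
    obtain ⟨g1, g2⟩ := gcd_small (m := 2) (x := p ^ f - 1) (by norm_num) (by norm_num) (by norm_num)
    have hS : Sh p (Nat.card S) f (Nat.gcd 2 (p ^ f - 1)) 63 Fam.e7.facs := by
      refine sh_list hp (by norm_num) (cop_sub' hp) hf g1 g2 ?_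
      refine heq.trans ?_
      change (p ^ f) ^ 63 * (((p ^ f) ^ 2 - 1) * ((p ^ f) ^ 6 - 1) * ((p ^ f) ^ 8 - 1) * ((p ^ f) ^ 10 - 1) *
        ((p ^ f) ^ 12 - 1) * ((p ^ f) ^ 14 - 1) * ((p ^ f) ^ 18 - 1)) = _
      simp only [Fam.facs, List.map_cons, List.map_nil, List.prod_cons, List.prod_nil, Fac.val]
      ring
    rw [(own_core R (fam := .e7) hS trivial).2]
  | e8 q =>
    obtain ⟨f, hf, rfl⟩ := pow_of_dvd hp hcond h
    have hS : Sh p (Nat.card S) f 1 120 Fam.e8.facs := by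
      refine sh_list hp (by norm_num) (Nat.coprime_one_left _) hf (by norm_num) (by norm_num) ?_
      refine heq.trans ?_
      change (p ^ f) ^ 120 * (((p ^ f) ^ 2 - 1) * ((p ^ f) ^ 8 - 1) * ((p ^ f) ^ 12 - 1) * ((p ^ f) ^ 14 - 1) *
        ((p ^ f) ^ 18 - 1) * ((p ^ f) ^ 20 - 1) * ((p ^ f) ^ 24 - 1) * ((p ^ f) ^ 30 - 1)) = _
      simp only [Fam.facs, List.map_cons, List.map_nil, List.prod_cons, List.prod_nil, Fac.val]
      ring
    exact absurd (own_core R (fam := .e8) hS trivial).1 (by simp)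
  | te6 q =>
    obtain ⟨f, hf, rfl⟩ := pow_of_dvd hp hcond h
    obtain ⟨g1, g2⟩ := gcd_small (m := 3) (x := p ^ f + 1) (by norm_num) (by norm_num) (by norm_num)
    have hS : Sh p (Nat.card S) f (Nat.gcd 3 (p ^ f + 1)) 36 Fam.te6.facs := by
      refine sh_list hp (by norm_num) cop_add' hf g1 g2 ?_
      refine heq.trans ?_
      change (p ^ f) ^ 36 * (((p ^ f) ^ 2 - 1) * ((p ^ f) ^ 5 + 1) * ((p ^ f) ^ 6 - 1) * ((p ^ f) ^ 8 - 1) *
        ((p ^ f) ^ 9 + 1) * ((p ^ f) ^ 12 - 1)) = _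
      simp only [Fam.facs, List.map_cons, List.map_nil, List.prod_cons, List.prod_nil, Fac.val]
      ring
    exact absurd (own_core R (fam := .te6) hS trivial).1 (by simp)
  | td4 q =>
    obtain ⟨f, hf, rfl⟩ := pow_of_dvd hp hcond h
    have hS : Sh p (Nat.card S) f 1 12 Fam.td4.facs := by
      refine sh_list hp (by norm_num) (Nat.coprime_one_left _) hf (by norm_num) (by norm_num) ?_
      refine heq.trans ?_
      change (p ^ f) ^ 12 * (((p ^ f) ^ 2 - 1) * ((p ^ f) ^ 6 - 1) * ((p ^ f) ^ 8 + (p ^ f) ^ 4 + 1)) = _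
      simp only [Fam.facs, List.map_cons, List.map_nil, List.prod_cons, List.prod_nil, Fac.val]
      ring
    exact absurd (own_core R (fam := .td4) hS trivial).1 (by simp)
  | sz q =>
    obtain ⟨m, hm, rfl⟩ := hcond
    exact absurd ((Nat.prime_dvd_prime_iff_eq hp Nat.prime_two).1 (hp.dvd_of_dvd_pow h)) R.h2
  | ree q =>
    obtain ⟨m, hm, rfl⟩ := hcond
    obtain rfl : p = 3 := (Nat.prime_dvd_prime_iff_eq hp Nat.prime_three).1 (hp.dvd_of_dvd_pow h)
    have hS : Sh 3 (Nat.card S) (2 * m + 1) 1 3 Fam.ree.facs := by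
      refine sh_list (f := 2 * m + 1) Nat.prime_three (by norm_num) (Nat.coprime_one_left _) (by omega) (by norm_num)
        (by norm_num) ?_
      refine heq.trans ?_
      change (3 ^ (2 * m + 1)) ^ 3 * ((3 ^ (2 * m + 1) - 1) * ((3 ^ (2 * m + 1)) ^ 3 + 1)) = _
      simp only [Fam.facs, List.map_cons, List.map_nil, List.prod_cons, List.prod_nil, Fac.val, pow_one]
      ring
    exact absurd (own_core R (fam := .ree) hS trivial).1 (by simp)
  | tf4 q =>
    obtain ⟨m, hm, rfl⟩ := hcond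
    exact absurd ((Nat.prime_dvd_prime_iff_eq hp Nat.prime_two).1 (hp.dvd_of_dvd_pow h)) R.h2
  | _ => exact absurd rfl h0

end Cfsg.Agent.R2.Spec.X1.E7
end

private theorem dce_1d2b38f95ff5 : _root_.True := by
  try have : _root_.True := by simp only [_root_.Cfsg.Agent.R2.Spec.X1.E7.chkU.eq_1]
  try have : _root_.True := by simp only [_root_.Cfsg.Agent.R2.Spec.X1.E7.phN.eq_1]
  exact _root_.True.intro
end

-- part: R2/Spec/X1/E7/Rows
section
set_option linter.all false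
open scoped Cfsg.Agent.FastGrp

-- part: R2/Spec/X1/E7/Small
section
/-!
# `E₇(q)`, `q` odd: alternating, sporadic groups, exceptional groups of small rank (helper13, S3435; after helper196)
-/

set_option autoImplicit false

namespace Cfsg.Agent.R2.Spec.X1.E7

open Cfsg Cfsg.Agent.H436 Cfsg.Agent.H962.E7 Cfsg.Agent.H420.QR Cfsg.Agent.OrdDiv

universe u

variable {s : Bool} {p k : ℕ} {S : Type u} [Group S]

theorem gcd_pc {c : ℕ} (hc : c.Prime) (x : ℕ) : Nat.gcd c x = 1 ∨ Nat.gcd c x = c :=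
  (Nat.dvd_prime hc).1 (Nat.gcd_dvd_left c x)

/-- `NN q 7` and `NN q 9` are far apart -/
theorem NN_far79 {q : ℕ} (hq : 3 ≤ q) : NN q 7 + 3 < NN q 9 ∨ NN q 9 + 3 < NN q 7 := by
  have h7 := H334.E7.Lay.nn_mul (q := q) (by omega) (show 7 ∈ C4 by decide)
  have h9 := H334.E7.Lay.nn_mul (q := q) (by omega) (show 9 ∈ C4 by decide)
  change NN q 7 * ((q - 1) * Nat.gcd 7 (q - 1)) = q ^ 7 - 1 at h7
  change NN q 9 * ((q - 1) * Nat.gcd 3 (q - 1)) = (q - 1) * (q ^ 6 + q ^ 3 + 1) at h9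
  obtain ⟨t, rfl⟩ : ∃ t, q = t + 3 := ⟨q - 3, by omega⟩
  rw [show t + 3 - 1 = t + 2 by omega] at h7 h9
  have e7 : (t + 3) ^ 7 - 1 = (t + 2) * ((t + 3) ^ 6 + (t + 3) ^ 5 + (t + 3) ^ 4 + (t + 3) ^ 3 + (t + 3) ^ 2 + (t + 3) + 1) := by
    have : (t + 3) ^ 7 = (t + 2) * ((t + 3) ^ 6 + (t + 3) ^ 5 + (t + 3) ^ 4 + (t + 3) ^ 3 + (t + 3) ^ 2 + (t + 3) + 1) + 1 := by ring
    omega
  rw [e7] at h7
  have k7 : NN (t + 3) 7 * Nat.gcd 7 (t + 2) = (t + 3) ^ 6 + (t + 3) ^ 5 + (t + 3) ^ 4 + (t + 3) ^ 3 + (t + 3) ^ 2 + (t + 3) + 1 := by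
    apply Nat.eq_of_mul_eq_mul_left (show 0 < t + 2 by omega)
    rw [← h7]; ring
  have k9 : NN (t + 3) 9 * Nat.gcd 3 (t + 2) = (t + 3) ^ 6 + (t + 3) ^ 3 + 1 := by
    apply Nat.eq_of_mul_eq_mul_left (show 0 < t + 2 by omega)
    rw [← h9]; ring
  have hs : (0 : ℤ) ≤ t := by positivity
  have h2 : (0 : ℤ) ≤ (t : ℤ) ^ 2 := by positivity
  have h3 : (0 : ℤ) ≤ (t : ℤ) ^ 3 := by positivity
  have h4 : (0 : ℤ) ≤ (t : ℤ) ^ 4 := by positivity
  have h5 : (0 : ℤ) ≤ (t : ℤ) ^ 5 := by positivity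
  have h6 : (0 : ℤ) ≤ (t : ℤ) ^ 6 := by positivity
  zify at k7 k9
  ring_nf at k7 k9
  rcases gcd_pc (c := 7) (by norm_num) (t + 2) with g7 | g7 <;> rcases gcd_pc (c := 3) (by norm_num) (t + 2) with g3 | g3 <;>
    rw [show 2 + t = t + 2 by ring, g7] at k7 <;> rw [show 2 + t = t + 2 by ring, g3] at k9
  · right; zify; push_cast at k7 k9; ring_nf at k7 k9 ⊢; linarith
  · right; zify; push_cast at k7 k9; ring_nf at k7 k9 ⊢; linarith
  · left; zify; push_cast at k7 k9; ring_nf at k7 k9 ⊢; linarith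
  · left; zify; push_cast at k7 k9; ring_nf at k7 k9 ⊢; linarith

theorem NN_far (s : Bool) {q : ℕ} (hq : 3 ≤ q) : NN q (t1 s) + 3 < NN q (t2 s) ∨ NN q (t2 s) + 3 < NN q (t1 s) := by
  cases s
  · exact NN_far79 hq
  · exact H196.E7.NN_far (by omega)

theorem NN_big {q i : ℕ} (hi : i ∈ C4) (hq : 3 ≤ q) : 78 < NN q i := by
  have h1 := NN_ge hi hq
  have h2 : 3 ^ 6 ≤ q ^ 6 := Nat.pow_le_pow_left hq 6
  norm_num at h2
  omega

/-- **Alternating groups.** -/
theorem row_alt {m : ℕ} (R : RowS s p k S) (hg : IsNamed (.alt m) S) : False := by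
  obtain ⟨e⟩ : Nonempty (S ≃* ↥(alternatingGroup (Fin m))) := hg.real
  have hq := three_le R
  have key : ∀ i, IsT s i → m < NN (p ^ k) i + 4 ∧ NN (p ^ k) i ≤ m := by
    intro i hi
    have h1 := NN_big hi.c4 hq
    have hprim : ∀ r, r.Prime → r ∣ NN (p ^ k) i → Prim (p ^ k) i r := fun r hr hd =>
      H627.E7.prim_of_dvd_NN hi.c4 (by omega) hr hd
    have h14 : 7 ≤ i := by
      have := H627.E7.mem_C4.1 hi.c4
      omega
    obtain ⟨x, hx⟩ := (R.top i hi).elt hi.c4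
    have hx' : orderOf (e x) = NN (p ^ k) i := by rw [MulEquiv.orderOf_eq, hx]
    have hm : 7 ≤ m := by
      obtain ⟨r, hr, hrN⟩ := Nat.exists_prime_and_dvd (n := NN (p ^ k) i) (by omega)
      have h2 := H196.E7.lt_of_prim (hprim r hr hrN)
      have h3 : r ≤ m := H376.Coc.alt_dvd_le hr (hrN.trans (hx' ▸ orderOf_dvd_natCard (e x)))
      omega
    refine H196.E7.prime_of_order hm (by omega) (fun r hr hrN => ?_) hx'
    have h2 := H196.E7.lt_of_prim (hprim r hr hrN)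
    refine ⟨by omega, ?_⟩
    by_contra hlt
    obtain ⟨g, hg⟩ := H376.Coc.alt_adj_two (m := m) hr (by omega) (by omega)
    exact nadj_two R hi (hprim r hr hrN) ⟨e.symm g, by rw [MulEquiv.orderOf_eq, hg]⟩
  obtain ⟨a1, a2⟩ := key _ (isT_t1 s)
  obtain ⟨b1, b2⟩ := key _ (isT_t2 s)
  rcases NN_far s hq with h | h <;> omega

/-- **Sporadic groups and the Tits group, by order.** -/
theorem row_sporList (R : RowS s p k S) (hS : Nat.card S ∈ H437.sporList) : False := by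
  have hq := three_le R
  have hbd : ∀ r : ℕ, r.Prime → r ∣ Nat.card S → r ≤ 71 := fun r hr hd =>
    (Nat.Prime.dvd_factorial hr).1 (hd.trans (H196.E7.spor_smooth' _ hS))
  obtain ⟨h19, h703, h37⟩ := H196.E7.spor_nineteen _ hS
  have hi := isT_t2 s
  obtain ⟨x, hx⟩ := (R.top _ hi).elt hi.c4
  have hdvd : NN (p ^ k) (t2 s) ∣ Nat.card S := hx ▸ orderOf_dvd_natCard x
  have hpr : ∀ r : ℕ, r.Prime → r ∣ NN (p ^ k) (t2 s) → r = 19 ∨ r = 37 := by
    intro r hr hd
    have h1 := hbd r hr (hd.trans hdvd)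
    obtain ⟨t, ht⟩ := H196.E7.dvd_sub_one (H627.E7.prim_of_dvd_NN hi.c4 (by omega) hr hd)
    obtain ⟨t', ht'⟩ : 9 ∣ r - 1 := by
      refine Dvd.dvd.trans ?_ (Dvd.intro _ ht.symm)
      cases s <;> simp [t2]
    have h2 := hr.two_le
    have h3 : t' ≤ 7 := by omega
    interval_cases t'
    · omega
    · have : r = 10 := by omega
      subst this; norm_num at hr
    · left; omega
    · have : r = 28 := by omega
      subst this; norm_num at hr
    · right; omega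
    · have : r = 46 := by omega
      subst this; norm_num at hr
    · have : r = 55 := by omega
      subst this; norm_num at hr
    · have : r = 64 := by omega
      subst this; norm_num at hr
  have hbig := NN_big hi.c4 hq
  obtain ⟨r, hr, hrN⟩ := Nat.exists_prime_and_dvd (n := NN (p ^ k) (t2 s)) (by omega)
  obtain ⟨l, hl⟩ := hrN
  by_cases hl1 : l = 1
  · subst hl1
    have := hpr r hr (by rw [hl]; exact dvd_mul_right _ _)
    omega
  obtain ⟨s', hs, hsl⟩ := Nat.exists_prime_and_dvd hl1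
  have hd : r * s' ∣ Nat.card S := (mul_dvd_mul_left r hsl).trans (hl ▸ hdvd)
  rcases hpr r hr (by rw [hl]; exact dvd_mul_right _ _) with rfl | rfl <;>
    rcases hpr s' hs (by rw [hl]; exact hsl.mul_left _) with rfl | rfl
  · exact h19 hd
  · exact h703 hd
  · exact h703 (by rwa [mul_comm] at hd)
  · exact h37 hd

/-- the same, by name -/
theorem row_spor_name {g : Grp} (R : RowS s p k S) (hg : IsNamed g S) (h : ordN g ∈ H437.sporList) : False :=
  row_sporList R (by rw [hg.ord]; exact h)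

/-! ### Exceptional groups of small rank -/

theorem no_cover {v c : ℕ} (R : RowS s p k S) (hv : IsPrimePow v) (hc : Cover S v c) (h5 : c ≤ 5) : False := by
  classical
  obtain ⟨ρ, ⟨hpr, hdv, hna⟩, h3, h7⟩ := coq R
  obtain ⟨w, f, hw, hf, rfl⟩ := (isPrimePow_nat_iff v).1 hv
  have key : (ρ.erase w).card ≤ c := by
    refine hc.card_le _ (fun r hr => ?_) fun r hr s hs hrs => ?_
    · obtain ⟨hrp, hrC⟩ := Finset.mem_erase.1 hr
      refine ⟨hpr r hrC, h3 r hrC, fun hd => hrp ?_, hdv r hrC⟩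
      exact (Nat.prime_dvd_prime_iff_eq (hpr r hrC) hw).1 ((hpr r hrC).dvd_of_dvd_pow hd)
    · exact hna r (Finset.mem_of_mem_erase hr) s (Finset.mem_of_mem_erase hs) hrs
  have h2 := Finset.pred_card_le_card_erase (s := ρ) (a := w)
  omega

variable {v : ℕ}

theorem row_g2 (R : RowS s p k S) (hg : IsNamed (.g2 v) S) : False :=
  no_cover R (hg.cond : 3 ≤ v ∧ IsPrimePow v).2 (cov_g2 hg) (by norm_num)

theorem row_f4 (R : RowS s p k S) (hg : IsNamed (.f4 v) S) : False :=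
  no_cover R (hg.cond : IsPrimePow v) (cov_f4 hg) (by norm_num)

theorem row_e6 (R : RowS s p k S) (hg : IsNamed (.e6 v) S) : False :=
  no_cover R (hg.cond : IsPrimePow v) (cov_e6 hg) (by norm_num)

theorem row_te6 (R : RowS s p k S) (hg : IsNamed (.te6 v) S) : False :=
  no_cover R (hg.cond : IsPrimePow v) (cov_te6 hg) (by norm_num)

theorem row_td4 (R : RowS s p k S) (hg : IsNamed (.td4 v) S) : False :=
  no_cover R (hg.cond : IsPrimePow v) (cov_td4 hg) (by norm_num)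

theorem row_sz (R : RowS s p k S) (hg : IsNamed (.sz v) S) : False :=
  no_cover R (Nat.prime_two.isPrimePow.pow (by norm_num)) (cov_sz hg) (by norm_num)

theorem row_ree (R : RowS s p k S) (hg : IsNamed (.ree v) S) : False :=
  no_cover R (Nat.prime_three.isPrimePow.pow (by norm_num)) (cov_ree hg) (by norm_num)

theorem row_tf4 (R : RowS s p k S) (hg : IsNamed (.tf4 v) S) : False :=
  no_cover R (Nat.prime_two.isPrimePow.pow (by norm_num)) (cov_tf4 hg) (by norm_num)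

theorem row_tits (R : RowS s p k S) (hg : IsNamed .tits S) : False := row_spor_name R hg (by decide +kernel)

theorem row_sporadic {g : Grp} (R : RowS s p k S) (hg : IsNamed g S) (h : g ∈ H196.E7.sporNames) : False :=
  row_spor_name R hg (H196.E7.ord_mem g h)

end Cfsg.Agent.R2.Spec.X1.E7
end

-- part: R2/Spec/X1/E7/Rows
section
/-!
# `E₇(q)`, `q` odd: the identification of `S` (helper13, S3435; after helper962, S3482)
-/

set_option autoImplicit false

namespace Cfsg.Agent.R2.Spec.X1.E7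

open Cfsg Cfsg.Lie
open Cfsg.Agent.H436 Cfsg.Agent.OrdDiv Cfsg.Agent.H962.E7 Cfsg.Agent.H791.E7

universe u v

/-- **the rows** -/
theorem row_all {s : Bool} {p k : ℕ} {S : Type u} [Group S] [Finite S] (R : RowS s p k S) (g : Grp)
    (hg : IsNamed g S) : g = .e7 (p ^ k) := by
  by_cases h : p ∣ fld g ∧ fld g ≠ 0
  · exact row_own R hg h.1 h.2
  exfalso
  have hv : ∀ q : ℕ, fld g = q → IsPrimePow q → ¬ p ∣ q := by
    intro q hq hpp hd
    exact h ⟨hq ▸ hd, hq ▸ hpp.pos.ne'⟩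
  have hcond := hg.cond
  cases g with
  | alt n => exact row_alt R hg
  | psl n q => exact row_psl R hg
  | psp m q => exact row_psp R hg (hv q rfl hcond.2.2)
  | psu n q => exact row_psu R hg
  | oodd m q => exact row_oodd R hg (hv q rfl hcond.2.2)
  | oplus m q => exact row_oplus R hg
  | ominus m q => exact row_ominus R hg
  | g2 q => exact row_g2 R hg
  | f4 q => exact row_f4 R hg
  | e6 q => exact row_e6 R hg
  | e7 q => exact row_e7 R hg (hv q rfl hcond)
  | e8 q => exact row_e8 R hg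
  | te6 q => exact row_te6 R hg
  | td4 q => exact row_td4 R hg
  | sz q => exact row_sz R hg
  | ree q => exact row_ree R hg
  | tf4 q => exact row_tf4 R hg
  | tits => exact row_tits R hg
  | _ => exact row_sporadic R hg (by decide)

end Cfsg.Agent.R2.Spec.X1.E7
end
end

-- part: R2/Spec/X1/TI/Spor_mg
section
set_option linter.all false
open scoped Cfsg.Agent.FastGrp

-- part: R2/Spec/X1/TI/Spor
section
/-!
# Identification of `³D₄(q)`: the sporadic groups and the Tits group (helper134, statement S3478)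
-/

set_option autoImplicit false
set_option linter.unusedSectionVars false

namespace Cfsg.Agent.R2.Spec.X1.TI

open Cfsg Cfsg.Agent.R2.Spec.X1.TD Cfsg.Agent.NotCT

variable {p q : ℕ}

theorem coprime_prime (h : Par p q) {r : ℕ} (hr : r.Prime) (h1 : r % 12 ≠ 1) (k : ℕ) :
    Nat.Coprime (mm q) (r ^ k) :=
  Nat.Coprime.pow_right _ (Nat.Coprime.symm ((Nat.Prime.coprime_iff_not_dvd hr).2 fun hd => h1 (prime_mm h hr hd)))

/-- `n` does not divide `13³ · 37` -/
theorem not_dvd_small (h : Par p q) : ¬ mm q ∣ 13 ^ 3 * 37 := by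
  intro hd
  have hq := h.hq
  have h1 := mm_add_sq hq
  have h2 := Nat.le_of_dvd (by norm_num) hd
  have h3 : q < 17 := by
    by_contra hlt
    push Not at hlt
    obtain ⟨b, rfl⟩ := Nat.exists_eq_add_of_le hlt
    have h4 : (17 + b) ^ 4 = (17 + b) ^ 2 * (17 + b) ^ 2 := by ring
    have h5 : 289 ≤ (17 + b) ^ 2 := by nlinarith
    nlinarith
  unfold mm at hd
  interval_cases q <;> revert hd <;> decide

/-- the primes of the sporadic groups -/
theorem not_dvd_lcm (h : Par p q) : ¬ mm q ∣ 2 ^ 46 * 3 ^ 20 * 5 ^ 9 * 7 ^ 6 * 11 ^ 3 * 17 ^ 1 * 19 ^ 1 * 23 ^ 1 * 29 ^ 1 *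
    31 ^ 1 * 41 ^ 1 * 43 ^ 1 * 47 ^ 1 * 59 ^ 1 * 67 ^ 1 * 71 ^ 1 * (13 ^ 3 * 37) := by
  intro hd
  refine not_dvd_small h (Nat.Coprime.dvd_of_dvd_mul_left ?_ hd)
  have c : ∀ {r : ℕ}, r.Prime → r % 12 ≠ 1 → ∀ k, Nat.Coprime (mm q) (r ^ k) := fun hr h1 k =>
    coprime_prime h hr h1 k
  exact ((((((((((((((((c (by norm_num) (by norm_num) _).mul_right (c (by norm_num) (by norm_num) _)).mul_right
    (c (by norm_num) (by norm_num) _)).mul_right (c (by norm_num) (by norm_num) _)).mul_right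
    (c (by norm_num) (by norm_num) _)).mul_right (c (by norm_num) (by norm_num) _)).mul_right
    (c (by norm_num) (by norm_num) _)).mul_right (c (by norm_num) (by norm_num) _)).mul_right
    (c (by norm_num) (by norm_num) _)).mul_right (c (by norm_num) (by norm_num) _)).mul_right
    (c (by norm_num) (by norm_num) _)).mul_right (c (by norm_num) (by norm_num) _)).mul_right
    (c (by norm_num) (by norm_num) _)).mul_right (c (by norm_num) (by norm_num) _)).mul_right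
    (c (by norm_num) (by norm_num) _)).mul_right (c (by norm_num) (by norm_num) _))

theorem row_card {S : Type*} [Group S] [Finite S] (h : Sit p q S) {N : ℕ} (hN : Nat.card S = N)
    (hd : N ∣ 2 ^ 46 * 3 ^ 20 * 5 ^ 9 * 7 ^ 6 * 11 ^ 3 * 17 ^ 1 * 19 ^ 1 * 23 ^ 1 * 29 ^ 1 *
      31 ^ 1 * 41 ^ 1 * 43 ^ 1 * 47 ^ 1 * 59 ^ 1 * 67 ^ 1 * 71 ^ 1 * (13 ^ 3 * 37)) : False :=
  not_dvd_lcm h.par (h.mm_dvd_card.trans (hN ▸ hd))

/-- **the Tits group** -/
theorem row_tits {S : Type*} [Group S] [Finite S] (h : Sit p q S) (hS : Lie.IsoTits S) : False :=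
  row_card h (Orders.tits hS) (by decide +kernel)

/-- **the sporadic groups** -/
theorem row_spor {S : Type*} [Group S] [Finite S] (h : Sit p q S) (hS : IsSporadicGroup S) : False := by
  rcases hS with hS | hS | hS | hS | hS | hS | hS | hS | hS | hS | hS | hS | hS | hS | hS | hS | hS | hS | hS | hS | hS | hS |
    hS | hS | hS | hS
  · exact row_card h (Orders.m11 hS) (by decide +kernel)
  · exact row_card h (Orders.m12 hS) (by decide +kernel)
  · exact row_card h (Orders.m22 hS) (by decide +kernel)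
  · exact row_card h (Orders.m23 hS) (by decide +kernel)
  · exact row_card h (Orders.m24 hS) (by decide +kernel)
  · exact row_card h (Orders.j1 hS) (by decide +kernel)
  · exact row_card h (Orders.j2 hS) (by decide +kernel)
  · exact row_card h (Orders.j3 hS) (by decide +kernel)
  · exact row_card h (Orders.j4 hS) (by decide +kernel)
  · exact row_card h (Orders.co1 hS) (by decide +kernel)
  · exact row_card h (Orders.co2 hS) (by decide +kernel)
  · exact row_card h (Orders.co3 hS) (by decide +kernel)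
  · exact row_card h (Orders.mcl hS) (by decide +kernel)
  · exact row_card h (Orders.hs hS) (by decide +kernel)
  · exact row_card h (Orders.suz hS) (by decide +kernel)
  · exact row_card h (Orders.he hS) (by decide +kernel)
  · exact row_card h (Orders.ru hS) (by decide +kernel)
  · exact row_card h (Orders.on hS) (by decide +kernel)
  · exact row_card h (Orders.ly hS) (by decide +kernel)
  · exact row_card h (Orders.fi22 hS) (by decide +kernel)
  · exact row_card h (Orders.fi23 hS) (by decide +kernel)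
  · exact row_card h (Orders.fi24 hS) (by decide +kernel)
  · exact row_card h (Orders.hn hS) (by decide +kernel)
  · exact row_card h (Orders.th hS) (by decide +kernel)
  · exact row_card h (Orders.b hS) (by decide +kernel)
  · exact row_card h (Orders.m hS) (by decide +kernel)

end Cfsg.Agent.R2.Spec.X1.TI
end

-- part: R2/Spec/X1/TRe/E6
section
/-!
# Row `E₆(u)` for the recognition of `³D₄(q)` by spectrum (helper488, for S3478)
-/

set_option autoImplicit false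
set_option linter.unusedSectionVars false

namespace Cfsg.Agent.R2.Spec.X1.TRe

open Cfsg Cfsg.Lie
open Cfsg.Agent.R2.Spec.X1.TI Cfsg.Agent.R2.Spec.X1.TD

/-- `u³ + 1 = q²` : `u = 2`, `q = 3` -/
theorem cube_add_one {p q u : ℕ} (hP : Par p q) (hu : IsPrimePow u) (h : u ^ 3 + 1 = q ^ 2) : u = 2 ∧ q = 3 := by
  have hq := hP.hq
  obtain ⟨r, f, hr, hf, rfl⟩ := hu
  have hr : r.Prime := Nat.prime_iff.2 hr
  have h1 : (q - 1) * (q + 1) = r ^ (f * 3) := by
    obtain ⟨t, rfl⟩ : ∃ t, q = t + 1 := ⟨q - 1, by omega⟩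
    rw [Nat.add_sub_cancel, pow_mul]
    nlinarith
  obtain ⟨a, ha, ha'⟩ := (Nat.dvd_prime_pow hr).1 (h1 ▸ Dvd.intro _ rfl : q - 1 ∣ r ^ (f * 3))
  obtain ⟨b, hb, hb'⟩ := (Nat.dvd_prime_pow hr).1 (h1 ▸ Dvd.intro_left _ rfl : q + 1 ∣ r ^ (f * 3))
  have ha0 : a ≠ 0 := by rintro rfl; rw [pow_zero] at ha'; omega
  have hb0 : b ≠ 0 := by rintro rfl; rw [pow_zero] at hb'; omega
  have hr2 : r = 2 := by
    have h2 : r ∣ q - 1 := ha' ▸ dvd_pow_self r ha0
    have h3 : r ∣ q + 1 := hb' ▸ dvd_pow_self r hb0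
    have h4 : r ∣ 2 := by
      have := Nat.dvd_sub h3 h2
      rwa [show q + 1 - (q - 1) = 2 by omega] at this
    exact (Nat.prime_dvd_prime_iff_eq hr Nat.prime_two).1 h4
  subst hr2
  have ha1 : a = 1 := by
    by_contra hcon
    have h4 : 4 ∣ q - 1 := by rw [ha']; exact (by norm_num : (4 : ℕ) = 2 ^ 2) ▸ pow_dvd_pow 2 (by omega)
    have hb2 : b ≠ 1 := by rintro rfl; omega
    have h5 : 4 ∣ q + 1 := by rw [hb']; exact (by norm_num : (4 : ℕ) = 2 ^ 2) ▸ pow_dvd_pow 2 (by omega)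
    omega
  subst ha1
  have hq3 : q = 3 := by omega
  subst hq3
  refine ⟨?_, rfl⟩
  have h5 : (2 ^ f) ^ 3 = 2 ^ 3 := by omega
  exact Nat.pow_left_injective (by norm_num : (3 : ℕ) ≠ 0) h5

/-- `r ∣ u⁶ + u³ + 1` if `u` has order 9 modulo `r` -/
theorem dvd_phi9 {u r : ℕ} (hr : r.Prime) (hd : orderOf ((u : ℕ) : ZMod r) = 9) : r ∣ u ^ 6 + u ^ 3 + 1 := by
  have := Fact.mk hr
  rw [← ZMod.natCast_eq_zero_iff]
  push_cast
  have h1 : (u : ZMod r) ^ 9 = 1 := by rw [← hd]; exact pow_orderOf_eq_one _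
  have h2 : (u : ZMod r) ^ 3 ≠ 1 := fun h => by
    have := orderOf_dvd_of_pow_eq_one h
    rw [hd] at this
    norm_num at this
  have h3 : ((u : ZMod r) ^ 3 - 1) * ((u : ZMod r) ^ 6 + (u : ZMod r) ^ 3 + 1) = 0 := by
    linear_combination h1
  exact (mul_eq_zero.1 h3).resolve_left (sub_ne_zero.2 h2)

universe v

/-- **Row `E₆(u)`.** -/
theorem row_E6 {p q : ℕ} {F : Type v} [Field F] [Fintype F] (h : Sit p q ↥(chevE6.group F)) : False := by
  have hP := h.par
  obtain ⟨s, hs, hsn, hs13, hsc⟩ := h.exists_prime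
  obtain ⟨u, hu⟩ : ∃ u, Fintype.card F = u := ⟨_, rfl⟩
  have hu' : Nat.card F = u := by rw [Nat.card_eq_fintype_card, hu]
  have hupp : IsPrimePow u := by rw [← hu]; exact FiniteField.isPrimePow_card F
  have hod := (H378.ExcNear.near_E6 F hs hsc).resolve_left (h.not_near hs hsn)
  rw [hu'] at hod
  have hdN : s ∣ u ^ 6 + u ^ 3 + 1 := dvd_phi9 hs hod
  have hE := H129.CycT.exact_E6_9 (F := F) hu (N := u ^ 6 + u ^ 3 + 1) (by push_cast; ring)
  have hg : Nat.gcd 3 (u - 1) = 1 ∨ Nat.gcd 3 (u - 1) = 3 := (Nat.dvd_prime Nat.prime_three).1 (Nat.gcd_dvd_left _ _)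
  rcases hg with hg | hg
  · rw [hg, Nat.div_one] at hE
    have h1 := h.exact hE hs hdN hsn
    have h2 : u ^ 3 + 1 = q ^ 2 := eq_add hP (v := u ^ 3) (by rw [← h1]; ring)
    obtain ⟨hu2, hq3⟩ := cube_add_one hP hupp h2
    have hcard := S1063.result hu
    subst hu2 hq3
    have h31 : Nat.Prime 31 := by norm_num
    have h3 : 31 ∣ Nat.card ↥(chevE6.group F) := by
      rw [hg, one_mul] at hcard
      rw [hcard]
      norm_num
    rcases h.prime h31 h3 with h4 | h4 | h4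
    · unfold R2.Spec.X1.TD.mm at h4; norm_num at h4
    · norm_num at h4
    · norm_num at h4
  · rw [hg] at hE
    have h3u : 3 ∣ u - 1 := Nat.gcd_eq_left_iff_dvd.1 hg
    have h3N : 3 ∣ u ^ 6 + u ^ 3 + 1 := by
      obtain ⟨t, ht⟩ := h3u
      have hu1 : u = 3 * t + 1 := by have := hupp.pos; omega
      rw [hu1]
      refine ⟨243 * t ^ 6 + 486 * t ^ 5 + 405 * t ^ 4 + 189 * t ^ 3 + 54 * t ^ 2 + 9 * t + 1, ?_⟩
      ring
    obtain ⟨N, hN⟩ := h3N
    rw [hN, Nat.mul_div_cancel_left _ (by norm_num)] at hE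
    have hsN : s ∣ N := by
      rw [hN] at hdN
      refine ((Nat.Prime.dvd_mul hs).1 hdN).resolve_left fun h3 => ?_
      have := Nat.le_of_dvd (by norm_num) h3
      omega
    have h1 := h.exact hE hs hsN hsn
    exact ne_three hP (u ^ 3) (by rw [← h1, ← hN]; ring)

end Cfsg.Agent.R2.Spec.X1.TRe
end
end

-- part: R2/Spec/NA5/FinA
section
set_option linter.all false
open scoped Cfsg.Agent.FastGrp

/-!
# S3435, packet NON-A, `dimL t ≥ 5` (helper3): the finite check, `m ≤ 59`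
-/

set_option autoImplicit false

namespace Cfsg.Agent.R2.Spec.NA5

open Cfsg.Agent.H403.NumTop hiding nu

/-- `exq false e 8 4 w 1 2 3`, on the numbers `AA e i w` -/
private def raw (a1 a3 a4 a7 : ℕ) : Bool :=
  Nat.blt (Nat.gcd 8 a1) (Nat.sub a4 a3) &&
    (Nat.blt (Nat.mul (Nat.pow (Nat.add a4 a3) 5) (Nat.mul 6496 a7))
        (Nat.mul (Nat.pow (Nat.div (Nat.mul a4 a3) (Nat.gcd a4 a3)) 5) (Nat.gcd 8 a1)) &&
      Nat.blt (Nat.mul (Nat.pow (Nat.mul 2 (Nat.gcd 8 a1)) 5) (Nat.mul 41209 (Nat.pow a7 2)))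
        (Nat.mul (Nat.pow (Nat.div (Nat.mul a4 a3) (Nat.gcd a4 a3)) 5) (Nat.pow (Nat.gcd 8 a1) 2)))

private theorem raw_num {a1 a3 a4 a7 : ℕ} (h : raw a1 a3 a4 a7 = true) :
    Nat.gcd 8 a1 < 1 * ((a4 - a3) + (a3 - a4)) ∧
      (2 * (1 * (a4 + a3))) ^ 5 * (203 * (1 * a7)) < ((2 - 1) * (a4 * a3 / Nat.gcd a4 a3)) ^ 5 * Nat.gcd 8 a1 ∧
      (2 * (1 * Nat.gcd 8 a1)) ^ 5 * (203 ^ 2 * (1 * a7) ^ 2) < (a4 * a3 / Nat.gcd a4 a3) ^ 5 * Nat.gcd 8 a1 ^ 2 := by
  rw [raw, Bool.and_eq_true, Bool.and_eq_true, Nat.blt_eq, Nat.blt_eq, Nat.blt_eq] at h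
  obtain ⟨h1, h2, h3⟩ := h
  change Nat.gcd 8 a1 < a4 - a3 at h1
  change (a4 + a3) ^ 5 * (6496 * a7) < (a4 * a3 / Nat.gcd a4 a3) ^ 5 * Nat.gcd 8 a1 at h2
  change (2 * Nat.gcd 8 a1) ^ 5 * (41209 * a7 ^ 2) < (a4 * a3 / Nat.gcd a4 a3) ^ 5 * Nat.gcd 8 a1 ^ 2 at h3
  simp only [one_mul, Nat.add_one_sub_one]
  refine ⟨h1.trans_le (Nat.le_add_right _ _), lt_of_eq_of_lt ?_ h2, h3⟩
  ring

private theorem raw_spec {e : Bool} {w : ℕ} (h : raw (AA e 1 w) (AA e 3 w) (AA e 4 w) (AA e 7 w) = true) :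
    exq false e 8 4 w 1 2 3 = true := by
  obtain ⟨h1, h2, h3⟩ := raw_num h
  exact Bool.and_eq_true_iff.2 ⟨Bool.and_eq_true_iff.2 ⟨rfl, decide_eq_true h1⟩,
    Bool.and_eq_true_iff.2 ⟨decide_eq_true h2, decide_eq_true h3⟩⟩

/-- a quick test -/
private def qk (s : Bool) (m k j w : ℕ) : Bool :=
  bif Nat.beq j 4 then (!s && (Nat.beq m 8 && Nat.beq k 4)) &&
    (raw (Nat.sub w 1) (Nat.sub (Nat.pow w 3) 1) (Nat.sub (Nat.pow w 4) 1) (Nat.sub (Nat.pow w 7) 1) &&
      raw (Nat.add w 1) (Nat.add (Nat.pow w 3) 1) (Nat.sub (Nat.pow w 4) 1) (Nat.add (Nat.pow w 7) 1))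
  else exq s true m k w 1 2 j && exq s false m k w 1 2 j

/-- the first `n` steps of `scan` (for `H = 1`), without the crude tests and with the test `j` first -/
private def pre (s : Bool) (m k j f n : ℕ) : ℕ → Bool :=
  Nat.rec (motive := fun _ => ℕ → Bool) (scan s m k 1 f)
    (fun _ ih w => (qk s m k j w || okk s m k w 1) && ih (Nat.succ w)) n

private theorem exA_of {s e : Bool} {m k u H j : ℕ} (h : exq s e m k u H 2 j = true) : exA s e m k u H = true := by
  change (exq s e m k u H 2 0 || (exq s e m k u H 2 1 || (exq s e m k u H 2 2 || (exq s e m k u H 2 3 || _)))) = true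
  match j, h with
  | 0, h => rw [h]; rfl
  | 1, h => rw [h, Bool.true_or, Bool.or_true]
  | 2, h => rw [h, Bool.true_or, Bool.or_true, Bool.or_true]
  | 3, h => rw [h, Bool.true_or, Bool.or_true, Bool.or_true, Bool.or_true]
  | n + 4, h => exact absurd h Bool.false_ne_true

private theorem qk_spec {s : Bool} {m k j w : ℕ} (h : qk s m k j w = true) :
    exA s true m k w 1 = true ∧ exA s false m k w 1 = true := by
  rw [qk] at h
  cases h0 : Nat.beq j 4
  · rw [h0, cond_false, Bool.and_eq_true] at h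
    exact ⟨exA_of h.1, exA_of h.2⟩
  · rw [h0, cond_true, Bool.and_eq_true, Bool.and_eq_true, Bool.and_eq_true, Bool.and_eq_true, Nat.beq_eq, Nat.beq_eq,
      Bool.not_eq_true'] at h
    obtain ⟨⟨rfl, rfl, rfl⟩, h1, h2⟩ := h
    refine ⟨exA_of (raw_spec (Eq.trans ?_ h1)), exA_of (raw_spec (Eq.trans ?_ h2))⟩
    · change raw (w ^ 1 - 1) _ _ _ = _
      rw [pow_one]
      rfl
    · change raw (w ^ 1 + 1) _ _ _ = _
      rw [pow_one]
      rfl

private theorem pre_spec {s : Bool} {m k j f : ℕ} : ∀ n w, pre s m k j f n w = true → scan s m k 1 (f + n) w = true := by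
  intro n
  induction n with
  | zero => exact fun _ h => h
  | succ n ih =>
    intro w h
    change ((qk s m k j w || okk s m k w 1) && pre s m k j f n (w + 1)) = true at h
    change (crA s m k (w ^ 1) 1 || (okk s m k (w ^ 1) 1 && scan s m k 1 (f + n) (w + 1))) = true
    rw [Bool.and_eq_true, Bool.or_eq_true] at h
    have h1 : okk s m k w 1 = true := h.1.elim (fun h2 => by
      change (((exA s true m k w 1 || _) || _) && ((exA s false m k w 1 || _) || _)) = true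
      rw [(qk_spec h2).1, (qk_spec h2).2]
      rfl) id
    rw [pow_one, h1, ih _ h.2, Bool.and_self, Bool.or_true]

/-- `(128 m + 2 k + s, j, n)` -/
private def cert : List (ℕ × ℕ × ℕ) := 
  [(647, 2, 14), (646, 0, 72), (777, 0, 455), (776, 0, 19), (903, 2, 14), (905, 2, 14), (904, 0, 47), (907, 0,
  33), (1031, 2, 14), (1030, 3, 21), (1032, 4, 7581), (1035, 2, 14), (1034, 0, 12), (1037, 0, 12), (1158, 1,
  32), (1161, 2, 14), (1163, 2, 14), (1162, 2, 33), (1165, 0, 32), (1287, 1, 9), (1289, 2, 21), (1288, 3, 21),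
  (1290, 3, 86), (1293, 2, 799), (1292, 0, 14), (1295, 0, 9), (1419, 2, 13), (1421, 2, 13), (1420, 2, 211),
  (1423, 2, 14), (1548, 3, 18), (1551, 2, 14), (1550, 2, 14), (1681, 2, 14), (1806, 3, 8), (1809, 2, 21), (1808,
  3, 21), (1811, 2, 9), (1939, 2, 511), (1938, 0, 14), (2066, 2, 13), (2069, 2, 14), (2457, 2, 8), (2585, 2,
  21), (2584, 3, 10), (2713, 2, 13), (2712, 2, 211), (3231, 2, 511), (3230, 0, 14)]

private theorem crA_iff {s : Bool} {m k u H : ℕ} : crA s m k u H = true ↔ ∃ j, cr s m k u H j = true := by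
  change (cr s m k u H 0 || (cr s m k u H 1 || (cr s m k u H 2 || (cr s m k u H 3 || (cr s m k u H 4 || (cr s m k u H 5 ||
    (cr s m k u H 6 || (cr s m k u H 7 || (cr s m k u H 8 || cr s m k u H 9))))))))) = true ↔ _
  simp only [Bool.or_eq_true]
  refine ⟨fun h => by rcases h with h | h | h | h | h | h | h | h | h | h <;> exact ⟨_, h⟩, fun ⟨j, h⟩ => ?_⟩
  match j, h with
  | 0, h | 1, h | 2, h | 3, h | 4, h | 5, h | 6, h | 7, h | 8, h | 9, h => simp only [h, true_or, or_true]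
  | n + 10, h => exact absurd h Bool.false_ne_true

private theorem crA_up {s : Bool} {m k : ℕ} (hm : 2 ≤ m) (hk : k < m) (h : crA s m k (2 ^ 11) 11 = true) {H : ℕ}
    (hH : 11 ≤ H) : crA s m k (2 ^ H) H = true := by
  obtain ⟨j, h⟩ := crA_iff.1 h
  refine crA_iff.2 ⟨j, ?_⟩
  induction H, hH using Nat.le_induction with
  | base => exact h
  | succ n hn ih => exact cr_succ hm hk (by omega) ih

/-- the exponents `H ≥ 5` -/
private def tl (s : Bool) (m k : ℕ) : Bool :=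
  (scan s m k 5 8000 2 && scan s m k 7 8000 2) && (crA s m k (2 ^ 11) 11 ||
    ((HL.tail.tail.tail.all fun H => scan s m k H 8000 2) && crA s m k (2 ^ 47) 47))

private theorem fink_tl {s : Bool} {m k : ℕ} (hm : 2 ≤ m) (hk : k < m) (h1 : scan s m k 1 8000 2 = true)
    (h : tl s m k = true) : ((HL.all fun H => scan s m k H 8000 2) && crA s m k (2 ^ 47) 47) = true := by
  rw [tl, Bool.and_eq_true, Bool.and_eq_true, Bool.or_eq_true, Bool.and_eq_true] at h
  obtain ⟨⟨h2, h3⟩, h4⟩ := h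
  have h5 : (HL.tail.tail.tail.all fun H => scan s m k H 8000 2) = true ∧ crA s m k (2 ^ 47) 47 = true := by
    refine h4.elim (fun h4 => ⟨List.all_eq_true.2 fun H hH => ?_, crA_up hm hk h4 (by norm_num)⟩) id
    have h6 : ∀ H ∈ HL.tail.tail.tail, 11 ≤ H := by decide
    change (crA s m k (2 ^ H) H || _) = true
    rw [crA_up hm hk h4 (h6 H hH), Bool.true_or]
  change ((scan s m k 1 8000 2 && (scan s m k 5 8000 2 && (scan s m k 7 8000 2 &&
    HL.tail.tail.tail.all fun H => scan s m k H 8000 2))) && _) = true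
  rw [h1, h2, h3, h5.1, h5.2]
  rfl

private def finkF (s : Bool) (m k : ℕ) : Bool :=
  str s m k || (((cert.any fun x => Nat.beq x.1 (128 * m + 2 * k + s.toNat) && (Nat.ble x.2.2 8000 &&
    pre s m k x.2.1 (8000 - x.2.2) x.2.2 2)) || scan s m k 1 8000 2) && tl s m k)

private theorem fink_of {s : Bool} {m k : ℕ} (hm : 2 ≤ m) (hk : k < m) (h : finkF s m k = true) : fink s m k = true := by
  change (str s m k || ((HL.all fun H => scan s m k H 8000 2) && crA s m k (2 ^ 47) 47)) = true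
  rw [finkF, Bool.or_eq_true, Bool.and_eq_true, Bool.or_eq_true] at h
  rw [Bool.or_eq_true]
  refine h.imp_right fun h => fink_tl hm hk (h.1.elim (fun h => ?_) id) h.2
  obtain ⟨x, -, h⟩ := List.any_eq_true.1 h
  rw [Bool.and_eq_true, Bool.and_eq_true, Nat.ble_eq] at h
  have h5 := pre_spec _ _ h.2.2
  rwa [Nat.sub_add_cancel h.2.1] at h5

private def finmF (m : ℕ) : Bool :=
  (List.range (m - 1)).all fun k => decide (k < 3) ||
    ((decide (m % k = 0) || finkF true m k) &&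
      ((decide ((m - 1) % k = 0) || (decide (m = 6) && decide (k = 3))) || finkF false m k))

private theorem finm_of {m : ℕ} (h : finmF m = true) : finm m = true := by
  refine List.all_eq_true.2 fun k hk => ?_
  have h1 := List.all_eq_true.1 h k hk
  simp only [Bool.or_eq_true, Bool.and_eq_true] at h1 ⊢
  have h3 := List.mem_range.1 hk
  exact h1.imp_right fun h2 =>
    ⟨h2.1.imp_right (fink_of (by omega) (by omega)), h2.2.imp_right (fink_of (by omega) (by omega))⟩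

set_option maxRecDepth 100000 in
theorem finm_five : finm 5 = true := finm_of (by decide +kernel)

set_option maxRecDepth 100000 in
theorem finm_six : finm 6 = true := finm_of (by decide +kernel)

set_option maxRecDepth 100000 in
theorem finm_seven : finm 7 = true := finm_of (by decide +kernel)

set_option maxRecDepth 100000 in
theorem finm_eight : finm 8 = true := finm_of (by decide +kernel)

private theorem stp {f : ℕ → Bool} {a n : ℕ} (h : ∀ m, a ≤ m → m < n → f m = true) (h1 : f n = true) :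
    ∀ m, a ≤ m → m < n + 1 → f m = true := fun m h2 h3 =>
  (Nat.lt_succ_iff_lt_or_eq.1 h3).elim (h m h2) fun h4 => h4 ▸ h1

set_option maxRecDepth 100000 in
private theorem b1 : ∀ m, 9 ≤ m → m < 60 → finmF m = true := by
  iterate 51 refine stp ?_ (by decide +kernel)
  exact fun m h1 h2 => absurd h1 (Nat.not_le.2 h2)

theorem finm_b : ((List.range 51).all fun i => finm (i + 9)) = true :=
  List.all_eq_true.2 fun i hi => finm_of (b1 _ (Nat.le_add_left _ _) (Nat.add_lt_add_right (List.mem_range.1 hi) 9))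

end Cfsg.Agent.R2.Spec.NA5
end

-- part: R2/Spec/NA5/Main5
section
set_option linter.all false
open scoped Cfsg.Agent.FastGrp

-- part: R2/Spec/NA5/FinB
section
/-!
# S3435, packet NON-A, `dimL t ≥ 5` (helper3): the finite check, `60 ≤ m < 200`
-/

set_option autoImplicit false

namespace Cfsg.Agent.R2.Spec.NA5

private theorem stp_v8 {f : ℕ → Bool} {a n : ℕ} (h : ∀ m, a ≤ m → m < n → f m = true) (h1 : f n = true) :
    ∀ m, a ≤ m → m < n + 1 → f m = true := fun m h2 h3 =>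
  (Nat.lt_succ_iff_lt_or_eq.1 h3).elim (h m h2) fun h4 => h4 ▸ h1

private theorem fink_out {s : Bool} {m k : ℕ} (hm : 60 ≤ m) (hk : k < m - 1) (h : k < 2 * m / 5 - 3 ∨ 2 * m / 5 - 3 + (m / 5 + 8) ≤ k) :
    fink s m k = true := by
  refine Bool.or_eq_true_iff.2 (Or.inl (Bool.or_eq_true_iff.2 ?_))
  rcases h with h | h
  · have h1 : 5 * (k - 1) + (m - 1) + 28 ≤ 5 * (m - k - 1) := by omega
    have h2 : 5 * 0 + 3 + 2 * (m - 1) + 33 ≤ 5 * (m - k - 1) := by omega
    exact Or.inr (Bool.or_eq_true_iff.2 (Or.inl (Bool.and_eq_true_iff.2 ⟨decide_eq_true h1, decide_eq_true h2⟩)))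
  · have h1 : 5 * (m - k - 1) + (m - 1) + 28 ≤ 5 * (k - 1) := by omega
    have h2 : 5 * 0 + 3 + 2 * (m - 1) + 33 ≤ 5 * (k - 1) := by omega
    have h3 : 5 * (k - 1) ≤ 5 * k := by omega
    cases s
    · exact Or.inl (Bool.and_eq_true_iff.2 ⟨decide_eq_true (h1.trans h3), decide_eq_true (h2.trans h3)⟩)
    · exact Or.inl (Bool.and_eq_true_iff.2 ⟨decide_eq_true h1, decide_eq_true h2⟩)

private def fk (s : Bool) (m k : ℕ) : Bool := str5 s m k 2 || fink s m k

private theorem fk_of {s : Bool} {m k : ℕ} (h : fk s m k = true) : fink s m k = true :=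
  (Bool.or_eq_true_iff.1 h).elim (fun h => Bool.or_eq_true_iff.2 (Or.inl (Bool.or_eq_true_iff.2 (Or.inr
    (Bool.or_eq_true_iff.2 (Or.inr (Bool.or_eq_true_iff.2 (Or.inl h)))))))) id

private def mid (m : ℕ) : Bool :=
  Nat.ble 60 m && (List.range' (2 * m / 5 - 3) (m / 5 + 8)).all fun k =>
    (decide (m % k = 0) || fk true m k) && (decide ((m - 1) % k = 0) || fk false m k)

private theorem mid_of {m : ℕ} (h : mid m = true) : finm m = true := by
  obtain ⟨hm, h⟩ := Bool.and_eq_true_iff.1 h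
  rw [Nat.ble_eq] at hm
  refine List.all_eq_true.2 fun k hk => Bool.or_eq_true_iff.2 (Or.inr (Bool.and_eq_true_iff.2 ?_))
  have h1 := List.mem_range.1 hk
  by_cases h2 : k < 2 * m / 5 - 3 ∨ 2 * m / 5 - 3 + (m / 5 + 8) ≤ k
  · exact ⟨Bool.or_eq_true_iff.2 (Or.inr (fink_out hm h1 h2)), Bool.or_eq_true_iff.2 (Or.inr (fink_out hm h1 h2))⟩
  · obtain ⟨h3, h4⟩ := Bool.and_eq_true_iff.1 (List.all_eq_true.1 h k (List.mem_range'_1.2 (by omega)))
    exact ⟨Bool.or_eq_true_iff.2 ((Bool.or_eq_true_iff.1 h3).imp_right fk_of), Bool.or_eq_true_iff.2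
      ((Bool.or_eq_true_iff.1 h4).imp (fun h5 => Bool.or_eq_true_iff.2 (Or.inl h5)) fk_of)⟩

set_option maxRecDepth 100000 in
private theorem c1 : ∀ m, 60 ≤ m → m < 200 → mid m = true := by
  iterate 140 refine stp_v8 ?_ (by decide +kernel)
  exact fun m h1 h2 => absurd h1 (Nat.not_le.2 h2)

theorem finm_c : ((List.range 140).all fun i => finm (i + 60)) = true :=
  List.all_eq_true.2 fun i hi => mid_of (c1 _ (Nat.le_add_left _ _) (Nat.add_lt_add_right (List.mem_range.1 hi) 60))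

end Cfsg.Agent.R2.Spec.NA5
end

-- part: R2/Spec/NA5/Main5
section
/-!
# S3435, packet NON-A, `dimL t ≥ 5` (helper3): the theorem about `NE`

`NE.main5` : the leftover `bad5`, or type II and `u = 2`, except `(m, i', j') = (6, 5, 3)`.
-/

set_option autoImplicit false

namespace Cfsg.Agent.R2.Spec.NA5

open Cfsg.Agent.R2.Spec.NA
open Cfsg.Agent.H403.NumTop hiding nu

variable {s e : Bool} {m k u q p H M N d : ℕ} {a b c : ℤ}

theorem exists_cr (h : crA s m k u H = true) : ∃ j, cr s m k u H j = true := by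
  simp only [crA, Bool.or_eq_true] at h
  rcases h with h | h | h | h | h | h | h | h | h | h
  · exact ⟨0, h⟩
  · exact ⟨1, h⟩
  · exact ⟨2, h⟩
  · exact ⟨3, h⟩
  · exact ⟨4, h⟩
  · exact ⟨5, h⟩
  · exact ⟨6, h⟩
  · exact ⟨7, h⟩
  · exact ⟨8, h⟩
  · exact ⟨9, h⟩

theorem exists_str (h : str s m k = true) : ∃ j, str5 s m k j = true := by
  simp only [str, Bool.or_eq_true] at h
  rcases h with h | h | h | h | h
  · exact ⟨0, h⟩
  · exact ⟨1, h⟩
  · exact ⟨2, h⟩
  · exact ⟨3, h⟩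
  · exact ⟨4, h⟩

theorem exists_exq (h : exA s e m k u H = true) :
    exL s e m k u H = true ∨ ∃ θ j, 1 ≤ θ ∧ exq s e m k u H θ j = true := by
  simp only [exA, Bool.or_eq_true] at h
  rcases h with h | h | h | h | h | h | h | h | h
  · exact Or.inr ⟨2, 0, by norm_num, h⟩
  · exact Or.inr ⟨2, 1, by norm_num, h⟩
  · exact Or.inr ⟨2, 2, by norm_num, h⟩
  · exact Or.inr ⟨2, 3, by norm_num, h⟩
  · exact Or.inl h
  · exact Or.inr ⟨16, 0, by norm_num, h⟩
  · exact Or.inr ⟨16, 1, by norm_num, h⟩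
  · exact Or.inr ⟨16, 2, by norm_num, h⟩
  · exact Or.inr ⟨16, 3, by norm_num, h⟩

theorem scan_zero {s : Bool} {m k H w : ℕ} : scan s m k H 0 w = false := rfl

theorem scan_succ {s : Bool} {m k H fuel w : ℕ} :
    scan s m k H (fuel + 1) w = (crA s m k (w ^ H) H || (okk s m k (w ^ H) H && scan s m k H fuel (w + 1))) := rfl

theorem scan_spec {s : Bool} {m k H : ℕ} : ∀ {fuel w : ℕ}, scan s m k H fuel w = true → ∀ w', w ≤ w' →
    (∃ j, cr s m k (w' ^ H) H j = true) ∨ okk s m k (w' ^ H) H = true := by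
  intro fuel
  induction fuel with
  | zero => intro w h; rw [scan_zero] at h; exact absurd h (by simp)
  | succ n ih =>
    intro w h w' hw
    rw [scan_succ, Bool.or_eq_true, Bool.and_eq_true] at h
    rcases h with h | ⟨h1, h2⟩
    · left
      obtain ⟨j, hj⟩ := exists_cr h
      exact ⟨j, cr_mono (Nat.pow_le_pow_left hw H) hj⟩
    · rcases Nat.eq_or_lt_of_le hw with rfl | hw
      · exact Or.inr h1
      · exact ih h2 w' hw

theorem NE.of_exq (h : NE s e m k u q p H M N d a b c) (hd : d = Nat.gcd m (AA e 1 u)) (hs : q ^ 5 ≤ 48 * M) {θ j : ℕ}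
    (hθ : 1 ≤ θ) (hc : exq s e m k u H θ j = true) : False := by
  rw [exq, Bool.and_eq_true, ← hd] at hc
  exact semi5_false hθ h.q3 h.eqM hs (h.bd j hc.1) hc.2

theorem NE.of_exL (h : NE s e m k u q p H M N d a b c) (hs : q ^ 5 ≤ 48 * M) (hc : exL s e m k u H = true) : False := by
  rw [exL, decide_eq_true_eq] at hc
  exact absurd (h.bigL_le hs) (not_le.2 hc)

theorem HL_mem : ∀ H < 47, H % 2 = 1 → H % 3 ≠ 0 → H ∈ HL := by decide

theorem finm_lt {m : ℕ} (h5 : 5 ≤ m) (h : m < 200) : finm m = true := by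
  rcases Nat.lt_or_ge m 9 with h1 | h1
  · have : m = 5 ∨ m = 6 ∨ m = 7 ∨ m = 8 := by omega
    rcases this with rfl | rfl | rfl | rfl
    · exact finm_five
    · exact finm_six
    · exact finm_seven
    · exact finm_eight
  rcases Nat.lt_or_ge m 60 with h2 | h2
  · have h3 := List.all_eq_true.1 finm_b (m - 9) (List.mem_range.2 (by omega))
    simpa [Nat.sub_add_cancel h1] using h3
  · have h3 := List.all_eq_true.1 finm_c (m - 60) (List.mem_range.2 (by omega))
    simpa [Nat.sub_add_cancel h2] using h3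

/-- outside the exceptional cases -/
theorem NE.gen (h : NE s e m k u q p H M N d a b c) (hd : d = Nat.gcd m (AA e 1 u)) (hs : q ^ 5 ≤ 48 * M)
    (hH : 1 ≤ H) (h2 : H % 2 = 1) (h3 : ¬ 3 ∣ H) (hw : ∃ w, 2 ≤ w ∧ u = w ^ H)
    (hex : ¬ (s = false ∧ e = true ∧ u = 2 ∧ k + 2 = m)) (h6 : ¬ (m = 6 ∧ s = false ∧ k = 3)) :
    (m, s, k, e, u, H) ∈ bad5 := by
  obtain ⟨w, hw2, hw⟩ := hw
  have h2H : 2 ^ H ≤ u := by rw [hw]; exact Nat.pow_le_pow_left hw2 H
  have hk := h.k3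
  have hkm := h.km
  have hdm : d ≤ m := by rw [hd]; exact Nat.gcd_le_left _ (by omega)
  rcases Nat.lt_or_ge m 200 with hm | hm
  · have h1 := finm_lt (by omega) hm
    have h4 := List.all_eq_true.1 h1 k (List.mem_range.2 (by omega))
    have h5 : fink s m k = true := by
      simp only [Bool.or_eq_true, Bool.and_eq_true, decide_eq_true_eq] at h4
      have h6' := h4.resolve_left (by omega)
      cases s with
      | true =>
        refine h6'.1.resolve_left fun h7 => h.nk ?_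
        exact Nat.dvd_of_mod_eq_zero h7
      | false =>
        refine h6'.2.resolve_left fun h7 => ?_
        rcases h7 with h7 | h7
        · exact h.nk (Nat.dvd_of_mod_eq_zero h7)
        · exact h6 ⟨h7.1, rfl, h7.2⟩
    rw [fink, Bool.or_eq_true, Bool.and_eq_true] at h5
    rcases h5 with h5 | ⟨h5, h6'⟩
    · obtain ⟨j, hj⟩ := exists_str h5
      exact (h.of_cr hdm hs hH hex (str5_cr h.u2 h2H hj)).elim
    · have h7 : (∃ j, cr s m k u H j = true) ∨ okk s m k u H = true := by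
        rcases Nat.lt_or_ge H 47 with h8 | h8
        · have h9 := List.all_eq_true.1 h5 H (HL_mem H h8 h2 (fun h10 => h3 (Nat.dvd_of_mod_eq_zero h10)))
          rw [hw]
          exact scan_spec h9 w hw2
        · left
          obtain ⟨j, hj⟩ := exists_cr h6'
          have key : ∀ n, 47 ≤ n → cr s m k (2 ^ n) n j = true := by
            intro n hn
            induction n, hn using Nat.le_induction with
            | base => exact hj
            | succ n hn ih => exact cr_succ (by omega) (by omega) (by omega) ih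
          exact ⟨j, cr_mono h2H (key H h8)⟩
      rcases h7 with ⟨j, hj⟩ | h7
      · exact (h.of_cr hdm hs hH hex hj).elim
      · rw [okk, Bool.and_eq_true, Bool.or_eq_true, Bool.or_eq_true, Bool.or_eq_true, Bool.or_eq_true,
          Bool.and_eq_true, Bool.and_eq_true, Bool.and_eq_true, decide_eq_true_eq, decide_eq_true_eq,
          decide_eq_true_eq] at h7
        obtain ⟨ha, hb⟩ := h7
        cases e with
        | true =>
          rcases ha with (h8 | h8) | h8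
          · rcases exists_exq h8 with h9 | ⟨θ, j, hθ, h9⟩
            · exact (h.of_exL hs h9).elim
            · exact (h.of_exq hd hs hθ h9).elim
          · exact List.contains_iff_mem.1 h8
          · exact absurd ⟨by simpa using h8.1, rfl, h8.2.1, h8.2.2⟩ hex
        | false =>
          rcases hb with (h8 | h8) | h8
          · rcases exists_exq h8 with h9 | ⟨θ, j, hθ, h9⟩
            · exact (h.of_exL hs h9).elim
            · exact (h.of_exq hd hs hθ h9).elim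
          · exact List.contains_iff_mem.1 h8
          · exact absurd ⟨rfl, h8.1, h8.2⟩ h.ex1
  · obtain ⟨j, hj⟩ := str5_of_large hm h.k3 h.km h.nk
    exact (h.of_cr hdm hs hH hex (str5_cr h.u2 h2H hj)).elim

/-- the exceptional case -/
theorem NE.exn (h : NE s e m k u q p H M N d a b c) (hd : d = Nat.gcd m (AA e 1 u)) (hs : q ^ 5 ≤ 48 * M)
    (hH : 1 ≤ H) (hw : ∃ w, 2 ≤ w ∧ u = w ^ H)
    (hex : s = false ∧ e = true ∧ u = 2 ∧ k + 2 = m) : (m, s, k, e, u, H) ∈ bad5 ∨ T2 a b c := by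
  obtain ⟨rfl, rfl, rfl, hkm⟩ := hex
  have hk := h.k3
  have hH1 : H = 1 := by
    obtain ⟨w, hw2, hw⟩ := hw
    by_contra hne
    have h1 : w ^ 2 ≤ w ^ H := Nat.pow_le_pow_right (by omega) (by omega)
    nlinarith
  subst hH1
  rcases h.R1f' with h1 | h1
  · left
    rcases Nat.lt_or_ge m 10 with h8 | h8
    · have : (m = 5 ∧ k = 3) ∨ (m = 6 ∧ k = 4) ∨ (m = 7 ∧ k = 5) ∨ (m = 8 ∧ k = 6) ∨ (m = 9 ∧ k = 7) := by omega
      rcases this with ⟨rfl, rfl⟩ | ⟨rfl, rfl⟩ | ⟨rfl, rfl⟩ | ⟨rfl, rfl⟩ | ⟨rfl, rfl⟩ <;> decide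
    · exfalso
      have hA1 : AA true 1 2 = 1 := by decide
      rw [hA1, Nat.gcd_one_right] at hd
      subst hd
      have e1 : m - 1 - k = 1 := by omega
      obtain ⟨x, hx⟩ : ∃ x, x = 2 ^ k := ⟨_, rfl⟩
      have hx64 : 256 ≤ x := by
        rw [hx]
        calc 256 = 2 ^ 8 := by norm_num
          _ ≤ 2 ^ k := Nat.pow_le_pow_right (by norm_num) (by omega)
      have hZ : ZZ false true m 2 = 2 * x - 1 := by
        rw [ZZ, if_neg (by simp), AA_true, hx, show m - 1 = k + 1 by omega, pow_succ, mul_comm]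
      have hM := h.eqM
      rw [hZ] at hM
      rw [e1, hA1, AA_true, ← hx] at h1
      refine semi5_false (θ := 2) (ρ := 1) (μ := 1) (d := 1) (H := 1) (by norm_num) h.q3 hM hs h1 ?_
      rw [chk5, Bool.and_eq_true, decide_eq_true_eq, decide_eq_true_eq]
      obtain ⟨y, hy⟩ : ∃ y, y = x - 1 := ⟨_, rfl⟩
      have hZ' : 2 * x - 1 = 2 * y + 1 := by omega
      have hy63 : 255 ≤ y := by omega
      rw [← hy, hZ']
      have c1 : 255 * (2 * y + 1) ≤ 511 * y := by omega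
      have c2 : 255 ^ 3 ≤ y ^ 3 := Nat.pow_le_pow_left hy63 3
      have c3 : 255 ^ 4 ≤ y ^ 4 := Nat.pow_le_pow_left hy63 4
      have c4 : (255 * (2 * y + 1)) ^ 2 ≤ (511 * y) ^ 2 := Nat.pow_le_pow_left c1 2
      constructor
      · have e2 : ((2 - 1) * y) ^ 5 * 1 = y ^ 4 * y := by ring
        have e3 : (2 * (1 * 1)) ^ 5 * (203 * (1 * (2 * y + 1))) = 6496 * (2 * y + 1) := by ring
        rw [e2, e3]
        have c5 := Nat.mul_le_mul_right y c3
        norm_num at c5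
        omega
      · have e2 : y ^ 5 * 1 ^ 2 = y ^ 3 * y ^ 2 := by ring
        have e3 : (2 * (1 * 1)) ^ 5 * (203 ^ 2 * (1 * (2 * y + 1)) ^ 2) = 1318688 * (2 * y + 1) ^ 2 := by ring
        rw [e2, e3]
        have c5 := Nat.mul_le_mul_right (y ^ 2) c2
        have c6 : 0 < y ^ 2 := Nat.pow_pos (by omega)
        rw [mul_pow, mul_pow] at c4
        norm_num at c4 c5
        omega
  · exact Or.inr h1.1

/-- **The leftover.** -/
theorem NE.main5 (h : NE s e m k u q p H M N d a b c) (hd : d = Nat.gcd m (AA e 1 u)) (hs : q ^ 5 ≤ 48 * M)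
    (hH : 1 ≤ H) (h2 : H % 2 = 1) (h3 : ¬ 3 ∣ H) (hw : ∃ w, 2 ≤ w ∧ u = w ^ H)
    (h6 : ¬ (m = 6 ∧ s = false ∧ k = 3)) : (m, s, k, e, u, H) ∈ bad5 ∨ (T2 a b c ∧ u = 2) := by
  by_cases hex : s = false ∧ e = true ∧ u = 2 ∧ k + 2 = m
  · rcases h.exn hd hs hH hw hex with h1 | h1
    · exact Or.inl h1
    · exact Or.inr ⟨h1, hex.2.2.1⟩
  · exact Or.inl (h.gen hd hs hH h2 h3 hw hex h6)

end Cfsg.Agent.R2.Spec.NA5
end

private theorem dce_3dcf2c7ee587 : _root_.True := by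
  try have : _root_.True := by simp only [_root_.Cfsg.Agent.R2.Spec.NA5.str.eq_1]
  try have : _root_.True := by simp only [_root_.Cfsg.Agent.R2.Spec.NA5.exA.eq_1]
  try have : _root_.True := by simp only [_root_.Cfsg.Agent.R2.Spec.NA.ZZ.eq_1]
  try have : _root_.True := by simp only [_root_.Cfsg.Agent.R2.Spec.NA5.crA.eq_1]
  try have : _root_.True := by simp only [_root_.Cfsg.Agent.R2.Spec.NA5.okk.eq_1]
  try have : _root_.True := by simp only [_root_.Cfsg.Agent.R2.Spec.NA5.exL.eq_1]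
  try have : _root_.True := by simp only [_root_.Cfsg.Agent.R2.Spec.NA5.fink.eq_1]
  try have : _root_.True := by simp only [_root_.Cfsg.Agent.R2.Spec.NA5.exq.eq_1]
  exact _root_.True.intro
end

-- part: R2/Spec/X1/TD/Struct
section
prune_inst 0x4000000000800000000000000000002000000000000008000510004000a0610020000000040000c001020208000000008110000000200000000000000000000000003040240b50d08800000003003580c00000000000000000000000000041000000000000
set_option linter.all false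
open scoped Cfsg.Agent.FastGrp

-- part: R2/Spec/X1/TD/Num
section
set_option autoImplicit false

/-!
# Numerical facts on the element orders of `³D₄(q)` (helper135)
-/

namespace Cfsg.Agent.R2.Spec.X1.TD

/-! ### factorisations -/

theorem mm_eq (q : ℕ) : mm q + q ^ 2 = q ^ 4 + 1 := by
  unfold mm
  have : q ^ 2 ≤ q ^ 4 := by
    rcases Nat.eq_zero_or_pos q with rfl | h
    · simp
    · exact Nat.pow_le_pow_right h (by norm_num)
  omega

theorem mm_mul (q : ℕ) : mm q * (q ^ 2 + 1) = q ^ 6 + 1 := by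
  have h := mm_eq q
  have h1 : (mm q + q ^ 2) * (q ^ 2 + 1) = (q ^ 4 + 1) * (q ^ 2 + 1) := by rw [h]
  have h2 : (mm q + q ^ 2) * (q ^ 2 + 1) = mm q * (q ^ 2 + 1) + q ^ 2 * (q ^ 2 + 1) := by ring
  have h3 : (q ^ 4 + 1) * (q ^ 2 + 1) = (q ^ 6 + 1) + q ^ 2 * (q ^ 2 + 1) := by ring
  omega

theorem mm_odd (q : ℕ) : ¬ 2 ∣ mm q := by
  intro h
  have h1 := mm_eq q
  have h2 : 2 ∣ q ^ 4 + q ^ 2 := by
    have : q ^ 4 + q ^ 2 = q * (q + 1) * (q ^ 2 - q + 2) - 2 * q := by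
      rcases Nat.eq_zero_or_pos q with rfl | h
      · simp
      · obtain ⟨a, rfl⟩ : ∃ a, q = a + 1 := ⟨q - 1, by omega⟩
        have e1 : (a + 1) ^ 2 - (a + 1) = a * (a + 1) := by
          have : (a + 1) ^ 2 = a * (a + 1) + (a + 1) := by ring
          omega
        rw [e1]
        have e2 : (a + 1) * (a + 1 + 1) * (a * (a + 1) + 2) = (a + 1) ^ 4 + (a + 1) ^ 2 + 2 * (a + 1) := by ring
        (clear * - e2; omega)
    rw [this]
    refine Nat.dvd_sub ?_ (Dvd.intro _ rfl)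
    exact Dvd.dvd.mul_right (Nat.even_mul_succ_self q).two_dvd _
  omega

section

variable {p q : ℕ}

theorem sq_sub (hq : 1 ≤ q) : q ^ 2 - q + 1 + q = q ^ 2 + 1 := by
  have : q ≤ q ^ 2 := by nlinarith
  omega

theorem cube_sub (hq : 1 ≤ q) : q ^ 3 - 1 = (q ^ 2 + q + 1) * (q - 1) := by
  obtain ⟨a, rfl⟩ : ∃ a, q = a + 1 := ⟨q - 1, by omega⟩
  have : (a + 1) ^ 3 = ((a + 1) ^ 2 + (a + 1) + 1) * a + 1 := by ring
  rw [this]
  simp only [_root_.add_tsub_cancel_right]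

theorem cube_add (hq : 1 ≤ q) : q ^ 3 + 1 = (q ^ 2 - q + 1) * (q + 1) := by
  have h := sq_sub hq
  have h1 : (q ^ 2 - q + 1 + q) * (q + 1) = (q ^ 2 + 1) * (q + 1) := by rw [h]
  have h2 : (q ^ 2 - q + 1 + q) * (q + 1) = (q ^ 2 - q + 1) * (q + 1) + q * (q + 1) := by ring
  have h3 : (q ^ 2 + 1) * (q + 1) = q ^ 3 + 1 + q * (q + 1) := by ring
  omega

/-- a prime divisor of `mm q` is odd, and divides neither `q` nor `q ^ 3 - 1` nor `q ^ 3 + 1` -/
theorem prime_mm (hq : 1 ≤ q) {r : ℕ} (hr : r.Prime) (h : r ∣ mm q) :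
    r ≠ 2 ∧ ¬ r ∣ q ∧ ¬ r ∣ q ^ 3 - 1 ∧ ¬ r ∣ q ^ 3 + 1 := by
  have h2 : r ≠ 2 := by
    rintro rfl
    exact mm_odd q h
  have h6 : r ∣ q ^ 6 + 1 := by
    rw [← mm_mul]
    exact Dvd.dvd.mul_right h _
  have hno2 : ¬ r ∣ 2 := fun h => h2 ((Nat.prime_dvd_prime_iff_eq hr Nat.prime_two).1 h)
  refine ⟨h2, ?_, ?_, ?_⟩
  · intro hrq
    have h1 : r ∣ q ^ 6 := Dvd.dvd.pow hrq (by norm_num)
    have h3 := (Nat.dvd_add_right h1).1 h6
    exact hr.one_lt.ne' (Nat.dvd_one.1 h3)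
  · intro h3
    have h4 : r ∣ q ^ 6 - 1 := by
      have e : q ^ 6 - 1 = (q ^ 3 - 1) * (q ^ 3 + 1) := by
        obtain ⟨b, hb⟩ : ∃ b, q ^ 3 = b + 1 := ⟨q ^ 3 - 1, by have := Nat.one_le_pow 3 q hq; omega⟩
        have : q ^ 6 = (q ^ 3) ^ 2 := by ring
        rw [this, hb]
        have : (b + 1) ^ 2 = b * (b + 1 + 1) + 1 := by ring
        rw [this]
        simp only [_root_.add_tsub_cancel_right]
      rw [e]
      exact Dvd.dvd.mul_right h3 _
    have h5 := Nat.dvd_sub h6 h4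
    have h7 := Nat.one_le_pow 6 q hq
    have h8 : q ^ 6 + 1 - (q ^ 6 - 1) = 2 := by omega
    rw [h8] at h5
    exact hno2 h5
  · intro h3
    have h4 : r ∣ q ^ 6 - 1 := by
      have e : q ^ 6 - 1 = (q ^ 3 - 1) * (q ^ 3 + 1) := by
        obtain ⟨b, hb⟩ : ∃ b, q ^ 3 = b + 1 := ⟨q ^ 3 - 1, by have := Nat.one_le_pow 3 q hq; omega⟩
        have : q ^ 6 = (q ^ 3) ^ 2 := by ring
        rw [this, hb]
        have : (b + 1) ^ 2 = b * (b + 1 + 1) + 1 := by ring
        rw [this]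
        simp only [_root_.add_tsub_cancel_right]
      rw [e]
      exact Dvd.dvd.mul_left h3 _
    have h5 := Nat.dvd_sub h6 h4
    have h7 := Nat.one_le_pow 6 q hq
    have h8 : q ^ 6 + 1 - (q ^ 6 - 1) = 2 := by omega
    rw [h8] at h5
    exact hno2 h5

/-- **the prime divisors of `mm q` are isolated** -/
theorem Om.mm_of_prime (hP : Par p q) {n : ℕ} (h : Om p q n) {r : ℕ} (hr : r.Prime) (hrm : r ∣ mm q) (hrn : r ∣ n) :
    n ∣ mm q := by
  have hq : 1 ≤ q := by have := hP.hq; omega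
  obtain ⟨h2, h0, hm, hp⟩ := prime_mm hq hr hrm
  have hm1 : ¬ r ∣ q - 1 := fun h => hm (by rw [cube_sub hq]; exact Dvd.dvd.mul_left h _)
  have hp1 : ¬ r ∣ q + 1 := fun h => hp (by rw [cube_add hq]; exact Dvd.dvd.mul_left h _)
  have hpp := hP.p_dvd
  have hrp : ¬ r ∣ p := fun h => h0 (h.trans hpp)
  rcases h with h | h | h | h | h | h
  · exact h
  · exfalso
    rcases (hr.dvd_mul).1 (hrn.trans h) with h | h
    · exact hm h
    · exact hp1 h
  · exfalso
    rcases (hr.dvd_mul).1 (hrn.trans h) with h | h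
    · exact hp h
    · exact hm1 h
  · exfalso
    rcases (hr.dvd_mul).1 (hrn.trans h) with h | h
    · exact hrp h
    · exact hm h
  · exfalso
    rcases (hr.dvd_mul).1 (hrn.trans h) with h | h
    · exact hrp h
    · exact hp h
  · exact absurd (hr.dvd_of_dvd_pow (hrn.trans h)) hrp

/-- the product of a prime divisor of `mm q` and any prime not dividing `mm q` is not an element order -/
theorem not_om_mul (hP : Par p q) {r s : ℕ} (hr : r.Prime) (hrm : r ∣ mm q) (hs : ¬ s ∣ mm q) :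
    ¬ Om p q (r * s) := fun h => hs ((Dvd.intro_left _ rfl).trans (h.mm_of_prime hP hr hrm (Dvd.intro _ rfl)))

theorem mm_ne_one (hP : Par p q) : mm q ≠ 1 := by
  obtain ⟨a, rfl⟩ := hP.exists_add
  rw [mm_add]
  have : 0 < (a + 3) ^ 2 * ((a + 2) * (a + 4)) := by positivity
  omega

theorem exists_prime_mm (hP : Par p q) : ∃ r, r.Prime ∧ r ∣ mm q := Nat.exists_prime_and_dvd (mm_ne_one hP)

/-! ### primes of order three and six -/

theorem not_nine_dvd (q : ℕ) : ¬ 9 ∣ q ^ 2 + q + 1 := by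
  intro h
  have h1 : (q ^ 2 + q + 1) % 9 = 0 := Nat.mod_eq_zero_of_dvd h
  have h2 : q % 9 < 9 := Nat.mod_lt _ (by norm_num)
  rw [Nat.add_mod, Nat.add_mod (q ^ 2), Nat.pow_mod] at h1
  interval_cases (q % 9) <;> simp at h1

theorem exists_prime_ne_three {N : ℕ} (hN : 3 < N) (h9 : ¬ 9 ∣ N) : ∃ r, r.Prime ∧ r ≠ 3 ∧ r ∣ N := by
  by_contra hcon
  push Not at hcon
  have h1 : ∀ r, r.Prime → r ∣ N → r = 3 := fun r hr hd => by
    by_contra h
    exact hcon r hr h hd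
  have h2 := Nat.eq_prime_pow_of_unique_prime_dvd (n := N) (p := 3) (by omega) (fun {d} hd hdN => h1 d hd hdN)
  rcases Nat.lt_or_ge N.primeFactorsList.length 2 with h3 | h3
  · have h4 : N ≤ 3 ^ 1 := by
      rw [h2]
      exact Nat.pow_le_pow_right (by norm_num) (by omega)
    omega
  · apply h9
    rw [h2]
    exact (by norm_num : (9 : ℕ) = 3 ^ 2) ▸ pow_dvd_pow 3 h3

/-- primes of order 3 -/
theorem exists_r3 (hP : Par p q) : ∃ r, r.Prime ∧ 5 < r ∧ r ∣ q ^ 2 + q + 1 := by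
  have hq := hP.hq
  obtain ⟨r, hr, h3, hd⟩ := exists_prime_ne_three (N := q ^ 2 + q + 1) (by linarith only [hq, _root_.sq_nonneg (↑q : ℤ)]) (not_nine_dvd q)
  refine ⟨r, hr, ?_, hd⟩
  have h2 : r ≠ 2 := by
    rintro rfl
    have h1 : 2 ∣ q ^ 2 + q := by
      have : q ^ 2 + q = q * (q + 1) := by ring
      rw [this]
      exact (Nat.even_mul_succ_self q).two_dvd
    omega
  have h5 : r ≠ 5 := by
    rintro rfl
    have h1 : (q ^ 2 + q + 1) % 5 = 0 := Nat.mod_eq_zero_of_dvd hd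
    have h2 : q % 5 < 5 := Nat.mod_lt _ (by norm_num)
    rw [Nat.add_mod, Nat.add_mod (q ^ 2), Nat.pow_mod] at h1
    interval_cases (q % 5) <;> simp at h1
  have h4 : r ≠ 4 := by
    rintro rfl
    norm_num at hr
  have := hr.two_le
  omega

theorem sub_succ (hq : 1 ≤ q) : (q - 1) ^ 2 + (q - 1) + 1 = q ^ 2 - q + 1 := by
  obtain ⟨a, rfl⟩ : ∃ a, q = a + 1 := ⟨q - 1, by omega⟩
  have : (a + 1) ^ 2 = a ^ 2 + a + (a + 1) := by ring
  rw [this]
  simp only [_root_.add_tsub_cancel_right, _root_.Nat.add_left_cancel_iff]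

/-- primes of order 6 -/
theorem exists_r6 (hP : Par p q) : ∃ r, r.Prime ∧ 5 < r ∧ r ∣ q ^ 2 - q + 1 := by
  have hq := hP.hq
  have e := sub_succ (q := q) (by omega)
  have h7 : 3 < (q - 1) ^ 2 + (q - 1) + 1 := by
    obtain ⟨a, rfl⟩ := hP.exists_add
    have : a + 3 - 1 = a + 2 := by omega
    rw [this]
    nlinarith only []
  obtain ⟨r, hr, h3, hd⟩ := exists_prime_ne_three (N := (q - 1) ^ 2 + (q - 1) + 1) h7 (not_nine_dvd (q - 1))
  refine ⟨r, hr, ?_, e ▸ hd⟩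
  have h2 : r ≠ 2 := by
    rintro rfl
    have h1 : 2 ∣ (q - 1) ^ 2 + (q - 1) := by
      have : (q - 1) ^ 2 + (q - 1) = (q - 1) * ((q - 1) + 1) := by ring
      rw [this]
      exact (Nat.even_mul_succ_self (q - 1)).two_dvd
    omega
  have h5 : r ≠ 5 := by
    rintro rfl
    have h1 : ((q - 1) ^ 2 + (q - 1) + 1) % 5 = 0 := Nat.mod_eq_zero_of_dvd hd
    have h2 : (q - 1) % 5 < 5 := Nat.mod_lt _ (by norm_num)
    rw [Nat.add_mod, Nat.add_mod ((q - 1) ^ 2), Nat.pow_mod] at h1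
    interval_cases ((q - 1) % 5) <;> simp at h1
  have h4 : r ≠ 4 := by
    rintro rfl
    norm_num at hr
  have := hr.two_le
  omega

/-- primes of order 3 and 6 are not adjacent -/
theorem not_om_three_six (hP : Par p q) {r s : ℕ} (hr : r.Prime) (hr5 : 5 < r) (hrd : r ∣ q ^ 2 + q + 1) (hs : s.Prime)
    (hs5 : 5 < s) (hsd : s ∣ q ^ 2 - q + 1) : ¬ Om p q (r * s) := by
  have hq := hP.hq
  have hq1 : 1 ≤ q := by omega
  have hr3 : r ∣ q ^ 3 - 1 := by rw [cube_sub hq1]; exact Dvd.dvd.mul_right hrd _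
  have hs3 : s ∣ q ^ 3 + 1 := by rw [cube_add hq1]; exact Dvd.dvd.mul_right hsd _
  have hc : 1 ≤ q ^ 3 := Nat.one_le_pow _ _ hq1
  have small : ∀ {t : ℕ}, 5 < t → ∀ k, k ≠ 0 → k ≤ 5 → ¬ t ∣ k := by
    intro t ht k hk0 hk h
    have := Nat.le_of_dvd (by omega) h
    omega
  have hs3' : ¬ s ∣ q ^ 3 - 1 := by
    intro h
    have h1 := Nat.dvd_sub hs3 h
    have h2 : q ^ 3 + 1 - (q ^ 3 - 1) = 2 := by omega
    rw [h2] at h1
    exact small hs5 2 (by norm_num) (by norm_num) h1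
  have hr3' : ¬ r ∣ q ^ 3 + 1 := by
    intro h
    have h1 := Nat.dvd_sub h hr3
    have h2 : q ^ 3 + 1 - (q ^ 3 - 1) = 2 := by omega
    rw [h2] at h1
    exact small hr5 2 (by norm_num) (by norm_num) h1
  have hs1 : ¬ s ∣ q + 1 := by
    intro h
    have h2 := sq_sub hq1
    have h3 : q ^ 2 - q + 1 + 2 * (q + 1) = (q + 1) * q + 3 := by
      have : (q + 1) * q = q ^ 2 + q := by ring
      omega
    have h4 : s ∣ (q + 1) * q + 3 := by
      rw [← h3]
      exact Nat.dvd_add hsd (Dvd.dvd.mul_left h 2)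
    exact small hs5 3 (by norm_num) (by norm_num) ((Nat.dvd_add_right (Dvd.dvd.mul_right h _)).1 h4)
  have hr1 : ¬ r ∣ q - 1 := by
    intro h
    have h3 : q ^ 2 + q + 1 = (q - 1) * (q + 2) + 3 := by
      obtain ⟨a, rfl⟩ : ∃ a, q = a + 1 := ⟨q - 1, by omega⟩
      rw [Nat.add_sub_cancel]
      ring
    rw [h3] at hrd
    exact small hr5 3 (by norm_num) (by norm_num) ((Nat.dvd_add_right (Dvd.dvd.mul_right h _)).1 hrd)
  have hsm : ¬ s ∣ mm q := fun h => (prime_mm hq1 hs h).2.2.2 hs3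
  have hn : r ∣ r * s := Dvd.intro _ rfl
  have hn' : s ∣ r * s := Dvd.intro_left _ rfl
  have hpq := hP.p_dvd
  have hrp : ¬ r ∣ p := by
    intro h
    have h1 : r ∣ q ^ 2 + q := by
      have : q ^ 2 + q = q * (q + 1) := by ring
      rw [this]
      exact Dvd.dvd.mul_right (h.trans hpq) _
    exact hr.one_lt.ne' (Nat.dvd_one.1 ((Nat.dvd_add_right h1).1 hrd))
  have hsp : ¬ s ∣ p := by
    intro h
    have h2 := sq_sub hq1
    have h3 : s ∣ q ^ 2 + 1 := by
      rw [← h2]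
      exact Nat.dvd_add hsd (h.trans hpq)
    exact hs.one_lt.ne' (Nat.dvd_one.1 ((Nat.dvd_add_right (Dvd.dvd.pow (h.trans hpq) (by norm_num))).1 h3))
  rintro (h | h | h | h | h | h)
  · exact hsm (hn'.trans h)
  · rcases (hs.dvd_mul).1 (hn'.trans h) with h | h
    · exact hs3' h
    · exact hs1 h
  · rcases (hr.dvd_mul).1 (hn.trans h) with h | h
    · exact hr3' h
    · exact hr1 h
  · rcases (hs.dvd_mul).1 (hn'.trans h) with h | h
    · exact hsp h
    · exact hs3' h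
  · rcases (hr.dvd_mul).1 (hn.trans h) with h | h
    · exact hrp h
    · exact hr3' h
  · exact hrp (hr.dvd_of_dvd_pow (hn.trans h))

/-- prime divisors of `mm q` are at least 7 -/
theorem five_lt_of_mm (hP : Par p q) {r : ℕ} (hr : r.Prime) (h : r ∣ mm q) : 5 < r := by
  have hq := hP.hq
  obtain ⟨h2, h0, hm, hp⟩ := prime_mm (by omega) hr h
  have h3 : r ≠ 3 := by
    rintro rfl
    have h1 : q % 3 < 3 := Nat.mod_lt _ (by norm_num)
    have hc : 1 ≤ q ^ 3 := Nat.one_le_pow _ _ (by omega)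
    have e : q ^ 3 % 3 = q % 3 := by
      rw [Nat.pow_mod]
      interval_cases (q % 3) <;> rfl
    omega
  have h5 : r ≠ 5 := by
    rintro rfl
    have h1 : (q ^ 4 + 1) % 5 = q ^ 2 % 5 := by
      rw [← mm_eq, Nat.add_mod, Nat.mod_eq_zero_of_dvd h, zero_add, Nat.mod_mod]
    have h2 : q % 5 < 5 := Nat.mod_lt _ (by norm_num)
    rw [Nat.add_mod, Nat.pow_mod, Nat.pow_mod q 2] at h1
    interval_cases (q % 5) <;> simp at h1
  have h4 : r ≠ 4 := by
    rintro rfl
    norm_num at hr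
  have := hr.two_le
  omega

end

end Cfsg.Agent.R2.Spec.X1.TD
end

-- part: R2/Spec/X1/TD/Struct
section
set_option autoImplicit false

/-!
# The structure of a group with the element orders of `³D₄(q)` (helper135)

`exists_socle`: `G` has a soluble normal subgroup `N` such that `G / N` has a simple normal subgroup `S` with trivial
centralizer which contains an element of order `q ^ 4 - q ^ 2 + 1`.
-/

namespace Cfsg.Agent.R2.Spec.X1.TD

open Cfsg

/-- the hypotheses on the group `G` -/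
structure Hyp (p q : ℕ) (G : Type*) [Group G] : Prop where
  par : Par p q
  om : ∀ g : G, Om p q (orderOf g)
  two : ∃ g : G, orderOf g = 2
  mmo : ∃ g : G, orderOf g = mm q
  r3 : ∀ r : ℕ, r.Prime → r ∣ q ^ 2 + q + 1 → ∃ g : G, orderOf g = r
  r6 : ∀ r : ℕ, r.Prime → r ∣ q ^ 2 - q + 1 → ∃ g : G, orderOf g = r

section gen

variable {G : Type*} [Group G] [Finite G]

theorem exists_orderOf_dvd {g : G} {n : ℕ} (h : n ∣ orderOf g) : ∃ x : G, orderOf x = n := by
  obtain ⟨k, hk⟩ := h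
  have hpos := orderOf_pos g
  have hk0 : k ≠ 0 := by
    rintro rfl
    omega
  refine ⟨g ^ k, ?_⟩
  rw [orderOf_pow' g hk0, hk, Nat.gcd_mul_left_left, Nat.mul_div_cancel _ (Nat.pos_of_ne_zero hk0)]

omit [Finite G] in
theorem orderOf_mul_prime {x y : G} (h : x * y = y * x) {r s : ℕ} (hr : r.Prime) (hs : s.Prime) (hrs : r ≠ s)
    (hx : orderOf x = r) (hy : orderOf y = s) : orderOf (x * y) = r * s := by
  have hc : Commute x y := h
  rw [hc.orderOf_mul_eq_mul_orderOf_of_coprime, hx, hy]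
  rw [hx, hy]
  exact (Nat.coprime_primes hr hs).2 hrs

open scoped Pointwise in
theorem frob_map {G L : Type*} [Group G] [Group L] (φ : G ≃* L) (C : Subgroup G)
    (hC : Cfsg.IsFrobeniusComplement C) : Cfsg.IsFrobeniusComplement (C.map φ.toMonoidHom) := by
  obtain ⟨h1, h2, h3⟩ := hC
  have hinj : Function.Injective φ.toMonoidHom := φ.injective
  refine ⟨?_, ?_, ?_⟩
  · rw [Ne, Subgroup.map_eq_bot_iff_of_injective _ hinj]
    exact h1
  · intro h
    apply h2
    rw [← Subgroup.comap_map_eq_self_of_injective hinj C, h, Subgroup.comap_top]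
  · intro g hg
    rw [eq_bot_iff]
    rintro x ⟨hx1, hx2⟩
    obtain ⟨y, hy, rfl⟩ := hx1
    have hg' : φ.symm g ∉ C := by
      intro h
      apply hg
      exact ⟨_, h, by simp⟩
    have hx2' : (MulAut.conj g)⁻¹ • (φ.toMonoidHom y) ∈ C.map φ.toMonoidHom :=
      Subgroup.mem_pointwise_smul_iff_inv_smul_mem.1 hx2
    obtain ⟨z, hz, hz'⟩ := hx2'
    have h4 : φ z = g⁻¹ * φ y * g := by
      have h5 : φ.toMonoidHom z = (MulAut.conj g)⁻¹ • (φ.toMonoidHom y) := hz'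
      rw [MulAut.smul_def, MulAut.conj_inv_apply] at h5
      exact h5
    have h5 : z = (φ.symm g)⁻¹ * y * φ.symm g := by
      apply φ.injective
      rw [h4]
      simp only [_root_.map_mul, _root_.map_inv, _root_.MulEquiv.apply_symm_apply]
    have h6 : y ∈ C ⊓ (MulAut.conj (φ.symm g) • C) := by
      refine ⟨hy, ?_⟩
      change y ∈ MulAut.conj (φ.symm g) • C
      rw [Subgroup.mem_pointwise_smul_iff_inv_smul_mem, MulAut.smul_def, MulAut.conj_inv_apply, ← h5]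
      exact hz
    rw [h3 _ hg', Subgroup.mem_bot] at h6
    rw [Subgroup.mem_bot, h6, map_one]

/-- (after helper390) -/
theorem frob_type {G : Type*} [Group G] [Finite G] (C : Subgroup G) (hC : Cfsg.IsFrobeniusComplement C) :
    ∃ (L : Type) (_ : Group L) (_ : Finite L) (H : Subgroup L), Cfsg.IsFrobeniusComplement H ∧ Nonempty (C ≃* H) := by
  let φ : G ≃* Shrink.{0} G := (Shrink.mulEquiv : Shrink.{0} G ≃* G).symm
  refine ⟨Shrink.{0} G, inferInstance, Finite.of_equiv _ φ.toEquiv, C.map φ.toMonoidHom, frob_map φ C hC, ⟨?_⟩⟩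
  exact Subgroup.equivMapOfInjective C φ.toMonoidHom φ.injective

theorem card_sl25 : Nat.card (Matrix.SpecialLinearGroup (Fin 2) (ZMod 5)) = 120 := by
  rw [Nat.card_eq_fintype_card]
  decide +kernel

open scoped Pointwise in
/-- primes larger than 5 in `SL(2, 5) × M` -/
theorem dvd_of_prod {C : Type*} [Group C] [Finite C] {G₀ S M : Subgroup C} (hidx : G₀.index = 1 ∨ G₀.index = 2)
    (hSM : S ⊔ M = G₀) (hi : S ⊓ M = ⊥) (hcomm : ∀ s ∈ S, ∀ x ∈ M, s * x = x * s)
    (hS : Nat.card S = 120) {r : ℕ} (hr : r.Prime) (hr5 : 5 < r) (hrC : r ∣ Nat.card C) :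
    r ∣ Nat.card M := by
  have h1 : r ∣ Nat.card G₀ := by
    have h2 := G₀.card_mul_index
    rw [← h2] at hrC
    rcases hr.dvd_mul.1 hrC with h3 | h3
    · exact h3
    · exfalso
      rcases hidx with h4 | h4 <;> rw [h4] at h3
      · exact hr.one_lt.ne' (Nat.dvd_one.1 h3)
      · have := Nat.le_of_dvd (by norm_num) h3
        omega
  have hMn : S ≤ Subgroup.normalizer (M : Set C) := by
    intro s hs
    rw [Subgroup.mem_normalizer_iff]
    intro x
    constructor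
    · intro hx
      rw [hcomm s hs x hx, mul_assoc, mul_inv_cancel, mul_one]
      exact hx
    · intro hx
      have h4 := hcomm s⁻¹ (inv_mem hs) _ hx
      have h5 : s⁻¹ * (s * x * s⁻¹) = x * s⁻¹ := by group
      have h6 : x = s * x * s⁻¹ := by
        have h7 : x * s⁻¹ = s * x * s⁻¹ * s⁻¹ := by rw [← h5, h4]
        exact mul_right_cancel h7
      rw [h6]
      exact hx
  have h2 : Nat.card G₀ = Nat.card S * Nat.card M := by
    have h3 : ((S : Set C) * (M : Set C)) = (G₀ : Set C) := by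
      rw [← Subgroup.coe_mul_of_left_le_normalizer_right S M hMn, hSM]
    have h4 : Function.Injective (fun y : S × M => (y.1 : C) * (y.2 : C)) := by
      rintro ⟨s, x⟩ ⟨s', x'⟩ h
      replace h : (s : C) * x = s' * x' := h
      have h5 : (s' : C)⁻¹ * s = x' * (x : C)⁻¹ := by
        rw [inv_mul_eq_iff_eq_mul, ← mul_assoc, ← h, mul_inv_cancel_right]
      have h6 : (s' : C)⁻¹ * s ∈ S ⊓ M := ⟨S.mul_mem (S.inv_mem s'.2) s.2, by
        change (s' : C)⁻¹ * s ∈ M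
        rw [h5]
        exact M.mul_mem x'.2 (M.inv_mem x.2)⟩
      rw [hi, Subgroup.mem_bot] at h6
      rw [h6] at h5
      have h7 : s = s' := Subtype.ext (by rw [inv_mul_eq_one] at h6; exact h6.symm)
      have h8 : x = x' := Subtype.ext (by
        have := eq_mul_inv_iff_mul_eq.1 h5
        rw [one_mul] at this
        exact this)
      rw [h7, h8]
    have h5 : Set.range (fun y : S × M => (y.1 : C) * (y.2 : C)) = (G₀ : Set C) := by
      rw [← h3]
      ext z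
      constructor
      · rintro ⟨⟨s, x⟩, rfl⟩
        exact ⟨s, s.2, x, x.2, rfl⟩
      · rintro ⟨s, hs, x, hx, rfl⟩
        exact ⟨⟨⟨s, hs⟩, ⟨x, hx⟩⟩, rfl⟩
    rw [← Nat.card_prod, ← Nat.card_range_of_injective h4, h5]
    rfl
  rw [h2, hS] at h1
  rcases hr.dvd_mul.1 h1 with h3 | h3
  · exfalso
    have h4 : r ∣ 2 ^ 3 * (3 * 5) := h3
    rcases hr.dvd_mul.1 h4 with h4 | h4
    · have := Nat.le_of_dvd (by norm_num) (hr.dvd_of_dvd_pow h4)
      omega
    · rcases hr.dvd_mul.1 h4 with h4 | h4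
      · have := Nat.le_of_dvd (by norm_num) h4
        omega
      · have := Nat.le_of_dvd (by norm_num) h4
        omega
  · exact h3

end gen

namespace Hyp

variable {p q : ℕ} {G : Type*} [Group G] [Finite G] (h : Hyp p q G)

include h

omit [Finite G] in
theorem dvd_card {r : ℕ} (hd : r ∣ mm q) : r ∣ Nat.card G := by
  obtain ⟨g, hg⟩ := h.mmo
  exact hd.trans (hg ▸ orderOf_dvd_natCard g)

omit [Finite G] in
/-- three pairwise non-adjacent primes -/
theorem exists_coclique {s : ℕ} (hs : s.Prime) (hsm : s ∣ mm q) : ∃ r3 r6 : ℕ, r3.Prime ∧ r6.Prime ∧ 5 < r3 ∧ 5 < r6 ∧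
    ({r3, r6, s} : Finset ℕ).card = 3 ∧
    ((∀ r ∈ ({r3, r6, s} : Finset ℕ), r.Prime ∧ r ∣ Nat.card G) ∧
      (∀ r ∈ ({r3, r6, s} : Finset ℕ), ∀ t ∈ ({r3, r6, s} : Finset ℕ), r ≠ t → ¬ ∃ x : G, orderOf x = r * t)) := by
  have hP := h.par
  have hq := hP.hq
  obtain ⟨r3, hr3, hr35, hr3d⟩ := exists_r3 hP
  obtain ⟨r6, hr6, hr65, hr6d⟩ := exists_r6 hP
  have h3m : ¬ r3 ∣ mm q := fun h => (prime_mm (by omega) hr3 h).2.2.1 (by
    rw [cube_sub (by omega)]; exact Dvd.dvd.mul_right hr3d _)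
  have h6m : ¬ r6 ∣ mm q := fun h => (prime_mm (by omega) hr6 h).2.2.2 (by
    rw [cube_add (by omega)]; exact Dvd.dvd.mul_right hr6d _)
  have n36 : ¬ ∃ x : G, orderOf x = r3 * r6 := by
    rintro ⟨x, hx⟩
    exact not_om_three_six hP hr3 hr35 hr3d hr6 hr65 hr6d (hx ▸ h.om x)
  have n3s : ¬ ∃ x : G, orderOf x = r3 * s := by
    rintro ⟨x, hx⟩
    exact not_om_mul hP hs hsm h3m (by rw [mul_comm, ← hx]; exact h.om x)
  have n6s : ¬ ∃ x : G, orderOf x = r6 * s := by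
    rintro ⟨x, hx⟩
    exact not_om_mul hP hs hsm h6m (by rw [mul_comm, ← hx]; exact h.om x)
  have e36 : r3 ≠ r6 := by
    rintro rfl
    have h1 : r3 ∣ (q ^ 2 + q + 1) - (q ^ 2 - q + 1) := Nat.dvd_sub hr3d hr6d
    have h2 := sq_sub (q := q) (by omega)
    have h3 : (q ^ 2 + q + 1) - (q ^ 2 - q + 1) = 2 * q := by omega
    rw [h3, hr3.dvd_mul] at h1
    rcases h1 with h1 | h1
    · have := Nat.le_of_dvd (by norm_num) h1
      omega
    · have h4 : r3 ∣ q ^ 2 + q := by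
        have : q ^ 2 + q = q * (q + 1) := by ring
        rw [this]
        exact Dvd.dvd.mul_right h1 _
      have h5 := (Nat.dvd_add_right h4).1 hr3d
      exact hr3.one_lt.ne' (Nat.dvd_one.1 h5)
  have e3s : r3 ≠ s := by
    rintro rfl
    exact h3m hsm
  have e6s : r6 ≠ s := by
    rintro rfl
    exact h6m hsm
  have hcard : ∀ r : ℕ, (∃ g : G, orderOf g = r) → r ∣ Nat.card G := by
    rintro r ⟨g, rfl⟩
    exact orderOf_dvd_natCard g
  refine ⟨r3, r6, hr3, hr6, hr35, hr65, ?_, ?_, ?_⟩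
  · rw [Finset.card_eq_three]
    exact ⟨r3, r6, s, e36, e3s, e6s, rfl⟩
  · intro r hr
    simp only [Finset.mem_insert, Finset.mem_singleton] at hr
    rcases hr with rfl | rfl | rfl
    · exact ⟨hr3, hcard _ (h.r3 _ hr3 hr3d)⟩
    · exact ⟨hr6, hcard _ (h.r6 _ hr6 hr6d)⟩
    · exact ⟨hs, h.dvd_card hsm⟩
  · intro r hr t ht hrt
    simp only [Finset.mem_insert, Finset.mem_singleton] at hr ht
    rcases hr with rfl | rfl | rfl <;> rcases ht with rfl | rfl | rfl
    · exact absurd rfl hrt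
    · exact n36
    · exact n3s
    · rw [mul_comm]; exact n36
    · exact absurd rfl hrt
    · exact n6s
    · rw [mul_comm]; exact n3s
    · rw [mul_comm]; exact n6s
    · exact absurd rfl hrt

theorem not_solvable : ¬ Group.IsSolvable G := by
  obtain ⟨s, hs, hsm⟩ := exists_prime_mm h.par
  obtain ⟨r3, r6, -, -, -, -, h1, h2⟩ := h.exists_coclique hs hsm
  exact (Cfsg.Agent.S3633.result _ h1.ge h2 ⊥ inferInstance).2

omit [Finite G] in
theorem even : Even (Nat.card G) := by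
  obtain ⟨g, hg⟩ := h.two
  exact even_iff_two_dvd.2 (hg ▸ orderOf_dvd_natCard g)

omit [Finite G] in
/-- primes which can be reached from 2 -/
theorem not_dvd_of_path {r : ℕ} (hr : Relation.ReflTransGen (fun a b : ℕ => a.Prime ∧ b.Prime ∧ a ≠ b ∧
    a ∣ Nat.card G ∧ b ∣ Nat.card G ∧ ∃ g : G, orderOf g = a * b) 2 r) : ¬ r ∣ mm q := by
  induction hr with
  | refl => exact mm_odd q
  | tail _ hab ih =>
    obtain ⟨ha, hb, -, -, -, g, hg⟩ := hab
    intro hbm
    exact not_om_mul h.par hb hbm ih (by rw [mul_comm, ← hg]; exact h.om g)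

omit [Finite G] in
theorem disc : ∃ A : Set ℕ, (∃ a ∈ A, a.Prime ∧ a ∣ Nat.card G) ∧ (∃ b ∉ A, b.Prime ∧ b ∣ Nat.card G) ∧
      ∀ a ∈ A, ∀ b ∉ A, a.Prime → b.Prime → a ∣ Nat.card G → b ∣ Nat.card G → ¬ ∃ g : G, orderOf g = a * b := by
  obtain ⟨s, hs, hsm⟩ := exists_prime_mm h.par
  refine ⟨{a | a ∣ mm q}, ⟨s, hsm, hs, h.dvd_card hsm⟩, ⟨2, mm_odd q, Nat.prime_two, h.even.two_dvd⟩, ?_⟩
  rintro a ha b hb hap hbp - - ⟨g, hg⟩
  exact not_om_mul h.par hap ha hb (hg ▸ h.om g)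

/-! ### the group is not a Frobenius group -/

theorem not_frobenius {C : Subgroup G} (hC : IsFrobeniusComplement C) : False := by
  obtain ⟨N, hN, hNn, hNnil⟩ := Cfsg.Agent.S0042.result C hC
  obtain ⟨N', hN', -, hcomp⟩ := Cfsg.Agent.S0035.result C hC
  obtain rfl : N' = N := SetLike.coe_injective (hN'.trans hN.symm)
  have hNs : Group.IsSolvable ↥N' := inferInstance
  have hcardG : Nat.card N' * Nat.card C = Nat.card G := hcomp.card_mul_card
  -- the complement is not soluble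
  have hCs : ¬ Group.IsSolvable ↥C := by
    intro hCs
    apply h.not_solvable
    have h1 : Group.IsSolvable (G ⧸ N') := by
      have hsur : Function.Surjective ((QuotientGroup.mk' N').comp C.subtype) := by
        intro x
        obtain ⟨g, rfl⟩ := QuotientGroup.mk'_surjective N' x
        obtain ⟨⟨⟨n, hn⟩, ⟨c, hc⟩⟩, hnc⟩ := hcomp.2 g
        refine ⟨⟨c, hc⟩, ?_⟩
        replace hnc : n * c = g := hnc
        rw [← hnc, map_mul]
        have h2 : QuotientGroup.mk' N' n = 1 := (QuotientGroup.eq_one_iff n).2 hn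
        rw [h2, one_mul]
        rfl
      exact Group.isSolvable_of_surjective hsur
    exact Group.isSolvable_of_ker_le_range N'.subtype (QuotientGroup.mk' N') (by
      rw [QuotientGroup.ker_mk', Subgroup.range_subtype])
  -- its structure
  obtain ⟨G₀, -, hidx, S, M, hSM, hSMi, hcomm, ⟨eS⟩, hcyc, h30⟩ := Cfsg.Agent.S3359.result (G := ↥C) hCs
    (frob_type C hC)
  have hcardM : ∀ r : ℕ, r.Prime → 5 < r → r ∣ Nat.card C → r ∣ Nat.card M := fun r hr hr5 hrC =>
    dvd_of_prod hidx hSM hSMi hcomm (by rw [Nat.card_congr eS.toEquiv, card_sl25]) hr hr5 hrC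
  have hMs : Group.IsSolvable ↥M := by
    have : IsZGroup ↥M := ⟨fun p hp P => by
      have : Fact p.Prime := ⟨hp⟩
      exact hcyc p P⟩
    infer_instance
  obtain ⟨s, hs, hsm⟩ := exists_prime_mm h.par
  -- `s` does not divide the order of the complement
  have hsC : ¬ s ∣ Nat.card C := by
    intro hsC
    have hfs : Fact s.Prime := ⟨hs⟩
    have h2f : Fact (Nat.Prime 2) := ⟨Nat.prime_two⟩
    obtain ⟨x, hx⟩ := exists_prime_orderOf_dvd_card' (G := M) s (hcardM s hs (five_lt_of_mm h.par hs hsm) hsC)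
    obtain ⟨z, hz⟩ := exists_prime_orderOf_dvd_card' (G := S) 2 (by
      rw [Nat.card_congr eS.toEquiv, card_sl25]
      norm_num)
    have h1 : orderOf ((z : C) * (x : C)) = 2 * s := by
      refine orderOf_mul_prime (hcomm z z.2 x x.2) Nat.prime_two hs ?_ ?_ ?_
      · have := five_lt_of_mm h.par hs hsm
        omega
      · rw [Subgroup.orderOf_coe, hz]
      · rw [Subgroup.orderOf_coe, hx]
    have h2 := h.om (((z : C) * (x : C) : C) : G)
    rw [Subgroup.orderOf_coe, h1, mul_comm] at h2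
    exact not_om_mul h.par hs hsm (mm_odd q) h2
  have hsN : s ∣ Nat.card N' := by
    have h1 := h.dvd_card hsm
    rw [← hcardG] at h1
    exact (hs.dvd_mul.1 h1).resolve_right hsC
  obtain ⟨r3, r6, hr3, hr6, hr35, hr65, hcard, hcoc⟩ := h.exists_coclique hs hsm
  have hne3 : r3 ≠ s := by
    rintro rfl
    have := Finset.card_le_two (a := r3) (b := r6)
    rw [show ({r3, r6, r3} : Finset ℕ) = {r3, r6} by ext; simp; (clear * -; tauto)] at hcard
    omega
  have hne6 : r6 ≠ s := by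
    rintro rfl
    have := Finset.card_le_two (a := r3) (b := r6)
    rw [show ({r3, r6, r6} : Finset ℕ) = {r3, r6} by ext; simp] at hcard
    omega
  have hsol := (Cfsg.Agent.S3633.result _ hcard.ge hcoc N' hNs).1
  have hdvd : ∀ r : ℕ, r ∈ ({r3, r6, s} : Finset ℕ) → r ≠ s → 5 < r → r ∣ Nat.card M := by
    intro r hr hrs hr5
    obtain ⟨hrp, hrG⟩ := hcoc.1 r hr
    have h1 : ¬ r ∣ Nat.card N' := fun h2 => hrs (hsol r hr s (by simp) h2 hsN)
    rw [← hcardG] at hrG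
    exact hcardM r hrp hr5 ((hrp.dvd_mul.1 hrG).resolve_left h1)
  -- a soluble subgroup
  obtain ⟨M', hM'⟩ : ∃ M' : Subgroup G, M' = M.map C.subtype := ⟨_, rfl⟩
  have hcM' : Nat.card M' = Nat.card M := by
    rw [hM']
    exact Nat.card_congr (Subgroup.equivMapOfInjective M C.subtype C.subtype_injective).symm.toEquiv
  have hMM : Group.IsSolvable ↥M' := by
    rw [hM']
    exact Group.isSolvable_of_surjective (f := (Subgroup.equivMapOfInjective M C.subtype
      C.subtype_injective).toMonoidHom) (Subgroup.equivMapOfInjective M C.subtype C.subtype_injective).surjective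
  have hHs : Group.IsSolvable ↥(N' ⊔ M') := by
    let f : ↥(N' ⊔ M') →* G ⧸ N' := (QuotientGroup.mk' N').comp (N' ⊔ M').subtype
    have hfr : f.range = M'.map (QuotientGroup.mk' N') := by
      rw [MonoidHom.range_comp, Subgroup.range_subtype, Subgroup.map_sup, QuotientGroup.map_mk'_self, bot_sup_eq]
    have hs1 : Group.IsSolvable ↥f.range := by
      rw [hfr]
      exact Group.isSolvable_of_surjective (f := (QuotientGroup.mk' N').subgroupMap M')
        ((QuotientGroup.mk' N').subgroupMap_surjective M')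
    refine Group.isSolvable_of_ker_le_range (Subgroup.inclusion (le_sup_left : N' ≤ N' ⊔ M')) f.rangeRestrict ?_
    intro y hy
    have h1 : (y : G) ∈ N' := by
      have h2 := congrArg Subtype.val ((MonoidHom.mem_ker).1 hy)
      exact (QuotientGroup.eq_one_iff (y : G)).1 h2
    exact ⟨⟨y, h1⟩, rfl⟩
  refine (Cfsg.Agent.S3633.result (G := ↥(N' ⊔ M')) _ hcard.ge ⟨?_, ?_⟩ ⊥ inferInstance).2 hHs
  · intro r hr
    refine ⟨(hcoc.1 r hr).1, ?_⟩
    by_cases hrs : r = s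
    · rw [hrs]
      exact hsN.trans (Subgroup.card_dvd_of_le le_sup_left)
    · have h5 : 5 < r := by
        simp only [Finset.mem_insert, Finset.mem_singleton] at hr
        rcases hr with rfl | rfl | rfl
        · exact hr35
        · exact hr65
        · exact absurd rfl hrs
      exact (hcM' ▸ hdvd r hr hrs h5).trans (Subgroup.card_dvd_of_le le_sup_right)
  · rintro r hr t ht hrt ⟨x, hx⟩
    exact hcoc.2 r hr t ht hrt ⟨x, by rw [Subgroup.orderOf_coe, hx]⟩

/-! ### the socle -/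

/-- `N` is nilpotent, by Thompson's theorem. -/
theorem nilpotent {N : Subgroup G} [N.Normal] (hN : ∀ r : ℕ, r.Prime → r ∣ Nat.card N → ¬ r ∣ mm q) :
    Group.IsNilpotent ↥N := by
  rcases subsingleton_or_nontrivial ↥N with hsub | hnt
  · exact Group.isNilpotent_of_subsingleton
  obtain ⟨s, hs, hsm⟩ := exists_prime_mm h.par
  obtain ⟨g, hg⟩ := h.mmo
  obtain ⟨x, hx⟩ := exists_orderOf_dvd (g := g) (n := s) (by rw [hg]; exact hsm)
  have hφ : ∀ n : ↥N, (MulAut.conjNormal x : MulAut ↥N) n = n → n = 1 := by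
    intro n hn
    by_contra hn1
    have hn2 : x * (n : G) * x⁻¹ = n := congrArg Subtype.val hn
    obtain ⟨t, ht, htn⟩ := Nat.exists_prime_and_dvd (n := orderOf n) (fun h1 => hn1 (orderOf_eq_one_iff.1 h1))
    have htN := htn.trans (orderOf_dvd_natCard n)
    have htm := hN t ht htN
    obtain ⟨k, hk⟩ := htn
    have hpos := orderOf_pos n
    have hk0 : k ≠ 0 := by
      rintro rfl
      omega
    have h1 : orderOf ((n : G) ^ k) = t := by
      rw [← Subgroup.coe_pow, Subgroup.orderOf_coe, orderOf_pow' n hk0, hk, Nat.gcd_mul_left_left,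
        Nat.mul_div_cancel _ (Nat.pos_of_ne_zero hk0)]
    have h2 : Commute x ((n : G) ^ k) := by
      apply Commute.pow_right
      show x * (n : G) = n * x
      nth_rewrite 2 [← hn2]
      group
    have h3 := orderOf_mul_prime (h2 : x * (n : G) ^ k = (n : G) ^ k * x) hs ht (by
      rintro rfl
      exact htm hsm) hx h1
    exact not_om_mul h.par hs hsm htm (h3 ▸ h.om _)
  refine Cfsg.Agent.S0033.result (MulAut.conjNormal x : MulAut ↥N) hφ s hs ?_
  have hfs : Fact s.Prime := ⟨hs⟩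
  refine orderOf_eq_prime ?_ ?_
  · rw [← map_pow, ← hx, pow_orderOf_eq_one, map_one]
  · intro h1
    obtain ⟨n, hn⟩ := exists_ne (1 : ↥N)
    exact hn (hφ n (by rw [h1]; rfl))

/-- the good case -/
theorem socle_of {N M : Subgroup G} [N.Normal] [M.Normal] (hNM : N ≤ M)
    (hN : ∀ r : ℕ, r.Prime → r ∣ Nat.card N → ¬ r ∣ mm q) (hM : ∀ r : ℕ, r.Prime → r ∣ Nat.card (G ⧸ M) → ¬ r ∣ mm q)
    (hs : IsSimpleGroup (↥M ⧸ N.subgroupOf M)) (hnc : ¬ IsMulCommutative (↥M ⧸ N.subgroupOf M)) :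
    ∃ S : Subgroup (G ⧸ N), S.Normal ∧ IsSimpleGroup ↥S ∧ ¬ IsMulCommutative ↥S ∧
      Subgroup.centralizer (S : Set (G ⧸ N)) = ⊥ ∧ ∃ x : ↥S, orderOf x = mm q := by
  obtain ⟨S, hS⟩ : ∃ S : Subgroup (G ⧸ N), S = M.map (QuotientGroup.mk' N) := ⟨_, rfl⟩
  have hSn : S.Normal := by
    rw [hS]
    exact Subgroup.Normal.map inferInstance _ (QuotientGroup.mk'_surjective N)
  have hker : ((QuotientGroup.mk' N).subgroupMap M).ker = N.subgroupOf M := by
    ext x
    rw [MonoidHom.mem_ker, Subgroup.mem_subgroupOf, ← QuotientGroup.eq_one_iff]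
    exact Subtype.ext_iff
  let e₁ : (↥M ⧸ N.subgroupOf M) ≃* ↥(M.map (QuotientGroup.mk' N)) :=
    (QuotientGroup.quotientMulEquivOfEq hker.symm).trans (QuotientGroup.quotientKerEquivOfSurjective _
      ((QuotientGroup.mk' N).subgroupMap_surjective M))
  let e : (↥M ⧸ N.subgroupOf M) ≃* ↥S := e₁.trans (MulEquiv.subgroupCongr hS.symm)
  have hSs : IsSimpleGroup ↥S := MulEquiv.isSimpleGroup e.symm
  have hSc : ¬ IsMulCommutative ↥S := by
    intro hc
    apply hnc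
    refine ⟨⟨fun a b => e.injective ?_⟩⟩
    rw [map_mul, map_mul]
    exact hc.is_comm.comm _ _
  have hcomap : S.comap (QuotientGroup.mk' N) = M := by
    rw [hS, QuotientGroup.comap_map_mk', sup_eq_right.2 hNM]
  have hidx : S.index = Nat.card (G ⧸ M) := by
    rw [← Subgroup.index_comap_of_surjective S (QuotientGroup.mk'_surjective N), hcomap]
    rfl
  -- the element of order `mm q`
  have hcop : ∀ n : ℕ, (∀ r : ℕ, r.Prime → r ∣ n → ¬ r ∣ mm q) → Nat.Coprime (mm q) n := by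
    intro n hn
    by_contra hc
    obtain ⟨p, hp, h1, h2⟩ := Nat.Prime.not_coprime_iff_dvd.mp hc
    exact hn p hp h2 h1
  obtain ⟨g, hg⟩ := h.mmo
  obtain ⟨x, hx⟩ := Cfsg.Agent.H375.Reduce.exists_mem_orderOf N S g (by rw [hg]; exact hcop _ hN)
    (by rw [hg, hidx]; exact hcop _ hM)
  rw [hg] at hx
  refine ⟨S, hSn, hSs, hSc, ?_, x, hx⟩
  by_contra hC
  obtain ⟨C, hCC⟩ : ∃ C : Subgroup (G ⧸ N), C = Subgroup.centralizer (S : Set (G ⧸ N)) := ⟨_, rfl⟩
  rw [← hCC] at hC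
  have hinf : ∀ y ∈ C, y ∈ S → y = 1 := by
    intro y hyC hyS
    rw [hCC, Subgroup.mem_centralizer_iff] at hyC
    have h1 : (⟨y, hyS⟩ : ↥S) ∈ Subgroup.center ↥S := by
      rw [Subgroup.mem_center_iff]
      intro z
      exact Subtype.ext (hyC z z.2)
    rcases (Subgroup.Normal.eq_bot_or_eq_top (inferInstance : (Subgroup.center ↥S).Normal)) with h2 | h2
    · rw [h2, Subgroup.mem_bot] at h1
      exact congrArg Subtype.val h1
    · exfalso
      apply hSc
      refine ⟨⟨fun a b => ?_⟩⟩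
      have h3 : a ∈ Subgroup.center ↥S := h2 ▸ Subgroup.mem_top a
      exact (Subgroup.mem_center_iff.1 h3 b).symm
  have hdvd : Nat.card C ∣ S.index := by
    have h1 : Function.Injective ((QuotientGroup.mk' S).comp C.subtype) := by
      rw [injective_iff_map_eq_one]
      intro y hy
      exact Subtype.ext (hinf y y.2 ((QuotientGroup.eq_one_iff (y : G ⧸ N)).1 hy))
    exact Subgroup.card_dvd_of_injective _ h1
  obtain ⟨t, ht, htC⟩ := Nat.exists_prime_and_dvd (n := Nat.card C) (fun h1 => hC (Subgroup.card_eq_one.1 h1))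
  have hft : Fact t.Prime := ⟨ht⟩
  obtain ⟨y, hy⟩ := exists_prime_orderOf_dvd_card' (G := ↥C) t htC
  have htm := hM t ht (hidx ▸ htC.trans hdvd)
  obtain ⟨s, hs', hsm⟩ := exists_prime_mm h.par
  obtain ⟨x', hx'⟩ := exists_orderOf_dvd (g := x) (n := s) (by rw [hx]; exact hsm)
  have hyC : (y : G ⧸ N) ∈ Subgroup.centralizer (S : Set (G ⧸ N)) := hCC.le y.2
  rw [Subgroup.mem_centralizer_iff] at hyC
  have h1 := orderOf_mul_prime (hyC x' x'.2) hs' ht (by
    rintro rfl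
    exact htm hsm) (by rw [Subgroup.orderOf_coe, hx']) (by rw [Subgroup.orderOf_coe, hy])
  obtain ⟨z, hz⟩ := Cfsg.Agent.H375.Cover.exists_orderOf_of_surj (QuotientGroup.mk' N)
    (QuotientGroup.mk'_surjective N) ((x' : G ⧸ N) * (y : G ⧸ N))
  rw [h1] at hz
  exact not_om_mul h.par hs' hsm htm (hz ▸ h.om z)

/-- **The structure theorem.** -/
theorem exists_socle (hGK : (∃ C : Subgroup G, Cfsg.IsFrobeniusComplement C) ∨
    (∃ (H K : Subgroup G) (_ : H.Normal), K.Normal ∧ H < K ∧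
      (∃ C : Subgroup ↥K, Cfsg.IsFrobeniusComplement C ∧ Cfsg.frobeniusKernel C = (H.subgroupOf K : Set ↥K)) ∧
      (∃ C : Subgroup (G ⧸ H), Cfsg.IsFrobeniusComplement C ∧ Cfsg.frobeniusKernel C = (K.map (QuotientGroup.mk' H) : Set (G ⧸ H)))) ∨
    (∃ (N M : Subgroup G) (_ : N.Normal) (_ : M.Normal), N ≤ M ∧
      (∀ p : ℕ, p.Prime → p ∣ Nat.card ↥N → Relation.ReflTransGen (fun a b : ℕ => a.Prime ∧ b.Prime ∧ a ≠ b ∧ a ∣ Nat.card G ∧ b ∣ Nat.card G ∧ ∃ g : G, orderOf g = a * b) 2 p) ∧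
      (∀ p : ℕ, p.Prime → p ∣ Nat.card (G ⧸ M) → Relation.ReflTransGen (fun a b : ℕ => a.Prime ∧ b.Prime ∧ a ≠ b ∧ a ∣ Nat.card G ∧ b ∣ Nat.card G ∧ ∃ g : G, orderOf g = a * b) 2 p) ∧
      IsSimpleGroup (↥M ⧸ N.subgroupOf M) ∧ ¬ IsMulCommutative (↥M ⧸ N.subgroupOf M))) :
    ∃ (N : Subgroup G) (_ : N.Normal), Group.IsSolvable ↥N ∧
      ∃ S : Subgroup (G ⧸ N), S.Normal ∧ IsSimpleGroup ↥S ∧ ¬ IsMulCommutative ↥S ∧
        Subgroup.centralizer (S : Set (G ⧸ N)) = ⊥ ∧ ∃ x : ↥S, orderOf x = mm q := by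
  rcases hGK with ⟨C, hC⟩ | ⟨H, K, _, _, hlt, hK, hGH⟩ | ⟨N, M, _, _, hNM, hN, hM, hs, hnc⟩
  · exact (h.not_frobenius hC).elim
  · exact absurd (Cfsg.Agent.S4001.result H K hlt hK hGH).1 h.not_solvable
  · have hN' : ∀ r : ℕ, r.Prime → r ∣ Nat.card N → ¬ r ∣ mm q := fun r hr hd => h.not_dvd_of_path (hN r hr hd)
    have hM' : ∀ r : ℕ, r.Prime → r ∣ Nat.card (G ⧸ M) → ¬ r ∣ mm q := fun r hr hd => h.not_dvd_of_path (hM r hr hd)
    have hnil := h.nilpotent hN'
    exact ⟨N, inferInstance, inferInstance, h.socle_of hNM hN' hM' hs hnc⟩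

end Hyp

end Cfsg.Agent.R2.Spec.X1.TD
end
end

-- part: R2/Spec/X3/PairBig
section
prune_inst 0x4001024046c0000000018000022000020200000000040000130400400094e1042a041080140200d0210641c803800002002100000402000000a0030000006000000014402c2990f08880000003003180c00000000000000000000000000041000000000000
set_option linter.all false
open scoped Cfsg.Agent.FastGrp

-- part: R2/Spec/X3/PairIIc
section
/-!
# The pair lemma, type II: `2 N ∣ p (x² - 1)`, `p = |x|` (helper16, S3435, box X3)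
-/

set_option autoImplicit false

namespace Cfsg.Agent.R2.Spec.X3.PairII

section

variable {y s P d a : ℤ} (hy : 29 ≤ y) (hs : s = 1 ∨ s = -1) (hP : P = y ^ 2 + s * y + 1)
  (h4 : (s * y) % 4 = 3) (ha : 1 ≤ a) (hao : a % 2 = 1)

include hy hs in
/-- `2 j = y - 3 s` -/
theorem no_j {j N : ℤ} (hj : 2 * j = y - 3 * s) (h : N * (2 * j) = y * (y ^ 2 - 1)) : False := by
  rw [hj] at h
  have h1 : (y - 3 * s) ∣ 24 := by
    rcases hs with rfl | rfl
    · have h2 : (y - 3 * 1) * N = (y - 3 * 1) * (y ^ 2 + 3 * y + 8) + 24 := by linarith only [h]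
      exact ⟨N - (y ^ 2 + 3 * y + 8), by linarith⟩
    · have h2 : (y - 3 * -1) * N = (y - 3 * -1) * (y ^ 2 - 3 * y + 8) - 24 := by linarith
      exact ⟨-(N - (y ^ 2 - 3 * y + 8)), by linarith⟩
  have h2 := Int.le_of_dvd (by norm_num) h1
  rcases hs with rfl | rfl <;> omega

include hy hs hP h4 ha hao in
/-- **`2 N ∣ p (x² - 1)`, `p = |x|`** -/
theorem pD {i j N : ℤ} (hd : d = 1 ∨ (d = 3 ∧ (s * y) % 12 = 7)) (hlist : y ∉ ([55, 91, 65, 689] : List ℤ))
    (hai : 2 * (a * i) = d * (y - s)) (hj : 1 ≤ j)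
    (h : N * (2 * j) = y * (y ^ 2 - 1))
    (hK : (a * P - d * N) ^ 2 ≤ 5 * d * (a * P)) :
    (d * N = a * (y ^ 2 + s * y)) ∨ (a = 1 ∧ d * N = y ^ 2 - s * y) ∨ (a = d ∧ N = y ^ 2 - s * y) := by
  obtain ⟨hP1, hP2, hP3⟩ := P_ge hy hs hP
  have hyo : y % 2 = 1 := by rcases hs with rfl | rfl <;> (clear * - h4; omega)
  have hs2 : s ^ 2 = 1 := by rcases hs with rfl | rfl <;> norm_num
  have hd0 : 0 < d := by rcases hd with rfl | ⟨rfl, -⟩ <;> norm_num
  have hys : 28 ≤ y - s := by rcases hs with rfl | rfl <;> (clear * - hy; omega)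
  have hys' : y - s ≤ y + 1 := by rcases hs with rfl | rfl <;> omega
  obtain ⟨z, hz⟩ : ∃ z, z = 2 * (a * j) - d * (y - s) := ⟨_, rfl⟩
  have hzj : 2 * (a * j) = d * (y - s) + z := by rw [hz]; ring
  have e : y * (y ^ 2 - 1) = (y - s) * P + s - y := by rw [hP]; rcases hs with rfl | rfl <;> ring
  have e' : y * (y ^ 2 - 1) = y * ((y - s) * (y + s)) := by rcases hs with rfl | rfl <;> ring
  have h1 : 2 * j * (a * P - d * N) = z * P + d * (y - s) := by
    have h' := h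
    rw [e] at h'
    linear_combination P * hzj - d * h'
  have hpos : 0 < d * (y - s) + z := by rw [← hzj]; positivity
  have h2 : a * (z * P + d * (y - s)) ^ 2 ≤ 5 * d * ((d * (y - s) + z) ^ 2 * P) := by
    have h3 := mul_le_mul_of_nonneg_left hK (by positivity : 0 ≤ a * (4 * j ^ 2))
    have e1 : a * (4 * j ^ 2) * (a * P - d * N) ^ 2 = a * (2 * j * (a * P - d * N)) ^ 2 := by ring
    have e2 : a * (4 * j ^ 2) * (5 * d * (a * P)) = 5 * d * ((2 * (a * j)) ^ 2 * P) := by ring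
    rwa [e1, e2, h1, hzj] at h3
  have hak : 2 * (a * (j - i)) = z := by linarith only [hai, hz]
  obtain ⟨Y, hY0, hPY, hY⟩ := facts hy hs hP
  have hsq : 0 ≤ (z * P + d * (y - s)) ^ 2 := sq_nonneg _
  by_cases hz0 : z = 0
  · left
    rw [hz0, add_zero] at hzj
    have h3 : (y - s) * (d * N) = (y - s) * (a * (y ^ 2 + s * y)) := by
      have h5 : d * (y - s) * N = a * (y * ((y - s) * (y + s))) := by
        rw [← hzj, ← e']; linear_combination a * h
      linarith only [h5]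
    exact mul_left_cancel₀ (by omega) h3
  right
  have hz1 : 1 ≤ |z| := Int.one_le_abs hz0
  have hr : |d * (y - s)| ≤ 3 * (y + 1) := by
    rw [abs_mul, abs_of_pos hd0, abs_of_pos (by omega : 0 < y - s)]
    rcases hd with rfl | ⟨rfl, -⟩ <;> (clear * - hys hys'; omega)
  have hrz : 3 * (y + 1) ≤ |z| * P := by
    have : P ≤ |z| * P := le_mul_of_one_le_left (by omega) hz1
    linarith only [hP1, hP2, this]
  have hYy : 0 ≤ Y * y := mul_nonneg hY0 (by omega)
  rcases hd with rfl | ⟨rfl, h12⟩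
  · -- `d = 1`
    have h3 : (z * P + 1 * (y - s)) ^ 2 ≤ 5 * ((1 * (y - s) + z) ^ 2 * P) :=
      (le_mul_of_one_le_left hsq ha).trans (h2.trans (le_of_eq (by ring)))
    have h5 := abs_form hr (by omega : 0 ≤ P) (by (clear * - hys; omega) : 0 ≤ 1 * (y - s)) hpos.le h3 (by norm_num) hrz
    have h6 := sqrt5 (by (clear * - hys hz1; omega)) hY0 hPY h5
    have hz4 : |z| < 4 := by
      by_contra hcon
      push Not at hcon
      have hYs : Y * (y - s) ≤ Y * (y + 1) := mul_le_mul_of_nonneg_left hys' hY0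
      have h7 : |z| * (1000 * P - 2237 * Y) ≤ 3000 * (y + 1) + 2237 * (Y * (y + 1)) := by linarith only [h6, hYs]
      have h8 : 3000 * (y + 1) + 2237 * (Y * (y + 1)) < 4 * (1000 * P - 2237 * Y) := by
        rcases hY with ⟨rfl, rfl⟩ | ⟨rfl, rfl⟩ <;> rw [hP] <;>
          nlinarith only [hy, mul_nonneg (sub_nonneg.2 hy) (sub_nonneg.2 hy)]
      have h9 : 0 ≤ Y * (y + 1) := mul_nonneg hY0 (by omega)
      have h10 : 4 * (1000 * P - 2237 * Y) ≤ |z| * (1000 * P - 2237 * Y) :=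
        mul_le_mul_of_nonneg_right hcon (by linarith only [hy, hP1, hYy, h8])
      linarith only [h6, hYs, h8, h10]
    have hzl := abs_lt.1 hz4
    have hz2 : z = 2 * s ∨ z = -2 * s := by rcases hs with rfl | rfl <;> (clear * - hz0 hzl h4 hz; omega)
    have ha1 : a = 1 := by
      have h7 : a ∣ 1 := by
        rcases hz2 with h8 | h8
        · have h9 : a * (j - i) = s := by linarith only [hak, h8]
          exact ⟨(j - i) * s, by rw [← mul_assoc, h9, ← sq, hs2]⟩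
        · have h9 : a * (j - i) = -s := by linarith only [hak, h8]
          exact ⟨-((j - i) * s), by
            have : a * -((j - i) * s) = -((a * (j - i)) * s) := by ring
            rw [this, h9]; linarith only [hs2]⟩
      exact Int.eq_one_of_dvd_one (by omega) h7
    subst ha1
    rw [one_mul, one_mul] at hzj
    rcases hz2 with h8 | h8
    · left
      refine ⟨rfl, ?_⟩
      have h9 : 2 * j = y + s := by rw [hzj, h8]; ring
      have h10 : (y + s) * (1 * N) = (y + s) * (y ^ 2 - s * y) := by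
        have : (y + s) * (1 * N) = N * (2 * j) := by rw [h9]; ring
        rw [this, h, e']; ring
      exact mul_left_cancel₀ (by rcases hs with rfl | rfl <;> (clear * - hy; omega)) h10
    · exfalso
      exact no_j hy hs (by rw [hzj, h8]; ring) h
  · -- `d = 3`
    have h3 : (z * P + 3 * (y - s)) ^ 2 ≤ 15 * ((3 * (y - s) + z) ^ 2 * P) :=
      (le_mul_of_one_le_left hsq ha).trans (h2.trans (le_of_eq (by ring)))
    have h5 := abs_form hr (by omega : 0 ≤ P) (by (clear * - hys; omega) : 0 ≤ 3 * (y - s)) hpos.le h3 (by norm_num) hrz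
    have h6 := sqrt15 (by (clear * - hys hz1; omega)) hY0 hPY h5
    have hYs : Y * (y - s) ≤ Y * (y + 1) := mul_le_mul_of_nonneg_left hys' hY0
    have h9 : 0 ≤ Y * (y + 1) := mul_nonneg hY0 (by omega)
    have hz16 : |z| < 16 := by
      by_contra hcon
      push Not at hcon
      rcases hY with ⟨rfl, rfl⟩ | ⟨rfl, rfl⟩
      · have h7 : |z| * (1000 * P - 3873 * (y + 1)) ≤ 3000 * (y + 1) + 11619 * ((y + 1) * (y - 1)) := by linarith only [h6]
        have h8 : 3000 * (y + 1) + 11619 * ((y + 1) * (y - 1)) < 16 * (1000 * P - 3873 * (y + 1)) := by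
          rw [hP]
          linarith only [hy, _root_.mul_self_nonneg (y - 29 : ℤ)]
        have h10 : 16 * (1000 * P - 3873 * (y + 1)) ≤ |z| * (1000 * P - 3873 * (y + 1)) :=
          mul_le_mul_of_nonneg_right hcon (by nlinarith only [h8, hy])
        linarith only [hP1, hP2, hP, h6, h10]
      · have h7 : |z| * (1000 * P - 3873 * Y) ≤ 3000 * (Y + 1) + 11619 * (Y * (Y + 1)) := by linarith only [h6]
        have h8 : 3000 * (Y + 1) + 11619 * (Y * (Y + 1)) < 16 * (1000 * P - 3873 * Y) := by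
          rw [hP]
          linarith only [hy, _root_.mul_self_nonneg (Y - 29 : ℤ)]
        have h10 : 16 * (1000 * P - 3873 * Y) ≤ |z| * (1000 * P - 3873 * Y) :=
          mul_le_mul_of_nonneg_right hcon (by nlinarith only [h8, hy])
        linarith only [hP1, hP2, hP3, h6, h10]
    have hzl := abs_lt.1 hz16
    rcases (by omega : a = 1 ∨ 3 ≤ a) with ha1 | ha3
    · subst ha1
      rw [one_mul] at hzj hak
      have h7 : (3 * (y - s) + z) ∣ (3 * s - z) * (z * (6 * s - z)) := by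
        have h8 : (3 * (y - s) + z) * (27 * N) = 27 * (y * (y ^ 2 - 1)) := by rw [← h, ← hzj]; ring
        have h10 : 27 * (y * (y ^ 2 - 1)) = (3 * (y - s) + z) * (9 * y ^ 2 + 3 * y * (3 * s - z) + (3 * s - z) ^ 2 - 9) -
            (3 * s - z) * (z * (6 * s - z)) := by
          have h11 : (3 * s - z) ^ 2 - 9 = -(z * (6 * s - z)) := by linear_combination 9 * hs2
          linear_combination (3 * s - z) * h11
        exact ⟨9 * y ^ 2 + 3 * y * (3 * s - z) + (3 * s - z) ^ 2 - 9 - 27 * N, by linarith only [h8, h10]⟩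
      by_cases hz6 : z = 6 * s
      · left
        refine ⟨rfl, ?_⟩
        have h9 : 2 * j = 3 * (y + s) := by rw [hzj, hz6]; ring
        have h10 : (y + s) * (3 * N) = (y + s) * (y ^ 2 - s * y) := by
          have : (y + s) * (3 * N) = N * (2 * j) := by rw [h9]; ring
          rw [this, h, e']; ring
        exact mul_left_cancel₀ (by rcases hs with rfl | rfl <;> (clear * - h12; omega)) h10
      · exfalso
        have hz14 : -14 ≤ z ∧ z ≤ 14 := by (clear * - hzl hak; omega)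
        have hne : (3 * s - z) * (z * (6 * s - z)) ≠ 0 := by
          refine mul_ne_zero ?_ (mul_ne_zero hz0 (by (clear * - hz6; omega)))
          rcases hs with rfl | rfl <;> (clear * - hak; omega)
        have h8 := Int.le_of_dvd (abs_pos.2 hne) ((dvd_abs _ _).2 h7)
        have h10 : |(3 * s - z) * (z * (6 * s - z))| ≤ 17 * (14 * 20) := by
          rw [abs_mul, abs_mul]
          refine mul_le_mul ?_ (mul_le_mul ?_ ?_ (abs_nonneg _) (by norm_num)) (by (clear * - hz0 hz6; positivity)) (by norm_num)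
          · rw [abs_le]; rcases hs with rfl | rfl <;> constructor <;> (clear * - hzl hak; omega)
          · rw [abs_le]; constructor <;> (clear * - hzl hak; omega)
          · rw [abs_le]; rcases hs with rfl | rfl <;> constructor <;> (clear * - hzl hak; omega)
        have hy1600 : y < 1600 := by rcases hs with rfl | rfl <;> (clear * - hzl h8 h10; omega)
        obtain ⟨Z, hZ⟩ : ∃ Z : ℕ, z = 2 * (Z : ℤ) - 14 := ⟨((z + 14) / 2).toNat, by (clear * - hzl hak; omega)⟩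
        obtain ⟨U, rfl⟩ : ∃ U : ℕ, y = U := ⟨y.toNat, by (clear * - hy; omega)⟩
        have hchk : ChkD s := by
          rcases hs with rfl | rfl
          · exact chkD1
          · exact chkD2
        have h11 := hchk U (by omega) (by omega) h12 Z (by omega)
        rw [← hZ] at h11
        have hW : ((U : ℤ) * ((U : ℤ) ^ 2 - 1)) = (3 * (U - s) + z) * N := by rw [← h, ← hzj]; ring
        unfold InD at h11
        rw [hW, Int.mul_emod_right, Int.mul_ediv_cancel_left _ hpos.ne', ← hP] at h11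
        have hK' : (P - 3 * N) ^ 2 ≤ 15 * P := by
          have := hK
          rw [one_mul] at this
          linarith only [hK]
        rcases h11 rfl hK' with h13 | h13 | h13
        · exact hz0 h13
        · exact hz6 h13
        · exact hlist h13
    · -- `a ≥ 3`
      have h3' : (z * P + 3 * (y - s)) ^ 2 ≤ 5 * ((3 * (y - s) + z) ^ 2 * P) := by
        have := mul_le_mul_of_nonneg_right ha3 hsq
        linarith only [h2, this]
      have h5' := abs_form hr (by omega : 0 ≤ P) (by (clear * - hys; omega) : 0 ≤ 3 * (y - s)) hpos.le h3' (by norm_num) hrz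
      have h6' := sqrt5 (by (clear * - hys hz1; omega)) hY0 hPY h5'
      have hz10 : |z| < 10 := by
        by_contra hcon
        push Not at hcon
        have h7 : |z| * (1000 * P - 2237 * Y) ≤ 3000 * (y + 1) + 6711 * (Y * (y + 1)) := by linarith only [hYs, h6']
        have h8 : 3000 * (y + 1) + 6711 * (Y * (y + 1)) < 10 * (1000 * P - 2237 * Y) := by
          rcases hY with ⟨rfl, rfl⟩ | ⟨rfl, rfl⟩ <;> rw [hP] <;>
            nlinarith only [hy, mul_nonneg (sub_nonneg.2 hy) (sub_nonneg.2 hy)]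
        have h10 : 10 * (1000 * P - 2237 * Y) ≤ |z| * (1000 * P - 2237 * Y) :=
          mul_le_mul_of_nonneg_right hcon (by linarith only [hy, hP1, hYy, h8])
        linarith only [hYs, h6', h8, h10]
      have hk0 : j - i ≠ 0 := by
        intro h0
        rw [h0, mul_zero, mul_zero] at hak
        exact hz0 hak.symm
      have hk1 : 1 ≤ |j - i| := Int.one_le_abs hk0
      have hak2 : a * |j - i| ≤ 4 := by
        have h7 : |2 * (a * (j - i))| = 2 * (a * |j - i|) := by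
          rw [abs_mul, abs_mul, abs_of_pos (by omega : 0 < a)]; norm_num
        rw [hak] at h7
        omega
      have ha5 : a ≤ 4 := by nlinarith only [hk1, hak2]
      have ha3' : a = 3 := by omega
      subst ha3'
      have hk2 : j - i = 1 ∨ j - i = -1 := by
        have h7 : |j - i| ≤ 1 := by omega
        have := abs_le.1 h7
        (clear * - hk0 this; omega)
      have hz6 : z = 6 * s ∨ z = -6 * s := by
        rcases hs with rfl | rfl <;> rcases hk2 with h7 | h7 <;> rw [h7] at hak <;> (clear * - hak; omega)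
      rcases hz6 with h7 | h7
      · right
        refine ⟨rfl, ?_⟩
        have h9 : 2 * j = y + s := by (clear * - hak hai h7; omega)
        have h10 : (y + s) * N = (y + s) * (y ^ 2 - s * y) := by
          have : (y + s) * N = N * (2 * j) := by rw [h9]; ring
          rw [this, h, e']; ring
        exact mul_left_cancel₀ (by rcases hs with rfl | rfl <;> (clear * - h12; omega)) h10
      · exfalso
        exact no_j hy hs (by (clear * - hak hai h7; omega)) h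

end

end Cfsg.Agent.R2.Spec.X3.PairII
end

-- part: R2/Spec/X3/PairBig
section
/-!
# The pair lemma, type II, `|x| ≥ 29` (helper16, S3435, box X3)
-/

set_option autoImplicit false

namespace Cfsg.Agent.R2.Spec.X3.PairII

section

variable {s y d i : ℤ} {p a T N : ℕ} (hbig : 29 ≤ y) (hs : s = 1 ∨ s = -1)
  (hd : d = 1 ∨ (d = 3 ∧ (s * y) % 12 = 7)) (h4 : (s * y) % 4 = 3) (haZ : (1 : ℤ) ≤ a) (hao : (a : ℤ) % 2 = 1)
  (hai : 2 * ((a : ℤ) * i) = d * (y - s)) (hNZ : (0 : ℤ) < N) (hdT : d * (T : ℤ) = a * (y ^ 2 + s * y + 1))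
  (hK : ((a : ℤ) * (y ^ 2 + s * y + 1) - d * N) ^ 2 ≤ 5 * d * (a * (y ^ 2 + s * y + 1)))

include hNZ in
theorem jpos {j c : ℤ} (hc : 0 < c) (hj : (N : ℤ) * j = c) : 1 ≤ j := by
  rw [← hj] at hc
  exact Int.add_one_le_iff.2 ((mul_pos_iff_of_pos_left hNZ).1 hc)

include hbig hs hd h4 haZ hao hai hNZ hdT hK in
theorem caseB (k : 2 * (N : ℤ) ∣ (y ^ 2 + 1) * (y + s)) : OutS s y p d a T N := by
  obtain ⟨j, hj⟩ := k
  have e : (N : ℤ) * (2 * j) = (y ^ 2 + 1) * (y + s) := by rw [hj]; ring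
  have hys1 : 0 < y + s := by rcases hs with rfl | rfl <;> linarith only [hbig]
  have hj2 : 1 ≤ 2 * j := jpos hNZ (mul_pos (by positivity) hys1) e
  have hj1 : 1 ≤ j := by clear * - hj2; omega
  have h5 := pB hbig hs rfl h4 haZ hao hd hai hj1 e hK
  clear hK e hj hj1 hj2 hai
  rcases h5 with g | ⟨g1, g2, g3⟩
  · exact Or.inr (Or.inr (Or.inl g))
  · right; right; right; right; right; right
    rw [g1, g2, one_mul] at hdT
    rw [← hdT] at g3
    clear hdT hd h4 haZ hao hNZ hbig hs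
    simp only [List.mem_cons, Prod.mk.injEq, List.not_mem_nil, or_false] at g3
    rcases g3 with ⟨g4, g5, g6⟩ | ⟨g4, g5, g6⟩ | ⟨g4, g5, g6⟩ | ⟨g4, g5, g6⟩ | ⟨g4, g5, g6⟩
    · have g7 : (T : ℤ) = 331 := by clear * - g5; omega
      rw [g4, g7, g6]; decide
    · have g7 : (T : ℤ) = 31519 := by clear * - g5; omega
      rw [g4, g7, g6]; decide
    · have g7 : (T : ℤ) = 39331 := by clear * - g5; omega
      rw [g4, g7, g6]; decide
    · have g7 : (T : ℤ) = 547 := by clear * - g5; omega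
      rw [g4, g7, g6]; decide
    · have g7 : (T : ℤ) = 2611 := by clear * - g5; omega
      rw [g4, g7, g6]; decide

include hbig hs hd haZ hao hNZ hK in
theorem caseC (k : (N : ℤ) ∣ y ^ 2 - 1) : OutS s y p d a T N := by
  obtain ⟨j, hj⟩ := k
  have hyy : 29 * y ≤ y ^ 2 := by rw [sq]; exact mul_le_mul_of_nonneg_right hbig (by linarith)
  have hj1 := jpos hNZ (by linarith) hj.symm
  rcases pC hbig hs rfl (hd.imp id And.left) haZ hao hj1 hj.symm hK with g | g
  · exact Or.inl g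
  · exact Or.inr (Or.inl g)

include hbig hs hd h4 haZ hao hai hNZ hK in
theorem caseD (hp : p.Prime) (hpy : (p : ℤ) = y) (k : 2 * (N : ℤ) ∣ p * (y ^ 2 - 1)) : OutS s y p d a T N := by
  obtain ⟨j, hj⟩ := k
  have e : (N : ℤ) * (2 * j) = p * (y ^ 2 - 1) := by rw [hj]; ring
  have hyy : 29 * y ≤ y ^ 2 := by rw [sq]; exact mul_le_mul_of_nonneg_right hbig (by linarith)
  have hj2 : 1 ≤ 2 * j := jpos hNZ (mul_pos (by exact_mod_cast hp.pos) (by linarith only [hbig, hyy])) e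
  have hj1 : 1 ≤ j := by clear * - hj2; omega
  rw [hpy] at e
  have hlist : y ∉ ([55, 91, 65, 689] : List ℤ) := by
    intro hm
    simp only [List.mem_cons, List.not_mem_nil, or_false] at hm
    rw [← hpy] at hm
    rcases hm with hm | hm | hm | hm
    · have : p = 55 := by exact_mod_cast hm
      rw [this] at hp; norm_num at hp
    · have : p = 91 := by exact_mod_cast hm
      rw [this] at hp; norm_num at hp
    · have : p = 65 := by exact_mod_cast hm
      rw [this] at hp; norm_num at hp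
    · have : p = 689 := by exact_mod_cast hm
      rw [this] at hp; norm_num at hp
  rcases pD hbig hs rfl h4 haZ hao hd hlist hai hj1 e hK with g | ⟨g1, g2⟩ | ⟨g1, g2⟩
  · exact Or.inr (Or.inr (Or.inr (Or.inr (Or.inr (Or.inl ⟨hpy, g⟩)))))
  · exact Or.inr (Or.inr (Or.inr (Or.inl ⟨hpy, g1, g2⟩)))
  · exact Or.inr (Or.inr (Or.inr (Or.inr (Or.inl ⟨hpy, g1, g2⟩))))

include hbig hs hd haZ hNZ hK in
theorem caseD' (hp5 : (5 : ℤ) ≤ p) (hpo : (p : ℤ) % 2 = 1) (hpy : 5 * (p : ℤ) ≤ y)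
    (hp25 : (s * y) % 12 = 7 → 25 * (p : ℤ) ≤ y) (k : 2 * (N : ℤ) ∣ p * (y ^ 2 - 1)) : False := by
  obtain ⟨j, hj⟩ := k
  have e : (N : ℤ) * (2 * j) = p * (y ^ 2 - 1) := by rw [hj]; ring
  have hyy : 29 * y ≤ y ^ 2 := by rw [sq]; exact mul_le_mul_of_nonneg_right hbig (by linarith)
  have hj2 : 1 ≤ 2 * j := jpos hNZ (mul_pos (by linarith) (by linarith)) e
  have hj1 : 1 ≤ j := by clear * - hj2; omega
  rcases hd with rfl | ⟨rfl, h12⟩
  · exact pD1 hbig hs rfl haZ hp5 hpo hpy hj1 e hK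
  · exact pD3 hbig hs rfl haZ hp5 hpo (hp25 h12) hj1 e hK

include hbig hs hd haZ hao hNZ hK in
theorem caseE (hpy : (p : ℤ) = y) (k : (N : ℤ) ∣ p * (y - s)) : OutS s y p d a T N := by
  obtain ⟨j, hj⟩ := k
  rw [hpy] at hj
  have e : (N : ℤ) * j = y ^ 2 - s * y := by rw [← hj]; ring
  have hyy : 29 * y ≤ y ^ 2 := by rw [sq]; exact mul_le_mul_of_nonneg_right hbig (by linarith)
  have hj1 := jpos hNZ (by rcases hs with rfl | rfl <;> linarith only [hbig, hyy]) e
  rcases pE hbig hs rfl (hd.imp id And.left) haZ hao hj1 e hK with ⟨g1, g2⟩ | ⟨g1, g2⟩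
  · exact Or.inr (Or.inr (Or.inr (Or.inl ⟨hpy, g1, g2⟩)))
  · exact Or.inr (Or.inr (Or.inr (Or.inr (Or.inl ⟨hpy, g1, g2⟩))))

include hbig hs hd haZ hNZ hK in
theorem caseE' (hp5 : (5 : ℤ) ≤ p) (hpy : 5 * (p : ℤ) ≤ y) (k : (N : ℤ) ∣ p * (y - s)) : False := by
  have hys : 0 < y - s := by rcases hs with rfl | rfl <;> linarith only [hbig]
  have hys' : y - s ≤ y + 1 := by rcases hs with rfl | rfl <;> linarith
  have hyy : 29 * y ≤ y ^ 2 := by rw [sq]; exact mul_le_mul_of_nonneg_right hbig (by linarith)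
  have hle := Int.le_of_dvd (mul_pos (by linarith) hys) k
  have h5N : 5 * (N : ℤ) ≤ y * (y + 1) := by
    calc 5 * (N : ℤ) ≤ 5 * (p * (y - s)) := by linarith
      _ = (5 * p) * (y - s) := by ring
      _ ≤ y * (y + 1) := mul_le_mul hpy hys' hys.le (by linarith)
  have hd3' : d ≤ 3 := by rcases hd with h1 | ⟨h1, -⟩ <;> rw [h1] <;> norm_num
  have hd0 : 0 < d := by rcases hd with h1 | ⟨h1, -⟩ <;> rw [h1] <;> norm_num
  refine tiny hbig hs rfl haZ hd0 hd3' ?_ hK
  have h6 : d * (5 * (N : ℤ)) ≤ 3 * (y * (y + 1)) := mul_le_mul hd3' h5N (by positivity) (by norm_num)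
  have h7 : y ^ 2 - y + 1 ≤ y ^ 2 + s * y + 1 := by rcases hs with rfl | rfl <;> linarith
  have h8 : 5 * (d * (N : ℤ)) = d * (5 * (N : ℤ)) := by ring
  have h9 : y * (y + 1) = y ^ 2 + y := by ring
  rw [h8]
  rw [h9] at h6
  linarith only [h6, h7, hyy, hbig]

include hbig hs hd haZ hNZ hK in
theorem caseF (k : 2 * (N : ℤ) ∣ d * (y - s)) : False := by
  have hys : 0 < y - s := by rcases hs with rfl | rfl <;> linarith only [hbig]
  have hys' : y - s ≤ y + 1 := by rcases hs with rfl | rfl <;> linarith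
  have hyy : 29 * y ≤ y ^ 2 := by rw [sq]; exact mul_le_mul_of_nonneg_right hbig (by linarith)
  have hd3' : d ≤ 3 := by rcases hd with h1 | ⟨h1, -⟩ <;> rw [h1] <;> norm_num
  have hd0 : 0 < d := by rcases hd with h1 | ⟨h1, -⟩ <;> rw [h1] <;> norm_num
  have hle := Int.le_of_dvd (mul_pos hd0 hys) k
  have h3 : d * (y - s) ≤ 3 * (y + 1) := mul_le_mul hd3' hys' hys.le (by norm_num)
  refine tiny hbig hs rfl haZ hd0 hd3' ?_ hK
  have h6 : d * (N : ℤ) ≤ 3 * N := mul_le_mul_of_nonneg_right hd3' hNZ.le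
  have h7 : y ^ 2 - y + 1 ≤ y ^ 2 + s * y + 1 := by rcases hs with rfl | rfl <;> linarith
  linarith only [h6, h7, hyy, hbig, hle, h3]

end

end Cfsg.Agent.R2.Spec.X3.PairII
end
end

-- part: R2/Spec/X3/Pair
section
prune_inst 0x1024046c0000000000000022001820a00000000003000170400400010e104080400e0040000c02106410001800002002100000400000000a003000000600000000000080580100000000003003580c00000000000000000000000000041000000000000
set_option linter.all false
open scoped Cfsg.Agent.FastGrp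

-- part: R2/Spec/X3/PairIIF
section
/-!
# The pair lemma, type II (helper16, S3435, box X3)
-/

set_option autoImplicit false

namespace Cfsg.Agent.R2.Spec.X3

namespace Cand

variable {p M : ℕ} {x : ℤ} {S : Type*} [Group S] (h : Cand p x M S)

include h

theorem smallII (hx : x % 4 = 3) : (x = 7 ∧ p = 7) ∨ (x = 11 ∧ p = 11) ∨ (x = 19 ∧ p = 19) ∨ (x = 23 ∧ p = 23) ∨
    (x = -13 ∧ p = 13) ∨ (x = -17 ∧ p = 17) ∨ (x = -25 ∧ p = 5) ∨ 29 ≤ x ∨ x ≤ -29 := by
  have hp := h.hp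
  have h5 := h.h5
  have hb : 7 ≤ x ∨ x ≤ -13 := by rcases h.x_bd with k | k | k <;> omega
  by_cases h1 : 29 ≤ x ∨ x ≤ -29
  · (clear * - h1; itauto)
  push Not at h1
  obtain ⟨k, hk, hx'⟩ := h.ex
  have h9 : x = 7 ∨ x = 11 ∨ x = 15 ∨ x = 19 ∨ x = 23 ∨ x = 27 ∨ x = -13 ∨ x = -17 ∨ x = -21 ∨ x = -25 := by (clear * - hx hb h1; omega)
  have key : ∀ r : ℕ, r.Prime → r ∣ x.natAbs → r = p := fun r hr hd =>
    (Nat.prime_dvd_prime_iff_eq hr hp).1 (hr.dvd_of_dvd_pow (hx' ▸ hd))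
  rcases h9 with rfl | rfl | rfl | rfl | rfl | rfl | rfl | rfl | rfl | rfl
  · have := key 7 (by norm_num) (by norm_num); omega
  · have := key 11 (by norm_num) (by norm_num); omega
  · have := key 3 (by norm_num) (by norm_num); omega
  · have := key 19 (by norm_num) (by norm_num); omega
  · have := key 23 (by norm_num) (by norm_num); omega
  · have := key 3 (by norm_num) (by norm_num); omega
  · have := key 13 (by norm_num) (by norm_num); omega
  · have := key 17 (by norm_num) (by norm_num); omega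
  · have := key 3 (by norm_num) (by norm_num); omega
  · have := key 5 (by norm_num) (by norm_num); omega

/-- `25 p ≤ |x|` for `δ = 3`, `p ≠ |x|` -/
theorem p_le_three (hx : x % 12 = 7) (hp : 5 * (p : ℤ) ≤ |x|) : 25 * (p : ℤ) ≤ |x| := by
  obtain ⟨k, hk, hx'⟩ := h.ex
  have h5 := h.h5
  have hpp := h.hp
  rw [Int.abs_eq_natAbs, hx'] at hp ⊢
  have hp12 : p ^ 2 % 12 = 1 := by
    have h2 : p % 2 ≠ 0 := fun h0 => by
      have := (Nat.prime_dvd_prime_iff_eq Nat.prime_two hpp).1 (Nat.dvd_of_mod_eq_zero h0); omega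
    have h3 : p % 3 ≠ 0 := fun h0 => by
      have := (Nat.prime_dvd_prime_iff_eq Nat.prime_three hpp).1 (Nat.dvd_of_mod_eq_zero h0); omega
    have h4 : p % 12 = 1 ∨ p % 12 = 5 ∨ p % 12 = 7 ∨ p % 12 = 11 := by omega
    rcases h4 with h4 | h4 | h4 | h4 <;> rw [Nat.pow_mod, h4]
  rcases Nat.even_or_odd k with hev | hodd
  · exfalso
    obtain ⟨m, hm⟩ := hev
    have h6 : x.natAbs % 12 = 1 := by
      rw [hx', hm, ← two_mul, pow_mul, Nat.pow_mod, hp12, one_pow]
      rfl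
    omega
  · obtain ⟨m, hm⟩ := hodd
    rcases Nat.eq_zero_or_pos m with rfl | hm0
    · rw [hm] at hp
      simp only [_root_.MulZeroClass.mul_zero, _root_.zero_add, _root_.pow_one] at hp
      omega
    · obtain ⟨m', rfl⟩ : ∃ m', m = m' + 1 := ⟨m - 1, by omega⟩
      have h7 : 25 * p ≤ p ^ k := by
        have e : p ^ k = p * p * (p * p ^ (2 * m')) := by rw [hm]; ring
        rw [e]
        have h8 : 1 ≤ p ^ (2 * m') := Nat.one_le_pow _ _ (by omega)
        calc 25 * p ≤ p * p * p := Nat.mul_le_mul_right _ (Nat.mul_le_mul h5 h5)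
          _ = p * p * (p * 1) := by ring
          _ ≤ _ := Nat.mul_le_mul_left _ (Nat.mul_le_mul_left _ h8)
      exact_mod_cast h7

/-- **the pair lemma, type II** -/
theorem pairII (hx : x % 4 = 3) {T N : ℕ} (hT : ∃ g : S, orderOf g = T) (hMT : M ∣ T) (hN : ∃ g : S, orderOf g = N)
    (hN0 : N ≠ 0) (hNM : Nat.Coprime N M) (hK : ((T : ℤ) - N) ^ 2 ≤ 5 * T) : OutII p x T N := by
  obtain ⟨a, hTa, hao, ha1, -, haII⟩ := h.tor hT hMT
  obtain ⟨d, hty⟩ : ∃ d, TII x M d := by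
    rcases h.typ with ⟨h1, -⟩ | h1
    · omega
    · exact h1
  have hfree := h.freeII hN hNM hty
  obtain ⟨i, hi⟩ := haII d hty
  obtain ⟨-, hb, hd3, hdM⟩ := hty
  have hd : d = 1 ∨ (d = 3 ∧ x % 12 = 7) := by
    clear hi hfree hdM hK haII hTa
    omega
  have hd0 : 0 < d := by rcases hd with h1 | ⟨h1, -⟩ <;> rw [h1] <;> norm_num
  have haZ : (1 : ℤ) ≤ a := by exact_mod_cast ha1
  have haoZ : (a : ℤ) % 2 = 1 := by omega
  have hNZ : (0 : ℤ) < N := by exact_mod_cast Nat.pos_of_ne_zero hN0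
  -- `x = s y`
  obtain ⟨s, y, hs, hy, hxy⟩ : ∃ s y : ℤ, (s = 1 ∨ s = -1) ∧ 7 ≤ y ∧ x = s * y := by
    rcases hb with h1 | h1
    · exact ⟨1, x, Or.inl rfl, h1, by ring⟩
    · exact ⟨-1, -x, Or.inr rfl, by omega, by ring⟩
  have hxa : |x| = y := by
    rw [hxy]
    rcases hs with rfl | rfl
    · rw [one_mul, abs_of_nonneg (by omega)]
    · rw [neg_one_mul, abs_neg, abs_of_nonneg (by omega)]
  have hs2 : s * s = 1 := by rcases hs with rfl | rfl <;> norm_num
  have hPx : x ^ 2 + x + 1 = y ^ 2 + s * y + 1 := by rw [hxy]; linear_combination y ^ 2 * hs2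
  have hx2 : x ^ 2 = y ^ 2 := by rw [hxy]; linear_combination y ^ 2 * hs2
  have hdT : d * (T : ℤ) = a * (y ^ 2 + s * y + 1) := by rw [hTa, ← hPx, ← hdM]; push_cast; ring
  have hK' : ((a : ℤ) * (y ^ 2 + s * y + 1) - d * N) ^ 2 ≤ 5 * d * (a * (y ^ 2 + s * y + 1)) := by
    rw [← hdT]
    have h1 := mul_le_mul_of_nonneg_left hK (sq_nonneg d)
    have e1 : d ^ 2 * ((T : ℤ) - N) ^ 2 = (d * T - d * N) ^ 2 := by ring
    have e2 : d ^ 2 * (5 * (T : ℤ)) = 5 * d * (d * T) := by ring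
    rwa [e1, e2] at h1
  -- the divisibilities in terms of `y`
  have sg : ∀ c c' : ℤ, c = s * c' → ∀ n : ℤ, n ∣ c → n ∣ c' := fun c c' hc n hn => by
    have : c' = s * c := by rw [hc, ← mul_assoc, hs2, one_mul]
    rw [this]; exact hn.mul_left s
  have hsx : s * (y + s) = x + 1 := by rw [hxy]; linear_combination hs2
  have hsx' : s * (y - s) = x - 1 := by rw [hxy]; linear_combination -hs2
  have hai : 2 * ((a : ℤ) * (s * i)) = d * (y - s) := by
    have : s * (d * (x - 1)) = s * (2 * a * i) := by rw [hi]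
    rw [← hsx'] at this
    have e : s * (d * (s * (y - s))) = d * (y - s) := by linear_combination d * (y - s) * hs2
    rw [e] at this
    linarith only [this]
  have hfree' : 2 * (N : ℤ) ∣ (y ^ 2 + 1) * (y + s) ∨ (N : ℤ) ∣ y ^ 2 - 1 ∨ 2 * (N : ℤ) ∣ p * (y ^ 2 - 1) ∨
      (N : ℤ) ∣ p * (y - s) ∨ 2 * (N : ℤ) ∣ d * (y - s) := by
    rw [hx2] at hfree
    rcases hfree with k | k | k | k | k
    · exact Or.inl (sg _ _ (by rw [← hsx]; ring) _ k)
    · exact Or.inr (Or.inl k)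
    · exact Or.inr (Or.inr (Or.inl k))
    · exact Or.inr (Or.inr (Or.inr (Or.inl (sg _ _ (by rw [← hsx']; ring) _ k))))
    · exact Or.inr (Or.inr (Or.inr (Or.inr (sg _ _ (by rw [← hsx']; ring) _ k))))
  have hp5 : (5 : ℤ) ≤ p := by exact_mod_cast h.h5
  have hpc := h.p_cases
  rw [hxa] at hpc
  have hd13 : d = 1 ∨ d = 3 := hd.imp id And.left
  -- the outcome
  suffices hout : OutS s y p d a T N by
    have Tof : (a : ℤ) = d → (T : ℤ) = x ^ 2 + x + 1 := fun had => by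
      rw [had, ← hPx] at hdT
      exact mul_left_cancel₀ hd0.ne' hdT
    have Tof1 : (a : ℤ) = 1 → d * (T : ℤ) = x ^ 2 + x + 1 := fun had => by
      rw [had, ← hPx, one_mul] at hdT
      exact hdT
    have hxx : x ^ 2 - x = y ^ 2 - s * y := by rw [hx2, hxy]
    have hxx' : x ^ 2 + x = y ^ 2 + s * y := by rw [hx2, hxy]
    rcases hout with ⟨g1, g2⟩ | ⟨g1, g2⟩ | ⟨g1, g2⟩ | ⟨g0, g1, g2⟩ | ⟨g0, g1, g2⟩ | ⟨g0, g2⟩ | g2
    · left; exact ⟨d, hd13, Or.inl ⟨Tof1 g1, by rw [hx2]; exact g2⟩⟩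
    · left; exact ⟨1, Or.inl rfl, Or.inl ⟨by rw [one_mul]; exact Tof g1, by rw [one_mul, hx2]; exact g2⟩⟩
    · right; left; exact ⟨Tof g1, by rw [hx2]; exact g2⟩
    · left; exact ⟨d, hd13, Or.inr (Or.inl ⟨by rw [hxa]; exact g0, Tof1 g1, by rw [hxx]; exact g2⟩)⟩
    · left; exact ⟨1, Or.inl rfl, Or.inr (Or.inl ⟨by rw [hxa]; exact g0, by rw [one_mul]; exact Tof g1,
        by rw [one_mul, hxx]; exact g2⟩)⟩
    · left; exact ⟨d, hd13, Or.inr (Or.inr ⟨by rw [hxa]; exact g0, a, haZ, haoZ, by rw [hPx]; exact hdT,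
        by rw [hxx']; exact g2⟩)⟩
    · right; right; rw [hxy]; exact g2
  have hcase : (29 ≤ y) ∨ ((x = 7 ∧ p = 7) ∨ (x = 11 ∧ p = 11) ∨ (x = 19 ∧ p = 19) ∨ (x = 23 ∧ p = 23) ∨
    (x = -13 ∧ p = 13) ∨ (x = -17 ∧ p = 17) ∨ (x = -25 ∧ p = 5)) := by
    rcases h.smallII hx with k | k | k | k | k | k | k | k | k
    · exact Or.inr (Or.inl k)
    · exact Or.inr (Or.inr (Or.inl k))
    · exact Or.inr (Or.inr (Or.inr (Or.inl k)))
    · exact Or.inr (Or.inr (Or.inr (Or.inr (Or.inl k))))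
    · exact Or.inr (Or.inr (Or.inr (Or.inr (Or.inr (Or.inl k)))))
    · exact Or.inr (Or.inr (Or.inr (Or.inr (Or.inr (Or.inr (Or.inl k))))))
    · exact Or.inr (Or.inr (Or.inr (Or.inr (Or.inr (Or.inr (Or.inr k))))))
    · left; rw [← hxa]; exact k.trans (le_abs_self x)
    · left; rw [← hxa]; exact (by linarith only [k] : (29 : ℤ) ≤ -x).trans (neg_le_abs x)
  rcases hcase with hbig | hsm
  · have hd' : d = 1 ∨ (d = 3 ∧ (s * y) % 12 = 7) := by rw [← hxy]; exact hd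
    have h4' : (s * y) % 4 = 3 := by rw [← hxy]; exact hx
    rcases hfree' with k | k | k | k | k
    · exact PairII.caseB hbig hs hd' h4' haZ haoZ hai hNZ hdT hK' k
    · exact PairII.caseC hbig hs hd' haZ haoZ hNZ hK' k
    · rcases hpc with hp | hp
      · exact PairII.caseD hbig hs hd' h4' haZ haoZ hai hNZ hK' h.hp hp k
      · exfalso
        have hpo : (p : ℤ) % 2 = 1 := by
          have h5' := h.h5
          have hpp := h.hp.eq_two_or_odd
          clear * - h5' hpp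
          omega
        refine PairII.caseD' hbig hs hd' haZ hNZ hK' hp5 hpo hp (fun h12 => ?_) k
        have hp25 := h.p_le_three (by rw [hxy]; exact h12) (by rw [hxa]; exact hp)
        rwa [hxa] at hp25
    · rcases hpc with hp | hp
      · exact PairII.caseE hbig hs hd' haZ haoZ hNZ hK' hp k
      · exact (PairII.caseE' hbig hs hd' haZ hNZ hK' hp5 hp k).elim
    · exact (PairII.caseF hbig hs hd' haZ hNZ hK' k).elim
  · -- the finite check
    have h2a : 2 * (a : ℤ) ∣ d * (y - s) := ⟨s * i, by rw [← hai]; ring⟩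
    exact finAll hs hy hxy hd3 hsm hao h2a hdT (Nat.pos_of_ne_zero hN0) hK hK' hfree'

end Cand

end Cfsg.Agent.R2.Spec.X3
end

-- part: R2/Spec/X3/Pair
section
/-!
# The pair lemma (helper16, S3435, box X3)
-/

set_option autoImplicit false

namespace Cfsg.Agent.R2.Spec.X3

/-- `z = v ^ m` is not a number with two prime divisors -/
theorem not_pp {v m z r s : ℕ} (hv : v.Prime) (hz : z = v ^ m) (hr : r.Prime) (hs : s.Prime) (hrs : r ≠ s)
    (h1 : r ∣ z) (h2 : s ∣ z) : False := by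
  rw [hz] at h1 h2
  have h3 := (Nat.prime_dvd_prime_iff_eq hr hv).1 (hr.dvd_of_dvd_pow h1)
  have h4 := (Nat.prime_dvd_prime_iff_eq hs hv).1 (hs.dvd_of_dvd_pow h2)
  exact hrs (h3.trans h4.symm)

/-- `w² = 2 x² + 2 x + 1`, `|x| = p` -/
theorem no_sq {p w : ℕ} {x : ℤ} (hp : p.Prime) (h5 : 5 ≤ p) (hpx : (p : ℤ) = |x|)
    (h : (w : ℤ) ^ 2 = 2 * x ^ 2 + 2 * x + 1) : False := by
  have hx2 : x ^ 2 = (p : ℤ) ^ 2 := by rw [hpx, sq_abs]
  obtain ⟨e, he⟩ : ∃ e : ℕ, e = (x + 1).natAbs := ⟨_, rfl⟩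
  have he2 : (e : ℤ) ^ 2 = (x + 1) ^ 2 := by rw [he, Int.natAbs_sq]
  have hep : e ≤ p + 1 ∧ 1 ≤ e := by
    rcases abs_cases x with ⟨h1, h2⟩ | ⟨h1, h2⟩ <;> omega
  have h1 : (w : ℤ) ^ 2 = (p : ℤ) ^ 2 + (e : ℤ) ^ 2 := by rw [h, he2, ← hx2]; ring
  have h2 : w ^ 2 = p ^ 2 + e ^ 2 := by exact_mod_cast h1
  have hwe : e < w := by
    by_contra hcon
    push Not at hcon
    have h3 : w ^ 2 ≤ e ^ 2 := Nat.pow_le_pow_left hcon 2
    have h4 : 0 < p ^ 2 := by positivity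
    omega
  obtain ⟨t, ht⟩ : ∃ t, w = e + t := ⟨w - e, by omega⟩
  have ht0 : 0 < t := by omega
  have h3 : t * (2 * e + t) = p ^ 2 := by
    rw [ht] at h2
    have : (e + t) ^ 2 = e ^ 2 + t * (2 * e + t) := by ring
    omega
  have h4 : t ∣ p ^ 2 := ⟨_, h3.symm⟩
  obtain ⟨i, hi, hti⟩ := (Nat.dvd_prime_pow hp).1 h4
  have h5' : 5 * p ≤ p * p := Nat.mul_le_mul_right _ h5
  have hi' : i = 0 ∨ i = 1 ∨ i = 2 := by omega
  rcases hi' with rfl | rfl | rfl
  · rw [pow_zero] at hti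
    rw [hti, one_mul, sq] at h3
    omega
  · rw [pow_one] at hti
    rw [hti, sq] at h3
    have := Nat.eq_of_mul_eq_mul_left hp.pos h3
    omega
  · rw [hti] at h3
    have h6 : p ^ 2 * (2 * e + p ^ 2) = p ^ 2 * 1 := by rw [h3, mul_one]
    have := Nat.eq_of_mul_eq_mul_left (by positivity) h6
    omega

namespace Cand

variable {p M : ℕ} {x : ℤ} {S : Type*} [Group S] (h : Cand p x M S)

include h

/-- **the pair lemma** -/
theorem pair {T N : ℕ} (hT : ∃ g : S, orderOf g = T) (hMT : M ∣ T) (hN : ∃ g : S, orderOf g = N)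
    (hN0 : N ≠ 0) (hNM : Nat.Coprime N M) (hK : ((T : ℤ) - N) ^ 2 ≤ 5 * T) : PairOut p x T N := by
  rcases h.x_bd with ⟨k1, k2⟩ | ⟨k1, k2⟩ | ⟨k1, k2⟩
  · exact Or.inl ⟨k2, k1, h.pairI k2 hT hMT hN hN0 hNM hK⟩
  · exact Or.inr ⟨k2, Or.inl k1, h.pairII k2 hT hMT hN hN0 hNM hK⟩
  · exact Or.inr ⟨k2, Or.inr k1, h.pairII k2 hT hMT hN hN0 hNM hK⟩

/-- `v` divides `2 x² + 2 x + 1` -/
theorem five_of_dvd {v : ℕ} (hv : v.Prime) (hvp : v ≠ p) (hv2 : v ≠ 2) (hg : ∃ g : S, orderOf g = v)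
    (hd : (v : ℤ) ∣ 2 * x ^ 2 + 2 * x + 1) : v = 5 := by
  obtain ⟨g, hg⟩ := hg
  have hs := h.spec g
  rw [hg] at hs
  have hpv : Prime (v : ℤ) := Nat.prime_iff_prime_int.1 hv
  have h5 : (v : ℤ) ∣ 5 → v = 5 := fun h1 => by
    have h2 : v ∣ 5 := by exact_mod_cast h1
    exact (Nat.prime_dvd_prime_iff_eq hv (by norm_num)).1 h2
  have hun : ¬ (v : ℤ) ∣ 1 := fun h1 => hpv.not_unit (isUnit_of_dvd_one h1)
  have k1 : (v : ℤ) ∣ x - 1 → v = 5 := fun h1 => h5 (by
    have h2 := dvd_sub hd (h1.mul_right (2 * (x + 2)))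
    have e : 2 * x ^ 2 + 2 * x + 1 - (x - 1) * (2 * (x + 2)) = 5 := by ring
    rwa [e] at h2)
  have k2 : ¬ (v : ℤ) ∣ x + 1 := fun h1 => hun (by
    have h2 := dvd_sub hd (h1.mul_right (2 * x))
    have e : 2 * x ^ 2 + 2 * x + 1 - (x + 1) * (2 * x) = 1 := by ring
    rwa [e] at h2)
  have k3 : (v : ℤ) ∣ x ^ 2 + 1 → v = 5 := fun h1 => h5 (by
    have h2 : (v : ℤ) ∣ 2 * x - 1 := by
      have h3 := dvd_sub hd (h1.mul_left 2)
      have e : 2 * x ^ 2 + 2 * x + 1 - 2 * (x ^ 2 + 1) = 2 * x - 1 := by ring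
      rwa [e] at h3
    have h3 := dvd_sub (h1.mul_left 4) (h2.mul_right (2 * x + 1))
    have e : 4 * (x ^ 2 + 1) - (2 * x - 1) * (2 * x + 1) = 5 := by ring
    rwa [e] at h3)
  have k4 : ¬ (v : ℤ) ∣ x ^ 2 + x + 1 := fun h1 => hun (by
    have h2 := dvd_sub (h1.mul_left 2) hd
    have e : 2 * (x ^ 2 + x + 1) - (2 * x ^ 2 + 2 * x + 1) = 1 := by ring
    rwa [e] at h2)
  have k5 : ¬ (v : ℤ) ∣ p := fun h1 => hvp (by
    have h2 : v ∣ p := by exact_mod_cast h1
    exact (Nat.prime_dvd_prime_iff_eq hv h.hp).1 h2)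
  have k6 : (v : ℤ) ∣ x ^ 2 - 1 → v = 5 := fun h1 => by
    rw [show x ^ 2 - 1 = (x - 1) * (x + 1) by ring] at h1
    rcases hpv.dvd_or_dvd h1 with h2 | h2
    · exact k1 h2
    · exact absurd h2 k2
  rcases hs with k | k | k | k | k
  · have h1 : (v : ℤ) ∣ (x - 1) * (x ^ 2 + x + 1) := by
      rw [show (x - 1) * (x ^ 2 + x + 1) = x ^ 3 - 1 by ring]
      exact (Dvd.intro_left _ rfl).trans k
    rcases hpv.dvd_or_dvd h1 with h2 | h2
    · exact k1 h2
    · exact absurd h2 k4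
  · rcases hpv.dvd_or_dvd ((Dvd.intro_left _ rfl).trans k) with h2 | h2
    · exact k3 h2
    · exact absurd h2 k2
  · exact k6 k
  · rcases hpv.dvd_or_dvd ((Dvd.intro_left _ rfl).trans k) with h2 | h2
    · exact absurd h2 k5
    · exact k6 h2
  · rcases hpv.dvd_or_dvd k with h2 | h2
    · exact absurd h2 k5
    · exact k1 h2

/-- `z = x²` -/
theorem no_sq_x {v m z : ℕ} (hv : v.Prime) (hvp : v ≠ p) (hm : 1 ≤ m) (hz : z = v ^ m) (hx : (z : ℤ) = x ^ 2) : False := by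
  have h1 : (p : ℤ) ∣ z := by rw [hx]; exact dvd_pow h.p_dvd two_ne_zero
  have h2 : p ∣ z := by exact_mod_cast h1
  rw [hz] at h2
  exact hvp ((Nat.prime_dvd_prime_iff_eq h.hp hv).1 (h.hp.dvd_of_dvd_pow h2)).symm

/-- `z = 2 x² + 2 x + 1` -/
theorem no_sq_y [Finite S] {v m z : ℕ} (hv : v.Prime) (hvp : v ≠ p) (hm : 1 ≤ m) (hz : z = v ^ m)
    (hvS : v ∣ Nat.card S) (hpx : (p : ℤ) = |x|) (hx4 : x % 4 = 3) (hx : (z : ℤ) = 2 * x ^ 2 + 2 * x + 1) : False := by
  haveI : Fact v.Prime := ⟨hv⟩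
  obtain ⟨g, hg⟩ := exists_prime_orderOf_dvd_card' v hvS
  have hvz : (v : ℤ) ∣ 2 * x ^ 2 + 2 * x + 1 := by
    rw [← hx, hz]; push_cast; exact dvd_pow_self _ (by omega)
  have hv2 : v ≠ 2 := by
    rintro rfl
    have h1 := Int.emod_emod_of_dvd (2 * x ^ 2 + 2 * x + 1) (dvd_refl (2 : ℤ))
    have h2 : (2 * x ^ 2 + 2 * x + 1) % 2 = 0 := Int.emod_eq_zero_of_dvd hvz
    have h3 : (2 * x ^ 2 + 2 * x + 1) = 2 * (x ^ 2 + x) + 1 := by ring
    rw [h3] at h2
    clear * - h2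
    omega
  have hv5 := h.five_of_dvd hv hvp hv2 ⟨g, hg⟩ hvz
  subst hv5
  have hz8 : (z : ℤ) % 8 = 1 := by
    obtain ⟨t, rfl⟩ : ∃ t, x = 4 * t + 3 := ⟨x / 4, by omega⟩
    rw [hx, show 2 * (4 * t + 3) ^ 2 + 2 * (4 * t + 3) + 1 = 8 * (4 * t ^ 2 + 7 * t + 3) + 1 by ring]
    clear * -
    omega
  have hme : Even m := by
    by_contra hodd
    rw [Nat.not_even_iff_odd] at hodd
    obtain ⟨r, rfl⟩ := hodd
    have h1 : 5 ^ (2 * r + 1) % 8 = 5 := by
      rw [pow_succ, pow_mul, Nat.mul_mod, Nat.pow_mod]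
      norm_num
    rw [← hz] at h1
    clear * - h1 hz8
    omega
  obtain ⟨r, rfl⟩ := hme
  refine no_sq (w := 5 ^ r) h.hp h.h5 hpx ?_
  rw [← hx, hz]
  push_cast
  ring

/-- **twins**: `(z - 1) / c`, `(z + 1) / c`, `c = (2, z - 1)`, `z` a power of `v ≠ p` -/
theorem no_twin [Finite S] {v m z A B c : ℕ} (hv : v.Prime) (hvp : v ≠ p) (hm : 1 ≤ m) (hz : z = v ^ m)
    (hvS : v ∣ Nat.card S) (hc : (c = 1 ∧ Even z) ∨ (c = 2 ∧ Odd z)) (hA : c * A = z - 1) (hB : c * B = z + 1)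
    (eA : ∃ g : S, orderOf g = A) (eB : ∃ g : S, orderOf g = B)
    (hM : (M ∣ A ∧ Nat.Coprime B M) ∨ (M ∣ B ∧ Nat.Coprime A M)) : False := by
  have hM13 := h.M_ge
  have hz1 : 1 ≤ z := by rw [hz]; exact Nat.one_le_pow _ _ hv.pos
  have hAB : B = A + 2 ∧ c = 1 ∨ B = A + 1 ∧ c = 2 := by
    rcases hc with ⟨rfl, -⟩ | ⟨rfl, -⟩
    · left; omega
    · right; omega
  have hpos : 0 < A ∧ 0 < B := by
    have hB0 : 0 < B := by
      rcases Nat.eq_zero_or_pos B with h0 | h0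
      · rw [h0] at hB; omega
      · exact h0
    refine ⟨?_, hB0⟩
    rcases Nat.eq_zero_or_pos A with h0 | h0
    · exfalso
      rcases hM with ⟨-, h2⟩ | ⟨h2, h3⟩
      · have h4 : B ≤ 2 := by omega
        have := h.exists_E
        rw [h0] at hA
        have hzz : z = 1 := by omega
        rw [hz] at hzz
        have : v = 1 := by
          rcases Nat.pow_eq_one.1 hzz with h5 | h5
          · exact h5
          · omega
        exact hv.one_lt.ne' this
      · rw [h0] at h3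
        rw [Nat.coprime_zero_left] at h3
        omega
    · exact h0
  have hA13 : 11 ≤ A ∧ 11 ≤ B := by
    rcases hM with ⟨h2, -⟩ | ⟨h2, -⟩
    · have := Nat.le_of_dvd hpos.1 h2; omega
    · have := Nat.le_of_dvd hpos.2 h2; omega
  -- the pair
  obtain ⟨T, N, hTN, hout⟩ : ∃ T N : ℕ, ((T = A ∧ N = B) ∨ (T = B ∧ N = A)) ∧ PairOut p x T N := by
    rcases hM with ⟨h2, h3⟩ | ⟨h2, h3⟩
    · refine ⟨A, B, Or.inl ⟨rfl, rfl⟩, h.pair eA h2 eB (by omega) h3 ?_⟩
      rcases hAB with ⟨h4, -⟩ | ⟨h4, -⟩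
      · have : ((A : ℤ) - B) = -2 := by omega
        rw [this]; norm_num; omega
      · have : ((A : ℤ) - B) = -1 := by omega
        rw [this]; norm_num; omega
    · refine ⟨B, A, Or.inr ⟨rfl, rfl⟩, h.pair eB h2 eA (by omega) h3 ?_⟩
      rcases hAB with ⟨h4, -⟩ | ⟨h4, -⟩
      · have : ((B : ℤ) - A) = 2 := by omega
        rw [this]; norm_num; omega
      · have : ((B : ℤ) - A) = 1 := by omega
        rw [this]; norm_num; omega
  have hd2 : |(T : ℤ) - N| ≤ 2 := by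
    rw [abs_le]
    clear * - hTN hAB
    rcases hTN with ⟨rfl, rfl⟩ | ⟨rfl, rfl⟩ <;> rcases hAB with ⟨h4, -⟩ | ⟨h4, -⟩ <;> constructor <;> omega
  -- `T - N = 1` : `z = 2 N + 1`
  have hz1 : (T : ℤ) - N = 1 → (z : ℤ) = 2 * N + 1 := fun h1 => by
    clear * - hTN hAB h1 hA hB hz1
    rcases hTN with ⟨rfl, rfl⟩ | ⟨rfl, rfl⟩ <;> rcases hAB with ⟨h4, rfl⟩ | ⟨h4, rfl⟩ <;> omega
  have hz2 : (T : ℤ) - N = -2 → (z : ℤ) = T + 1 := fun h1 => by
    clear * - hTN hAB h1 hA hB hz1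
    rcases hTN with ⟨rfl, rfl⟩ | ⟨rfl, rfl⟩ <;> rcases hAB with ⟨h4, rfl⟩ | ⟨h4, rfl⟩ <;> omega
  have hz3 : (T : ℤ) - N = -1 → (z : ℤ) = 2 * T + 1 := fun h1 => by
    clear * - hTN hAB h1 hA hB hz1
    rcases hTN with ⟨rfl, rfl⟩ | ⟨rfl, rfl⟩ <;> rcases hAB with ⟨h4, rfl⟩ | ⟨h4, rfl⟩ <;> omega
  clear hTN hAB hA hB eA eB hM hpos hA13 hM13
  rw [abs_le] at hd2
  rcases hout with ⟨hx4, hx5, hout⟩ | ⟨hx4, hx5, hout⟩
  · rcases hout with ⟨h1, h2⟩ | ⟨h0, h1, h2⟩ | ⟨h0, a, ha, -, h1, h2⟩ | hexc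
    · have h3 : (T : ℤ) - N = 1 := by linarith only [h1, h2]
      have h4 := hz1 h3
      exact h.no_sq_x hv hvp hm hz (by linarith only [h2, h4])
    · have h3 : x ≤ 5 := by linarith only [h1, h2, hd2.1]
      have h4 : x = 5 := le_antisymm h3 hx5
      rw [h4] at h1 h2
      have h5 : (T : ℤ) = 13 := by linarith only [h1]
      have h6 : (N : ℤ) = 15 := by linarith only [h2]
      have h7 := hz2 (by rw [h5, h6]; norm_num)
      rw [h5] at h7
      have h8 : z = 14 := by exact_mod_cast h7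
      exact not_pp hv hz (by norm_num : Nat.Prime 2) (by norm_num : Nat.Prime 7) (by norm_num) (by rw [h8]; norm_num)
        (by rw [h8]; norm_num)
    · have h3 : 2 * ((T : ℤ) - N) = a * (x + 1) := by linarith only [h1, h2]
      have h4 : 1 * (x + 1) ≤ a * (x + 1) := mul_le_mul_of_nonneg_right ha (by linarith only [hx5])
      linarith only [hx5, h1, h2, h4, hd2.2]
    · simp only [excI, List.mem_cons, Prod.mk.injEq, List.not_mem_nil, or_false] at hexc
      clear * - hexc hd2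
      omega
  · rcases hout with ⟨δ, hδ, hout⟩ | ⟨h1, h2⟩ | hexc
    · have hδ2 : |δ * ((T : ℤ) - N)| ≤ 6 := by
        rw [abs_le]
        rcases hδ with rfl | rfl <;> constructor <;> linarith only [hd2.1, hd2.2]
      rw [abs_le] at hδ2
      rcases hout with ⟨h1, h2⟩ | ⟨h0, h1, h2⟩ | ⟨h0, a, ha, hao, h1, h2⟩
      · have h3 : δ * ((T : ℤ) - N) = x + 2 := by linarith only [h1, h2]
        rw [h3] at hδ2
        rcases hx5 with h4 | h4 <;> linarith only [h4, hδ2.1, hδ2.2]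
      · have h3 : δ * ((T : ℤ) - N) = 2 * x + 1 := by linarith only [h1, h2]
        rw [h3] at hδ2
        rcases hx5 with h4 | h4 <;> linarith only [h4, hδ2.1, hδ2.2]
      · have h3 : δ * ((T : ℤ) - N) = a := by linarith only [h1, h2]
        have h4 : (T : ℤ) - N = 1 := by
          rcases hδ with rfl | rfl <;> clear * - h3 hd2 ha hao <;> omega
        have h5 := hz1 h4
        have h6 : a = δ := by rw [← h3, h4, mul_one]
        have hδ0 : δ ≠ 0 := by rcases hδ with rfl | rfl <;> norm_num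
        rw [h6] at h2
        have h7 : (N : ℤ) = x ^ 2 + x := mul_left_cancel₀ hδ0 h2
        exact h.no_sq_y hv hvp hm hz hvS h0 hx4 (by rw [h5, h7]; ring)
    · have h3 : (T : ℤ) - N = x := by linarith only [h1, h2]
      rw [h3] at hd2
      rcases hx5 with h4 | h4 <;> linarith only [h4, hd2.1, hd2.2]
    · have h9 : ((T : ℤ) = 19 ∧ (N : ℤ) = 20) ∨ ((T : ℤ) = 19 ∧ (N : ℤ) = 21) := by
        simp only [excII, List.mem_cons, Prod.mk.injEq, List.not_mem_nil, or_false] at hexc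
        clear * - hexc hd2
        omega
      rcases h9 with ⟨h1, h2⟩ | ⟨h1, h2⟩
      · have h7 := hz3 (by rw [h1, h2]; norm_num)
        rw [h1] at h7
        have h8 : z = 39 := by exact_mod_cast h7
        exact not_pp hv hz (by norm_num : Nat.Prime 3) (by norm_num : Nat.Prime 13) (by norm_num) (by rw [h8]; norm_num)
          (by rw [h8]; norm_num)
      · have h7 := hz2 (by rw [h1, h2]; norm_num)
        rw [h1] at h7
        have h8 : z = 20 := by exact_mod_cast h7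
        exact not_pp hv hz (by norm_num : Nat.Prime 2) (by norm_num : Nat.Prime 5) (by norm_num) (by rw [h8]; norm_num)
          (by rw [h8]; norm_num)

end Cand

end Cfsg.Agent.R2.Spec.X3
end

private theorem dce_a37c69c2e9b0 : _root_.True := by
  try have : _root_.True := by simp only [_root_.Cfsg.Agent.R2.Spec.X3.excI.eq_1]
  try have : _root_.True := by simp only [_root_.Cfsg.Agent.R2.Spec.X3.excII.eq_1]
  exact _root_.True.intro
end

-- part: R2/Spec/X3/ExcA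
section
set_option linter.all false
open scoped Cfsg.Agent.FastGrp

/-!
# Box X3 of S3435: tools for the exceptional rows (helper16)

* `Cand.pair_odd`, `Cand.pair_even` : the pair lemma, by the parity of `N`;
* `Cand.odd_T`.
-/

set_option autoImplicit false

namespace Cfsg.Agent.R2.Spec.X3

/-- the exceptional triples with `N` odd -/
def excOdd : List (ℤ × ℤ × ℤ) := [(5, 13, 5), (5, 39, 31), (13, 595, 549), (25, 313, 279), (7, 19, 21), (7, 19, 25),
  (-89, 2611, 2563), (343, 39331, 38915)]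

/-- the exceptional triples with `N` even, type I -/
def excE1 : List (ℤ × ℤ × ℤ) := [(5, 13, 6), (5, 13, 8), (5, 13, 20), (17, 1305, 1228)]

/-- the exceptional triples with `N` even, type II -/
def excE2 : List (ℤ × ℤ × ℤ) := [(7, 19, 10), (7, 19, 12), (7, 19, 20), (7, 19, 24),
  (7, 19, 28), (7, 171, 200), (-17, 91, 72), (-17, 91, 80), (31, 331, 296), (-41, 547, 580), (307, 31519, 31900)]

theorem excI_odd {x T N : ℤ} (hN : N % 2 = 1) (h : (x, T, N) ∈ excI) : (x, T, N) ∈ excOdd := by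
  simp only [excI, List.mem_cons, Prod.mk.injEq, List.not_mem_nil, or_false] at h
  rcases h with ⟨rfl, rfl, rfl⟩ | ⟨rfl, rfl, rfl⟩ | ⟨rfl, rfl, rfl⟩ | ⟨rfl, rfl, rfl⟩ | ⟨rfl, rfl, rfl⟩ | ⟨rfl, rfl, rfl⟩ |
    ⟨rfl, rfl, rfl⟩ | ⟨rfl, rfl, rfl⟩ <;> first | (simp [excOdd]; done) | (exfalso; revert hN; norm_num; done)

theorem excI_even {x T N : ℤ} (hN : N % 2 = 0) (h : (x, T, N) ∈ excI) : (x, T, N) ∈ excE1 := by
  simp only [excI, List.mem_cons, Prod.mk.injEq, List.not_mem_nil, or_false] at h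
  rcases h with ⟨rfl, rfl, rfl⟩ | ⟨rfl, rfl, rfl⟩ | ⟨rfl, rfl, rfl⟩ | ⟨rfl, rfl, rfl⟩ | ⟨rfl, rfl, rfl⟩ | ⟨rfl, rfl, rfl⟩ |
    ⟨rfl, rfl, rfl⟩ | ⟨rfl, rfl, rfl⟩ <;> first | (simp [excE1]; done) | (exfalso; revert hN; norm_num; done)

theorem excII_odd {x T N : ℤ} (hN : N % 2 = 1) (h : (x, T, N) ∈ excII) : (x, T, N) ∈ excOdd := by
  simp only [excII, List.mem_cons, Prod.mk.injEq, List.not_mem_nil, or_false] at h
  rcases h with ⟨rfl, rfl, rfl⟩ | ⟨rfl, rfl, rfl⟩ | ⟨rfl, rfl, rfl⟩ | ⟨rfl, rfl, rfl⟩ | ⟨rfl, rfl, rfl⟩ | ⟨rfl, rfl, rfl⟩ |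
    ⟨rfl, rfl, rfl⟩ | ⟨rfl, rfl, rfl⟩ | ⟨rfl, rfl, rfl⟩ | ⟨rfl, rfl, rfl⟩ | ⟨rfl, rfl, rfl⟩ | ⟨rfl, rfl, rfl⟩ |
    ⟨rfl, rfl, rfl⟩ | ⟨rfl, rfl, rfl⟩ | ⟨rfl, rfl, rfl⟩ <;> first | (simp [excOdd]; done) | (exfalso; revert hN; norm_num; done)

theorem excII_even {x T N : ℤ} (hN : N % 2 = 0) (h : (x, T, N) ∈ excII) : (x, T, N) ∈ excE2 := by
  simp only [excII, List.mem_cons, Prod.mk.injEq, List.not_mem_nil, or_false] at h
  rcases h with ⟨rfl, rfl, rfl⟩ | ⟨rfl, rfl, rfl⟩ | ⟨rfl, rfl, rfl⟩ | ⟨rfl, rfl, rfl⟩ | ⟨rfl, rfl, rfl⟩ | ⟨rfl, rfl, rfl⟩ |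
    ⟨rfl, rfl, rfl⟩ | ⟨rfl, rfl, rfl⟩ | ⟨rfl, rfl, rfl⟩ | ⟨rfl, rfl, rfl⟩ | ⟨rfl, rfl, rfl⟩ | ⟨rfl, rfl, rfl⟩ |
    ⟨rfl, rfl, rfl⟩ | ⟨rfl, rfl, rfl⟩ | ⟨rfl, rfl, rfl⟩ <;> first | (simp [excE2]; done) | (exfalso; revert hN; norm_num; done)

theorem out_odd {p : ℕ} {x T N : ℤ} (hN : N % 2 = 1) (h : PairOut p x T N) :
    ((p : ℤ) = x ∧ x % 4 = 1 ∧ 5 ≤ x ∧ 2 * T = x ^ 2 + 1 ∧ 2 * N = x ^ 2 + x) ∨ (x, T, N) ∈ excOdd := by
  rcases h with ⟨hx4, hx5, h⟩ | ⟨hx4, hx5, h⟩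
  · obtain ⟨t, rfl⟩ : ∃ t, x = 4 * t + 1 := ⟨x / 4, by omega⟩
    rcases h with ⟨h1, h2⟩ | ⟨h0, h1, h2⟩ | ⟨h0, a, ha, hao, h1, h2⟩ | hexc
    · exfalso
      have e : (4 * t + 1) ^ 2 - 1 = 2 * (2 * (4 * t ^ 2 + 2 * t)) := by ring
      rw [e] at h2
      clear * - h2 hN
      omega
    · exact Or.inl ⟨h0, hx4, hx5, h1, h2⟩
    · exfalso
      have e : a * ((4 * t + 1) ^ 2 - (4 * t + 1)) = 2 * (2 * (a * (4 * t ^ 2 + t))) := by ring
      rw [e] at h2
      clear * - h2 hN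
      omega
    · exact Or.inr (excI_odd hN hexc)
  · obtain ⟨t, rfl⟩ : ∃ t, x = 4 * t + 3 := ⟨x / 4, by omega⟩
    rcases h with ⟨δ, hδ, h⟩ | ⟨h1, h2⟩ | hexc
    · exfalso
      have key : ∃ w, δ * N = 2 * w := by
        rcases h with ⟨h1, h2⟩ | ⟨h0, h1, h2⟩ | ⟨h0, a, ha, hao, h1, h2⟩
        · exact ⟨8 * t ^ 2 + 12 * t + 4, by rw [h2]; ring⟩
        · exact ⟨8 * t ^ 2 + 10 * t + 3, by rw [h2]; ring⟩
        · exact ⟨a * (8 * t ^ 2 + 14 * t + 6), by rw [h2]; ring⟩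
      obtain ⟨w, hw⟩ := key
      clear * - hδ hw hN
      rcases hδ with rfl | rfl <;> omega
    · exfalso
      have e : (4 * t + 3) ^ 2 + 1 = 2 * (8 * t ^ 2 + 12 * t + 5) := by ring
      rw [e] at h2
      clear * - h2 hN
      omega
    · exact Or.inr (excII_odd hN hexc)

theorem out_even {p : ℕ} {x T N : ℤ} (hN : N % 2 = 0) (h : PairOut p x T N) :
    (x % 4 = 1 ∧ 5 ≤ x ∧ ((2 * T = x ^ 2 + 1 ∧ 2 * N = x ^ 2 - 1) ∨
      ((p : ℤ) = x ∧ ∃ a : ℤ, 1 ≤ a ∧ a % 2 = 1 ∧ 2 * T = a * (x ^ 2 + 1) ∧ 2 * N = a * (x ^ 2 - x)) ∨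
      (x, T, N) ∈ excE1)) ∨
    (x % 4 = 3 ∧ (7 ≤ x ∨ x ≤ -13) ∧ ((∃ δ : ℤ, (δ = 1 ∨ δ = 3) ∧
      ((N % 8 = 0 ∧ δ * T = x ^ 2 + x + 1 ∧ δ * N = x ^ 2 - 1) ∨
       (N % 4 = 2 ∧ (p : ℤ) = |x| ∧ δ * T = x ^ 2 + x + 1 ∧ δ * N = x ^ 2 - x) ∨
       (N % 4 = 0 ∧ (p : ℤ) = |x| ∧
        ∃ a : ℤ, 1 ≤ a ∧ a % 2 = 1 ∧ δ * T = a * (x ^ 2 + x + 1) ∧ δ * N = a * (x ^ 2 + x)))) ∨
      (N % 8 = 2 ∧ T = x ^ 2 + x + 1 ∧ N = x ^ 2 + 1) ∨
      (x, T, N) ∈ excE2)) := by
  rcases h with ⟨hx4, hx5, h⟩ | ⟨hx4, hx5, h⟩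
  · refine Or.inl ⟨hx4, hx5, ?_⟩
    obtain ⟨t, rfl⟩ : ∃ t, x = 4 * t + 1 := ⟨x / 4, by omega⟩
    rcases h with ⟨h1, h2⟩ | ⟨h0, h1, h2⟩ | h | hexc
    · exact Or.inl ⟨h1, h2⟩
    · exfalso
      have e : (4 * t + 1) ^ 2 + (4 * t + 1) = 2 * (2 * (4 * t ^ 2 + 3 * t) + 1) := by ring
      rw [e] at h2
      clear * - h2 hN
      omega
    · exact Or.inr (Or.inl h)
    · exact Or.inr (Or.inr (excI_even hN hexc))
  · refine Or.inr ⟨hx4, hx5, ?_⟩
    obtain ⟨t, rfl⟩ : ∃ t, x = 4 * t + 3 := ⟨x / 4, by omega⟩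
    rcases h with ⟨δ, hδ, h⟩ | ⟨h1, h2⟩ | hexc
    · left
      refine ⟨δ, hδ, ?_⟩
      rcases h with ⟨h1, h2⟩ | ⟨h0, h1, h2⟩ | ⟨h0, a, ha, hao, h1, h2⟩
      · left
        refine ⟨?_, h1, h2⟩
        obtain ⟨w, hw⟩ : ∃ w, 2 * t ^ 2 + 3 * t + 1 = w := ⟨_, rfl⟩
        have e : (4 * t + 3) ^ 2 - 1 = 8 * w := by rw [← hw]; ring
        rw [e] at h2
        clear * - h2 hδ
        rcases hδ with rfl | rfl <;> omega
      · right; left
        refine ⟨?_, h0, h1, h2⟩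
        obtain ⟨w, hw⟩ : ∃ w, 4 * t ^ 2 + 5 * t + 1 = w := ⟨_, rfl⟩
        have e : (4 * t + 3) ^ 2 - (4 * t + 3) = 4 * w + 2 := by rw [← hw]; ring
        rw [e] at h2
        clear * - h2 hδ
        rcases hδ with rfl | rfl <;> omega
      · right; right
        refine ⟨?_, h0, a, ha, hao, h1, h2⟩
        obtain ⟨w, hw⟩ : ∃ w, a * (4 * t ^ 2 + 7 * t + 3) = w := ⟨_, rfl⟩
        have e : a * ((4 * t + 3) ^ 2 + (4 * t + 3)) = 4 * w := by rw [← hw]; ring
        rw [e] at h2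
        clear * - h2 hδ
        rcases hδ with rfl | rfl <;> omega
    · right; left
      refine ⟨?_, h1, h2⟩
      obtain ⟨w, hw⟩ : ∃ w, 2 * t ^ 2 + 3 * t + 1 = w := ⟨_, rfl⟩
      have e : (4 * t + 3) ^ 2 + 1 = 8 * w + 2 := by rw [← hw]; ring
      rw [e] at h2
      clear * - h2
      omega
    · exact Or.inr (Or.inr (excII_even hN hexc))

namespace Cand

variable {p M : ℕ} {x : ℤ} {S : Type*} [Group S] (h : Cand p x M S)

include h

/-- the pair lemma, `N` odd -/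
theorem pair_odd {T N : ℕ} (hT : ∃ g : S, orderOf g = T) (hMT : M ∣ T) (hN : ∃ g : S, orderOf g = N)
    (hodd : N % 2 = 1) (hNM : Nat.Coprime N M) (hK : ((T : ℤ) - N) ^ 2 ≤ 5 * T) :
    ((p : ℤ) = x ∧ x % 4 = 1 ∧ 5 ≤ x ∧ 2 * (T : ℤ) = x ^ 2 + 1 ∧ 2 * (N : ℤ) = x ^ 2 + x) ∨
      (x, (T : ℤ), (N : ℤ)) ∈ excOdd :=
  out_odd (by omega) (h.pair hT hMT hN (by omega) hNM hK)

/-- `gcd (T, N) ∣ 3` by a Bezout identity -/
theorem coprime_of_bezout {T N : ℕ} (hT : M ∣ T) (a b : ℤ)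
    (hab : a * T + b * N = 3 ∨ a * T + b * N = 1) : Nat.Coprime N M := by
  refine Nat.coprime_of_dvd fun k hk h1 h2 => ?_
  have h3 : (k : ℤ) ∣ a * T + b * N :=
    dvd_add ((Int.natCast_dvd_natCast.2 (h2.trans hT)).mul_left _) ((Int.natCast_dvd_natCast.2 h1).mul_left _)
  rcases hab with hab | hab
  · rw [hab] at h3
    have h4 : k ∣ 3 := by exact_mod_cast h3
    have h5 := (Nat.prime_dvd_prime_iff_eq hk Nat.prime_three).1 h4
    exact h.not_three (h5 ▸ h2)
  · rw [hab] at h3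
    have h4 : k ∣ 1 := by exact_mod_cast h3
    exact hk.one_lt.ne' (Nat.dvd_one.1 h4)

end Cand

end Cfsg.Agent.R2.Spec.X3

private theorem dce_5b6286cb72df : _root_.True := by
  try have : _root_.True := by simp only [_root_.Cfsg.Agent.R2.Spec.X3.excE2.eq_1]
  try have : _root_.True := by simp only [_root_.Cfsg.Agent.R2.Spec.X3.excE1.eq_1]
  try have : _root_.True := by simp only [_root_.Cfsg.Agent.R2.Spec.X3.excOdd.eq_1]
  exact _root_.True.intro
end
end
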